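import Cfsg.Agent.J4DC.Nucleus

/-!
# The cube of y t^w is the element of the sextet
-/

set_option autoImplicit false
set_option maxRecDepth 100000

namespace Cfsg.Agent.J4DC

open Cfsg Cfsg.Agent.Compute Cfsg.Agent.CosetCert Cfsg.Agent.J4M24

local notation "J" => Cfsg.Spor.J4

/-- The word `w = (y x) ^ 4 * y⁻¹ * x`. -/
def wordW : Word :=
  [(1, true), (0, true), (1, true), (0, true), (1, true), (0, true), (1, true), (0, true),
    (1, false), (0, true)]

/-- Three times `y`, then the conjugate of t by w. -/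
def cubeRaw : Raw := (List.replicate 3 (some ((1 : Fin 2), true) :: rconj wordW)).flatten

theorem cube_match : matchB trioChain [] cubeRaw
    (nucTri.reverse.flatMap fun z => rconj (nucPts.word.getD z [])) = true := by decide +kernel

theorem cube_eq : (J4DC.val [(1, true)] * conjW gt wordW) ^ 3 = nucU := by
  have h := evR_of_match tSym cube_match
  rw [val_nil, inv_one, one_mul, mul_one, show tSym.c = gt from rfl] at h
  have h2 : evR gt (nucTri.reverse.flatMap fun z => rconj (nucPts.word.getD z [])) = nucU := by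
    have e : ∀ l : List Nat, evR gt (l.flatMap fun z => rconj (nucPts.word.getD z [])) =
        (l.map (nucPts.pt tSym)).prod := fun l => Pts.evR_raw nucPts tSym l
    rw [e, prod_reverse, ← nucU]
    exact inv_eq_of_mul_eq_one_right nucU_sq
  rw [h2] at h
  rw [← h]
  have hc : evR gt (some ((1 : Fin 2), true) :: rconj wordW) =
      J4DC.val [(1, true)] * conjW gt wordW := by
    rw [← evR_rconj]; simp [evR, letR]
  rw [cubeRaw, pow_three]
  simp only [List.replicate, List.flatten_cons, List.flatten_nil, List.append_nil]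
  rw [evR_append, evR_append, hc]

theorem gen_eq :
    PresentedGroup.mk (Spor.coxRelators Spor.J4.edges ∪ {r | r ∈ Spor.J4.extra})
      ((Spor.J4.y * ((Spor.J4.y * Spor.J4.x) ^ 4 * Spor.J4.y⁻¹ * Spor.J4.x)⁻¹ * Spor.J4.t *
        ((Spor.J4.y * Spor.J4.x) ^ 4 * Spor.J4.y⁻¹ * Spor.J4.x)) ^ 3) = nucU := by
  have hw : PresentedGroup.mk (Spor.coxRelators Spor.J4.edges ∪ {r | r ∈ Spor.J4.extra})
      ((Spor.J4.y * Spor.J4.x) ^ 4 * Spor.J4.y⁻¹ * Spor.J4.x) = J4DC.val wordW := by
    have hx : J4DC.val [((0 : Fin 2), true)] = PresentedGroup.of Spor.J4.Gen.x := val_letter 0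
    have hy : J4DC.val [((1 : Fin 2), true)] = PresentedGroup.of Spor.J4.Gen.y := val_letter 1
    have hy' : J4DC.val [((1 : Fin 2), false)] = (PresentedGroup.of Spor.J4.Gen.y)⁻¹ :=
      (val_flip (1, true)).trans (congrArg (·⁻¹) hy)
    have e : wordW = [(1, true)] ++ [(0, true)] ++ [(1, true)] ++ [(0, true)] ++ [(1, true)] ++
        [(0, true)] ++ [(1, true)] ++ [(0, true)] ++ [(1, false)] ++ [(0, true)] := rfl
    rw [e]
    simp only [val_append, hx, hy, hy', pow_succ, pow_zero, one_mul, map_mul, map_inv, mul_assoc]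
    rfl
  rw [← cube_eq, map_pow, map_mul, map_mul, map_mul, map_inv, hw, conjW, val_letter 1]
  simp only [mul_assoc]
  rfl

end Cfsg.Agent.J4DC
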