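import Cfsg.Agent.J4DC.Rules
import Cfsg.Agent.DCoset.WalkCover
import Cfsg.Agent.J4Lower.Index
import Cfsg.Agent.J4DC.GenU

/-!
# From a certificate to the index of 2 ^ 11 : M24 in the presented J4
-/

set_option autoImplicit false
set_option maxRecDepth 100000

namespace Cfsg.Agent.J4DC

open Cfsg Cfsg.Agent.Compute Cfsg.Agent.CosetCert Cfsg.Agent.DCoset Cfsg.Agent.DCoset.J4W
  Cfsg.Agent.J4M24 Cfsg.Agent.J4Aff

local notation "J" => Cfsg.Spor.J4

theorem nucU_ne_one_moves : J4Rep.rho nucU = 1 → False := by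
  intro h
  have hw : evR gt (nucTri.flatMap fun z => rconj (nucPts.word.getD z [])) = nucU := by
    rw [← conjW_nil nucU, ← prod_conj_tri []]
    simp
  rw [← hw, evR_genLet] at h
  have hb : Nat.beq (J4Rep.run J4Rep.mat
      ((nucTri.flatMap fun z => rconj (nucPts.word.getD z [])).map genLet) 1) 1 = false := by
    decide +kernel
  exact J4Lower.im_ne_one (v := 1) (by norm_num) hb (Subtype.ext h)

theorem nucU_ne_one : nucU ≠ 1 := fun h => nucU_ne_one_moves (by rw [h, map_one])

theorem hu : phi uV ≠ 1 := phi_uV ▸ nucU_ne_one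

theorem hiota (b : Fin 2) : iota24 (PresentedGroup.of b) = PresentedGroup.of (jGen b) := iota24_of b

theorem card_range_iota : Nat.card iota.range = 501397585920 :=
  J4Aff.card_range iota24 phi phi_equiv hu

theorem range_gen :
    Subgroup.closure (Set.range iota ∪ {x | ∃ t, t < rules.nT ∧ x = tEl t}) = ⊤ := by
  rw [eq_top_iff, ← PresentedGroup.closure_range_of, Subgroup.closure_le]
  rintro _ ⟨g, rfl⟩
  refine Subgroup.subset_closure ?_
  cases g
  · exact Or.inl ⟨_, (iotaOf_inr iota24 phi phi_equiv _).trans (hiota 0)⟩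
  · exact Or.inl ⟨_, (iotaOf_inr iota24 phi phi_equiv _).trans (hiota 1)⟩
  · exact Or.inr ⟨1, by decide, rfl⟩

/-- The index, given a certificate. -/
theorem index_eq (D : Steps) (C : WalkCover)
    (hsteps : ∀ s, s < D.len → Steps.check D rules tab s = true)
    (hsrc : ∀ j, 1 ≤ j → j < D.nNode → D.nodeSrc j < j)
    (hG : C.nG = 4) (hV : C.Valid D rules tab 501397585920)
    (hsum : ((List.range C.nLive).map C.idx).sum = 173067389) :
    iota.range.index = 173067389 := by
  have := qaff_finite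
  have hF : ∀ s, s < D.len → D.Holds rules (model9.toModel iota) iota.range tEl s :=
    Steps.holds sound (fun g _ => (⟨q9 g, rfl⟩ : iota (q9 g) ∈ iota.range)) hsrc
      (show 0 < 2 by norm_num) hsteps
  obtain ⟨hne, hle⟩ := WalkCover.index_le (P := model9) iota tEl qaff_card.le
    (hG ▸ model9_gens) range_gen sound hV hF
  rw [hsum] at hle
  exact J4Lower.index_eq _ (card_range_iota.dvd) hne hle

/-- The subgroup of the statement is the range. -/
theorem range_eq_words : iota.range =
    (Subgroup.closure ({Spor.J4.x, Spor.J4.y, (Spor.J4.y * ((Spor.J4.y * Spor.J4.x) ^ 4 *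
      Spor.J4.y⁻¹ * Spor.J4.x)⁻¹ * Spor.J4.t * ((Spor.J4.y * Spor.J4.x) ^ 4 * Spor.J4.y⁻¹ *
      Spor.J4.x)) ^ 3} : Set (FreeGroup Spor.J4.Gen))).map
      (PresentedGroup.mk (Spor.coxRelators Spor.J4.edges ∪ {r | r ∈ Spor.J4.extra})) := by
  rw [iota, J4Aff.range_eq iota24 phi phi_equiv hiota, MonoidHom.map_closure]
  simp only [Set.image_insert_eq, Set.image_singleton]
  rw [gen_eq, phi_uV]
  rfl

theorem rM_moves : ((List.range 24).any fun i => !(Nat.beq (rep24.act (evalCode rM) i) i)) = true := by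
  decide +kernel

theorem rM_ne_one : qW rM ≠ 1 := by
  intro h
  obtain ⟨i, hi, he⟩ := List.any_eq_true.1 rM_moves
  rw [List.mem_range] at hi
  obtain ⟨h1, h2⟩ := (⟨rep24.act_lt _ _ (evalCode_spec rM).1 hi,
    rep24.act_spec _ _ (evalCode_spec rM).1 hi⟩ : _ ∧ _)
  rw [← toPerms_qW, h, map_one, one_smul] at h2
  rw [← rep24.pt_inj _ _ hi h1 h2] at he
  simp at he

/-- An element of 2 ^ 11 that t moves out of it. -/
theorem hmix : ∃ (g : J) (e : V) (a : QAff), g * phi e * g⁻¹ = iota a ∧ a.right ≠ 1 := by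
  set e := lam (qW rS11)⁻¹ uV
  have he : phi e = rN := by
    have h : phi (lam (qW rS11)⁻¹ uV) = iota24 (qW rS11)⁻¹ * phi uV * (iota24 (qW rS11)⁻¹)⁻¹ :=
      DFunLike.congr_fun (equiv_all iota24 phi phi_equiv (qW rS11)⁻¹) uV
    rw [h, phi_uV, map_inv, inv_inv]
    rfl
  refine ⟨gt, e, SemidirectProduct.inl e * SemidirectProduct.inr (qW rM), ?_, ?_⟩
  · rw [inv_eq_of_mul_eq_one_right gt_sq, he, gt_conj_rN, iota, map_mul, iotaOf_inl, iotaOf_inr, he]
    rfl
  · rw [SemidirectProduct.mul_right, SemidirectProduct.right_inl, SemidirectProduct.right_inr,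
      one_mul]
    exact rM_ne_one

/-- The presented J4 is simple of the expected order, given the index. -/
theorem isJ4 (hidx : iota.range.index = 173067389) : IsJ4 J :=
  J4Aff.isJ4_of iota24 hiota phi phi_equiv hu hidx hmix

end Cfsg.Agent.J4DC
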