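import Cfsg.Agent.J4M24.Main

/-!
# Words in x and y inside the presented J4

A word in `x`, `y` is determined in the presented J4 by its permutation of the 24 points, and a
word whose permutation lies in a certified subgroup commutes with whatever its generators commute
with.
-/

set_option autoImplicit false

namespace Cfsg.Agent.J4DC

open Cfsg Cfsg.Agent.Compute Cfsg.Agent.CosetCert Cfsg.Agent.J4M24

local notation "J" => Cfsg.Spor.J4

/-- A word in the signed letters `x`, `y`. -/
abbrev Word : Type := List (Fin 2 × Bool)

/-- The third generator. -/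
def gt : J := PresentedGroup.of Spor.J4.Gen.t

/-- The inverse word. -/
def winv (w : Word) : Word := FreeGroup.invRev w

theorem exists_iota24 : ∃ f : Q →* J, ∀ b, f (PresentedGroup.of b) = PresentedGroup.of (jGen b) := by
  obtain ⟨ι, hι⟩ := exists_rename J4M24Q.relWords jGen rels_j4
  exact ⟨ι, fun b => by
    rw [show (PresentedGroup.of b : Q) = PresentedGroup.mk _ (FreeGroup.of b) from rfl, hι,
      FreeGroup.map.of]; rfl⟩

/-- The map from the group presented by the seven relators. -/
noncomputable def iota24 : Q →* J := exists_iota24.choose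

theorem iota24_of (b : Fin 2) : iota24 (PresentedGroup.of b) = PresentedGroup.of (jGen b) :=
  exists_iota24.choose_spec b

theorem toPerms_injective : Function.Injective toPerms := by
  obtain ⟨e⟩ := q_equiv_m24
  have := Finite.of_equiv _ e.toEquiv.symm
  let f : Q →* M24 := toPerms.codRestrict M24 fun q => range_toPerms ▸ ⟨q, rfl⟩
  have hf : Function.Surjective f := by
    rintro ⟨g, hg⟩
    obtain ⟨q, rfl⟩ : g ∈ toPerms.range := range_toPerms.symm ▸ hg
    exact ⟨q, rfl⟩
  have hb : Function.Bijective f :=
    (Nat.bijective_iff_surjective_and_card f).2 ⟨hf, Nat.card_congr e.toEquiv⟩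
  exact fun a b h => hb.1 (Subtype.ext h)

theorem iota24_injective : Function.Injective iota24 := by
  obtain ⟨e⟩ := q_equiv_m24
  have : IsSimpleGroup M24 := isSimpleGroup_m24
  have : IsSimpleGroup Q := e.isSimpleGroup
  rcases iota24.normal_ker.eq_bot_or_eq_top with h | h
  · exact (MonoidHom.ker_eq_bot_iff iota24).1 h
  · exfalso
    refine J4Rep.of_x_ne_one ?_
    have h0 : PresentedGroup.of (0 : Fin 2) ∈ iota24.ker := h ▸ Subgroup.mem_top _
    rw [MonoidHom.mem_ker, iota24_of] at h0
    exact h0

/-- The element of the presented M24 of a word. -/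
def qW (w : Word) : Q := PresentedGroup.mk _ (FreeGroup.mk w)

/-- The element of J4 of a word. -/
noncomputable def val (w : Word) : J := iota24 (qW w)

theorem qW_append (a b : Word) : qW (a ++ b) = qW a * qW b := by
  rw [qW, qW, qW, ← map_mul, FreeGroup.mul_mk]

theorem qW_winv (a : Word) : qW (winv a) = (qW a)⁻¹ := by
  rw [qW, qW, winv, ← map_inv, FreeGroup.inv_mk]

theorem val_nil : val [] = 1 := by
  rw [val, show qW [] = 1 from map_one _, map_one]

theorem val_append (a b : Word) : val (a ++ b) = val a * val b := by
  rw [val, val, val, qW_append, map_mul]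

theorem val_winv (a : Word) : val (winv a) = (val a)⁻¹ := by
  rw [val, val, qW_winv, map_inv]

theorem toPerms_qW (w : Word) : toPerms (qW w) = rep24.den (evalCode w) := by
  rw [(evalCode_spec w).2, qW, show toPerms (PresentedGroup.mk _ (FreeGroup.mk w)) =
    FreeGroup.lift xyPerm (FreeGroup.mk w) from rfl, FreeGroup.lift_mk]

theorem qW_eq_of_code {a b : Word} (h : Nat.beq (evalCode a) (evalCode b) = true) :
    qW a = qW b :=
  toPerms_injective (by rw [toPerms_qW, toPerms_qW, Nat.eq_of_beq_eq_true h])

theorem val_eq_of_code {a b : Word} (h : Nat.beq (evalCode a) (evalCode b) = true) :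
    val a = val b := by
  rw [val, val, qW_eq_of_code h]

theorem val_eq_one_of_code {a : Word} (h : Nat.beq (evalCode a) rep24.one = true) : val a = 1 := by
  rw [val_eq_of_code (b := []) h, val_nil]

/-- A chain for the subgroup generated by some words: the chain checks and each generator of its
top level is one of the words. -/
noncomputable def chainB (Ls : List Level) (S : List Word) : Bool :=
  rep24.checkChain Ls && (topGens Ls).all fun g => S.any fun w => Nat.beq (evalCode w) g

/-- The word sifts to the identity. -/
noncomputable def inChain (Ls : List Level) (w : Word) : Bool :=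
  Nat.beq (rep24.sift Ls (evalCode w)) rep24.one

theorem qW_mem_of_chain {Ls : List Level} {S : List Word} (hc : chainB Ls S = true) {w : Word}
    (h : inChain Ls w = true) : qW w ∈ Subgroup.closure {q | ∃ s ∈ S, qW s = q} := by
  simp only [chainB, Bool.and_eq_true, List.all_eq_true, List.any_eq_true] at hc
  have hm := rep24.mem_of_sift Ls hc.1 (evalCode_spec w).1 (Nat.eq_of_beq_eq_true h)
  have hle : rep24.chainGroup Ls ≤
      (Subgroup.closure {q | ∃ s ∈ S, qW s = q}).map toPerms := by
    rw [Rep.chainGroup, Rep.span, Subgroup.closure_le]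
    rintro _ ⟨g, hg, rfl⟩
    obtain ⟨s, hs, he⟩ := hc.2 g hg
    exact ⟨qW s, Subgroup.subset_closure ⟨s, hs, rfl⟩,
      by rw [toPerms_qW, Nat.eq_of_beq_eq_true he]⟩
  obtain ⟨q, hq, he⟩ := hle hm
  rw [← toPerms_qW] at he
  exact toPerms_injective he ▸ hq

theorem commute_of_chain {Ls : List Level} {S : List Word} (hc : chainB Ls S = true) {c : J}
    (hS : ∀ s ∈ S, Commute c (val s)) {w : Word} (h : inChain Ls w = true) :
    Commute c (val w) := by
  have hm := qW_mem_of_chain hc h
  have hle : Subgroup.closure {q | ∃ s ∈ S, qW s = q} ≤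
      (Subgroup.centralizer {c}).comap iota24 := by
    rw [Subgroup.closure_le]
    rintro _ ⟨s, hs, rfl⟩
    show iota24 (qW s) ∈ Subgroup.centralizer {c}
    rw [Subgroup.mem_centralizer_iff]
    rintro _ rfl
    exact hS s hs
  have h2 := hle hm
  rw [Subgroup.mem_comap, Subgroup.mem_centralizer_iff] at h2
  exact h2 c rfl

end Cfsg.Agent.J4DC
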