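import Cfsg.Agent.J4DC.Points

/-! Generated (tools/j4dc): sextets generated by thirteen seeds. -/

set_option autoImplicit false
set_option maxRecDepth 100000

namespace Cfsg.Agent.J4DC

/-- The words of the points; the first thirteen are the seeds. -/
def cloWord : List Word := [
    [],
    [(0, true), (1, false), (0, true), (1, true), (0, true), (1, false), (0, true), (1, true), (0, true), (1, false), (0, true), (1, true), (0, true), (1, false), (0, true), (1, true), (0, true), (1, false)],
    [(0, true), (1, true), (0, true), (1, false), (0, true), (1, true), (0, true), (1, false), (0, true), (1, false), (0, true), (1, false), (0, true), (1, true), (0, true), (1, false), (0, true), (1, false), (0, true)],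
    [(0, true), (1, true), (0, true), (1, true), (0, true), (1, false), (0, true), (1, false), (0, true), (1, true)],
    [(0, true), (1, false), (0, true), (1, false), (0, true), (1, true), (0, true), (1, true), (0, true), (1, true), (0, true), (1, false), (0, true), (1, true), (0, true), (1, true), (0, true), (1, false), (0, true)],
    [(0, true), (1, true), (0, true), (1, false), (0, true), (1, false), (0, true), (1, true), (0, true), (1, true), (0, true), (1, false), (0, true), (1, true), (0, true), (1, false), (0, true), (1, false)],
    [(0, true), (1, false), (0, true), (1, true), (0, true), (1, true), (0, true), (1, false), (0, true), (1, true), (0, true), (1, true), (0, true), (1, false), (0, true), (1, false), (0, true), (1, true), (0, true), (1, true), (0, true)],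
    [(0, true), (1, false), (0, true), (1, false), (0, true), (1, true), (0, true), (1, true), (0, true), (1, false), (0, true), (1, false), (0, true), (1, false), (0, true), (1, false)],
    [(0, true), (1, true), (0, true), (1, false), (0, true), (1, true), (0, true), (1, true), (0, true), (1, true), (0, true), (1, true), (0, true), (1, true), (0, true), (1, true), (0, true), (1, true), (0, true), (1, false), (0, true), (1, false)],
    [(0, true), (1, true), (0, true), (1, true), (0, true), (1, false), (0, true), (1, true), (0, true), (1, false), (0, true), (1, true), (0, true), (1, false), (0, true), (1, false), (0, true), (1, true)],
    [(0, true), (1, false), (0, true), (1, true), (0, true), (1, false), (0, true), (1, true), (0, true), (1, false), (0, true), (1, false), (0, true), (1, false), (0, true), (1, false), (0, true)],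
    [(0, true), (1, true), (0, true), (1, false), (0, true), (1, true), (0, true), (1, false), (0, true), (1, true), (0, true), (1, false), (0, true), (1, false)],
    [(0, true), (1, false), (0, true), (1, true), (0, true), (1, false), (0, true), (1, true), (0, true), (1, true), (0, true), (1, true), (0, true), (1, true), (0, true), (1, false), (0, true), (1, true), (0, true), (1, true), (0, true)],
    [(0, true), (1, true), (0, true), (1, false), (0, true), (1, true), (0, true), (1, false), (0, true), (1, true), (0, true), (1, false), (0, true), (1, true)],
    [(0, true), (1, true), (0, true), (1, false), (0, true), (1, true), (0, true), (1, false), (0, true), (1, false), (0, true), (1, false), (0, true), (1, true), (0, true), (1, false), (0, true), (1, true), (0, true), (1, false), (0, true)],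
    [(0, true), (1, true), (0, true), (1, true), (0, true), (1, false), (0, true), (1, false), (0, true), (1, false)],
    [(0, true), (1, false), (0, true), (1, false), (0, true), (1, false), (0, true), (1, false), (0, true), (1, false), (0, true), (1, false), (0, true), (1, false), (0, true), (1, false), (0, true), (1, false), (0, true), (1, true), (0, true), (1, false)],
    [(0, true), (1, true), (0, true), (1, true), (0, true), (1, true), (0, true), (1, true), (0, true), (1, false), (0, true), (1, false), (0, true), (1, true), (0, true), (1, false), (0, true), (1, false)],
    [(0, true), (1, false), (0, true), (1, true), (0, true), (1, false), (0, true), (1, true), (0, true), (1, true), (0, true), (1, false), (0, true), (1, false), (0, true), (1, true), (0, true), (1, true), (0, true)],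
    [(0, true), (1, true), (0, true), (1, false), (0, true), (1, true), (0, true), (1, true), (0, true), (1, false), (0, true), (1, true), (0, true), (1, false), (0, true)],
    [(0, true), (1, false), (0, true), (1, true), (0, true), (1, false), (0, true), (1, false), (0, true), (1, false), (0, true), (1, true), (0, true), (1, true), (0, true), (1, true), (0, true), (1, true), (0, true), (1, true), (0, true)],
    [(0, true), (1, true), (0, true), (1, true), (0, true), (1, false), (0, true), (1, true), (0, true), (1, false), (0, true), (1, false), (0, true), (1, false), (0, true), (1, true)],
    [(0, true), (1, false), (0, true), (1, true), (0, true), (1, false), (0, true), (1, false), (0, true), (1, false), (0, true), (1, false), (0, true), (1, true), (0, true), (1, true), (0, true), (1, false), (0, true), (1, false), (0, true), (1, false), (0, true), (1, false)],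
    [(0, true), (1, false), (0, true), (1, true), (0, true), (1, true), (0, true), (1, false), (0, true), (1, false), (0, true), (1, false), (0, true), (1, true), (0, true), (1, false)],
    [(0, true), (1, true), (0, true), (1, true), (0, true), (1, false), (0, true), (1, true), (0, true), (1, true), (0, true), (1, true), (0, true), (1, false), (0, true), (1, true), (0, true), (1, false), (0, true), (1, false)],
    [(0, true), (1, true), (0, true), (1, false), (0, true), (1, false), (0, true), (1, true), (0, true), (1, true), (0, true), (1, false), (0, true), (1, true), (0, true), (1, false), (0, true), (1, true)],
    [(0, true), (1, true), (0, true), (1, true), (0, true), (1, false), (0, true), (1, false), (0, true), (1, false), (0, true), (1, true), (0, true), (1, false), (0, true), (1, false), (0, true), (1, false), (0, true), (1, true), (0, true)],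
    [(0, true), (1, true), (0, true), (1, false), (0, true), (1, true), (0, true), (1, false), (0, true), (1, false), (0, true), (1, false), (0, true), (1, true), (0, true), (1, false), (0, true), (1, true), (0, true), (1, false), (0, true), (1, true)],
    [(0, true), (1, true), (0, true), (1, true), (0, true), (1, false), (0, true), (1, false), (0, true), (1, false), (0, true), (1, true), (0, true), (1, false), (0, true), (1, false), (0, true), (1, false), (0, true), (1, true), (0, true), (1, true)],
    [(0, true), (1, false), (0, true), (1, false), (0, true), (1, false), (0, true), (1, false), (0, true), (1, false), (0, true), (1, true)],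
    [(0, true), (1, true), (0, true), (1, false), (0, true), (1, true), (0, true), (1, true), (0, true), (1, false), (0, true), (1, true), (0, true), (1, true)],
    [(0, true), (1, false), (0, true), (1, true), (0, true), (1, false), (0, true), (1, false), (0, true), (1, false), (0, true), (1, true), (0, true), (1, true), (0, true), (1, false), (0, true), (1, true)],
    [(0, true), (1, false), (0, true), (1, true), (0, true), (1, false), (0, true), (1, true), (0, true), (1, true), (0, true), (1, true), (0, true), (1, false), (0, true), (1, false), (0, true)],
    [(0, true), (1, false), (0, true), (1, true), (0, true), (1, true), (0, true), (1, false), (0, true), (1, false), (0, true), (1, false), (0, true), (1, true), (0, true), (1, true), (0, true), (1, true)],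
    [(0, true), (1, false), (0, true), (1, true), (0, true), (1, true), (0, true), (1, true), (0, true), (1, false), (0, true), (1, false), (0, true), (1, true), (0, true), (1, false)],
    [(0, true), (1, true), (0, true), (1, false), (0, true), (1, false), (0, true), (1, false), (0, true), (1, true)],
    [(0, true), (1, true), (0, true), (1, false), (0, true), (1, true), (0, true), (1, false), (0, true), (1, true), (0, true), (1, false), (0, true)],
    [(0, true), (1, false), (0, true), (1, false), (0, true), (1, false), (0, true), (1, false), (0, true), (1, false), (0, true), (1, false), (0, true), (1, false), (0, true), (1, false), (0, true), (1, false), (0, true), (1, true), (0, true), (1, true)],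
    [(0, true), (1, false), (0, true), (1, false), (0, true), (1, true), (0, true), (1, true), (0, true), (1, true), (0, true), (1, false), (0, true), (1, false), (0, true), (1, false), (0, true), (1, false), (0, true), (1, false)],
    [(0, true), (1, false), (0, true), (1, true), (0, true), (1, false), (0, true), (1, false), (0, true), (1, false), (0, true), (1, true), (0, true), (1, false), (0, true), (1, true), (0, true)],
    [(0, true), (1, false), (0, true), (1, true), (0, true), (1, false), (0, true), (1, false), (0, true), (1, false), (0, true), (1, false), (0, true), (1, true), (0, true), (1, true), (0, true), (1, false), (0, true), (1, false), (0, true), (1, false), (0, true), (1, false), (0, true)],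
    [(0, true), (1, true), (0, true), (1, false), (0, true), (1, true), (0, true), (1, false), (0, true), (1, true), (0, true), (1, false), (0, true), (1, true), (0, true)],
    [(0, true), (1, true), (0, true), (1, true), (0, true), (1, true), (0, true), (1, false), (0, true), (1, false), (0, true), (1, false), (0, true), (1, true), (0, true), (1, true), (0, true), (1, false), (0, true), (1, false), (0, true), (1, true), (0, true), (1, false), (0, true), (1, false)],
    [(0, true), (1, true), (0, true), (1, true), (0, true), (1, true), (0, true), (1, false), (0, true), (1, true), (0, true), (1, false), (0, true), (1, false), (0, true)],
    [(0, true), (1, false), (0, true), (1, true), (0, true), (1, true), (0, true), (1, false), (0, true), (1, true), (0, true), (1, true), (0, true), (1, false), (0, true), (1, false), (0, true), (1, true), (0, true), (1, true), (0, true), (1, false)],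
    [(0, true), (1, true), (0, true), (1, false), (0, true), (1, true), (0, true), (1, false), (0, true), (1, false), (0, true), (1, true), (0, true), (1, true), (0, true), (1, false), (0, true)],
    [(0, true), (1, true), (0, true), (1, false), (0, true), (1, true), (0, true), (1, true), (0, true), (1, false), (0, true), (1, true), (0, true), (1, false), (0, true), (1, false)],
    [(0, true), (1, false), (0, true), (1, true), (0, true), (1, false), (0, true), (1, true), (0, true), (1, false), (0, true), (1, true), (0, true), (1, false), (0, true), (1, true), (0, true), (1, true)],
    [(0, true), (1, false), (0, true), (1, false), (0, true), (1, false), (0, true), (1, true), (0, true), (1, false), (0, true), (1, true), (0, true), (1, false), (0, true), (1, true), (0, true), (1, true), (0, true), (1, false)],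
    [(0, true), (1, false), (0, true), (1, true), (0, true), (1, true), (0, true), (1, false), (0, true), (1, false), (0, true), (1, false), (0, true), (1, true), (0, true), (1, true), (0, true), (1, false)],
    [(0, true), (1, false), (0, true), (1, true), (0, true), (1, false), (0, true), (1, false), (0, true), (1, false), (0, true), (1, false), (0, true), (1, true), (0, true), (1, true), (0, true), (1, false), (0, true), (1, false), (0, true), (1, false), (0, true)],
    [(0, true), (1, false), (0, true), (1, true), (0, true), (1, false), (0, true), (1, true), (0, true), (1, false), (0, true), (1, true), (0, true), (1, false), (0, true), (1, true), (0, true)],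
    [(0, true), (1, true), (0, true), (1, true), (0, true), (1, false), (0, true), (1, true), (0, true), (1, false), (0, true), (1, true), (0, true), (1, false), (0, true), (1, true)],
    [(0, true), (1, false), (0, true), (1, true), (0, true), (1, true), (0, true), (1, true), (0, true), (1, true), (0, true), (1, false), (0, true), (1, false), (0, true), (1, false), (0, true), (1, false), (0, true), (1, true), (0, true)],
    [(0, true), (1, false), (0, true), (1, false), (0, true), (1, true), (0, true), (1, true), (0, true), (1, true), (0, true), (1, false), (0, true), (1, false), (0, true), (1, true), (0, true), (1, true), (0, true), (1, true), (0, true), (1, true), (0, true), (1, false)],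
    [(0, true), (1, true), (0, true), (1, true), (0, true), (1, true), (0, true), (1, false), (0, true), (1, true), (0, true), (1, false), (0, true), (1, false), (0, true), (1, true), (0, true), (1, false), (0, true), (1, true), (0, true), (1, false)],
    [(0, true), (1, true), (0, true), (1, false), (0, true), (1, true), (0, true), (1, true), (0, true), (1, false), (0, true), (1, true), (0, true), (1, false), (0, true), (1, true)],
    [(0, true), (1, true), (0, true), (1, false), (0, true), (1, true), (0, true), (1, false), (0, true), (1, false), (0, true), (1, true), (0, true), (1, false), (0, true), (1, true)],
    [(0, true), (1, true), (0, true), (1, false), (0, true), (1, false), (0, true), (1, true), (0, true), (1, false), (0, true), (1, false), (0, true), (1, false), (0, true), (1, true), (0, true), (1, true), (0, true)],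
    [(0, true), (1, true), (0, true), (1, true), (0, true), (1, false), (0, true), (1, false), (0, true), (1, false), (0, true), (1, true), (0, true), (1, false), (0, true), (1, true), (0, true), (1, true)],
    [(0, true), (1, true), (0, true), (1, true), (0, true), (1, false), (0, true), (1, true), (0, true), (1, false), (0, true), (1, true), (0, true), (1, false), (0, true), (1, true), (0, true), (1, true), (0, true), (1, false), (0, true)],
    [(0, true), (1, false), (0, true), (1, false), (0, true), (1, false), (0, true), (1, false), (0, true), (1, false), (0, true), (1, false), (0, true), (1, false), (0, true), (1, false), (0, true), (1, false), (0, true), (1, true), (0, true)],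
    [(0, true), (1, true), (0, true), (1, false), (0, true), (1, false), (0, true), (1, true), (0, true), (1, true), (0, true), (1, false), (0, true), (1, true), (0, true), (1, false), (0, true)],
    [(0, true), (1, true), (0, true), (1, false), (0, true), (1, true), (0, true), (1, false), (0, true), (1, false), (0, true), (1, true), (0, true), (1, false), (0, true)],
    [(0, true), (1, true), (0, true), (1, true), (0, true), (1, false), (0, true), (1, false), (0, true), (1, false), (0, true), (1, true), (0, true), (1, false), (0, true), (1, true), (0, true)],
    [(0, true), (1, false), (0, true), (1, true), (0, true), (1, true), (0, true), (1, false), (0, true), (1, false), (0, true), (1, true), (0, true), (1, false), (0, true), (1, true), (0, true), (1, false), (0, true), (1, false), (0, true), (1, true)],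
    [(0, true), (1, false), (0, true), (1, false), (0, true), (1, true), (0, true), (1, true), (0, true), (1, true), (0, true), (1, false), (0, true), (1, false), (0, true), (1, true), (0, true)],
    [(0, true), (1, true), (0, true), (1, true), (0, true), (1, false), (0, true), (1, true), (0, true), (1, false), (0, true), (1, true), (0, true), (1, false), (0, true)],
    [(0, true), (1, false), (0, true), (1, false), (0, true), (1, true), (0, true), (1, true), (0, true), (1, true), (0, true), (1, false), (0, true), (1, false), (0, true), (1, true), (0, true), (1, true), (0, true), (1, true), (0, true), (1, true), (0, true), (1, true)],
    [(0, true), (1, true), (0, true), (1, false), (0, true), (1, false), (0, true), (1, true), (0, true), (1, false), (0, true), (1, false), (0, true), (1, false), (0, true), (1, false), (0, true), (1, false), (0, true)],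
    [(0, true), (1, true), (0, true), (1, false), (0, true), (1, false), (0, true), (1, true), (0, true), (1, false), (0, true), (1, false), (0, true), (1, false), (0, true), (1, false), (0, true), (1, false), (0, true), (1, true)],
    [(0, true), (1, false), (0, true), (1, true), (0, true), (1, false), (0, true), (1, true), (0, true), (1, true), (0, true), (1, false), (0, true), (1, false), (0, true), (1, true), (0, true), (1, true), (0, true), (1, true)],
    [(0, true), (1, true), (0, true), (1, false), (0, true), (1, false), (0, true), (1, true), (0, true), (1, true), (0, true), (1, true), (0, true), (1, true), (0, true), (1, false), (0, true), (1, false), (0, true), (1, false), (0, true)],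
    [(0, true), (1, true), (0, true), (1, false), (0, true), (1, true), (0, true), (1, false), (0, true), (1, false), (0, true), (1, false), (0, true), (1, true), (0, true), (1, false), (0, true), (1, false), (0, true), (1, true)],
    [(0, true), (1, false), (0, true), (1, true), (0, true), (1, false), (0, true), (1, false), (0, true), (1, false), (0, true), (1, true), (0, true), (1, false), (0, true), (1, true), (0, true), (1, false)],
    [(0, true), (1, false), (0, true), (1, false), (0, true), (1, true), (0, true), (1, true), (0, true), (1, false), (0, true), (1, true), (0, true), (1, false), (0, true), (1, true), (0, true), (1, false)],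
    [(0, true), (1, false), (0, true), (1, false), (0, true), (1, true), (0, true), (1, true), (0, true), (1, true), (0, true), (1, false), (0, true), (1, true), (0, true), (1, true), (0, true), (1, false), (0, true), (1, true)],
    [(0, true), (1, false), (0, true), (1, false), (0, true), (1, true), (0, true), (1, true), (0, true), (1, true), (0, true), (1, false), (0, true), (1, true), (0, true), (1, true), (0, true)],
    [(0, true), (1, false), (0, true), (1, true), (0, true), (1, true), (0, true), (1, false), (0, true), (1, false), (0, true), (1, false), (0, true), (1, true), (0, true), (1, true), (0, true)],
    [(0, true), (1, false), (0, true), (1, false), (0, true), (1, true), (0, true), (1, true), (0, true), (1, true), (0, true), (1, false), (0, true)],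
    [(0, true), (1, false), (0, true), (1, true), (0, true), (1, false), (0, true), (1, false), (0, true), (1, true), (0, true), (1, false), (0, true), (1, true), (0, true), (1, true), (0, true), (1, true)],
    [(0, true), (1, false), (0, true), (1, true), (0, true), (1, true), (0, true), (1, true), (0, true), (1, false), (0, true), (1, false), (0, true), (1, true), (0, true)],
    [(0, true), (1, true), (0, true), (1, true), (0, true), (1, true), (0, true), (1, false), (0, true), (1, false), (0, true), (1, false), (0, true), (1, true), (0, true), (1, true), (0, true), (1, false), (0, true), (1, false), (0, true), (1, true), (0, true)],
    [(0, true), (1, true), (0, true), (1, true), (0, true), (1, false), (0, true), (1, false), (0, true)],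
    [(0, true), (1, true), (0, true), (1, true), (0, true), (1, true), (0, true), (1, false), (0, true), (1, true), (0, true), (1, false), (0, true), (1, false), (0, true), (1, true)],
    [(0, true), (1, false), (0, true), (1, false), (0, true), (1, true), (0, true), (1, true), (0, true), (1, true), (0, true), (1, true), (0, true), (1, true), (0, true), (1, true)],
    [(0, true), (1, false), (0, true), (1, true), (0, true), (1, false), (0, true), (1, false), (0, true), (1, false), (0, true), (1, true), (0, true), (1, false), (0, true), (1, true), (0, true), (1, false), (0, true)],
    [(0, true), (1, true), (0, true), (1, false), (0, true), (1, true), (0, true), (1, false), (0, true), (1, false), (0, true), (1, true), (0, true), (1, false), (0, true), (1, false)],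
    [(0, true), (1, false), (0, true), (1, false), (0, true), (1, true), (0, true), (1, true), (0, true), (1, false), (0, true), (1, true), (0, true), (1, false), (0, true), (1, true), (0, true), (1, true)],
    [(0, true), (1, false), (0, true), (1, false), (0, true), (1, true), (0, true), (1, true), (0, true), (1, true), (0, true), (1, false), (0, true), (1, true), (0, true), (1, true), (0, true), (1, false), (0, true), (1, false)],
    [(0, true), (1, false), (0, true), (1, true), (0, true), (1, false), (0, true), (1, false), (0, true), (1, false), (0, true), (1, true), (0, true), (1, false), (0, true), (1, true), (0, true), (1, true)],
    [(0, true), (1, false), (0, true), (1, true), (0, true), (1, true), (0, true), (1, false), (0, true), (1, false), (0, true), (1, false), (0, true), (1, true), (0, true), (1, true)],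
    [(0, true), (1, true), (0, true), (1, true), (0, true), (1, false), (0, true), (1, false), (0, true), (1, false), (0, true), (1, true), (0, true), (1, false), (0, true), (1, false), (0, true), (1, false), (0, true), (1, false), (0, true), (1, true)],
    [(0, true), (1, true), (0, true), (1, true), (0, true), (1, true), (0, true), (1, false), (0, true), (1, true), (0, true), (1, false), (0, true), (1, true), (0, true), (1, true), (0, true), (1, true), (0, true)],
    [(0, true), (1, false), (0, true), (1, true), (0, true), (1, false), (0, true), (1, true), (0, true), (1, false), (0, true), (1, false), (0, true), (1, true), (0, true), (1, false)],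
    [(0, true), (1, true), (0, true), (1, true), (0, true), (1, true), (0, true), (1, false), (0, true), (1, true), (0, true), (1, false), (0, true), (1, false), (0, true), (1, true), (0, true), (1, false), (0, true), (1, true), (0, true)],
    [(0, true), (1, false), (0, true), (1, true), (0, true), (1, false), (0, true), (1, false), (0, true), (1, false), (0, true), (1, false), (0, true), (1, true), (0, true), (1, true), (0, true), (1, false), (0, true), (1, false), (0, true), (1, false), (0, true), (1, true)],
    [(0, true), (1, true), (0, true), (1, true), (0, true), (1, false), (0, true), (1, true)],
    [(0, true), (1, false), (0, true), (1, false), (0, true), (1, false), (0, true), (1, false), (0, true), (1, false), (0, true), (1, false), (0, true), (1, false), (0, true), (1, false), (0, true), (1, true), (0, true)],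
    [(0, true), (1, false), (0, true), (1, false), (0, true), (1, true), (0, true), (1, true), (0, true), (1, false), (0, true), (1, false), (0, true), (1, false), (0, true), (1, true), (0, true), (1, true), (0, true), (1, true), (0, true), (1, true)],
    [(0, true), (1, false), (0, true), (1, false), (0, true), (1, true), (0, true), (1, true), (0, true), (1, true), (0, true), (1, false), (0, true), (1, false), (0, true), (1, true), (0, true), (1, true), (0, true), (1, true), (0, true)],
    [(0, true), (1, true), (0, true), (1, true), (0, true), (1, true), (0, true), (1, false), (0, true), (1, true), (0, true), (1, false), (0, true), (1, true), (0, true), (1, false), (0, true), (1, false), (0, true)],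
    [(0, true), (1, false), (0, true), (1, true), (0, true), (1, false), (0, true), (1, true), (0, true), (1, false), (0, true), (1, true), (0, true), (1, false), (0, true), (1, true), (0, true), (1, true), (0, true)],
    [(0, true), (1, true), (0, true), (1, true), (0, true), (1, false), (0, true), (1, true), (0, true), (1, true), (0, true), (1, true), (0, true), (1, false), (0, true), (1, true), (0, true), (1, false), (0, true), (1, false), (0, true)],
    [(0, true), (1, true), (0, true), (1, true), (0, true), (1, false), (0, true), (1, false), (0, true), (1, true), (0, true), (1, false), (0, true), (1, false), (0, true), (1, true), (0, true), (1, false), (0, true), (1, true)],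
    [(0, true), (1, true), (0, true), (1, true), (0, true), (1, true), (0, true), (1, false), (0, true), (1, false), (0, true), (1, false), (0, true), (1, false), (0, true), (1, false), (0, true), (1, false), (0, true), (1, true), (0, true), (1, false)],
    [(0, true), (1, true), (0, true), (1, false), (0, true), (1, true), (0, true), (1, false), (0, true), (1, true), (0, true)],
    [(0, true), (1, true), (0, true), (1, true), (0, true), (1, true), (0, true), (1, false), (0, true), (1, false), (0, true), (1, false), (0, true), (1, true), (0, true), (1, false), (0, true), (1, true), (0, true), (1, false), (0, true)],
    [(0, true), (1, false), (0, true), (1, false), (0, true)],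
    [(0, true), (1, false), (0, true), (1, true), (0, true), (1, false), (0, true), (1, false), (0, true), (1, true), (0, true), (1, false), (0, true), (1, false), (0, true), (1, false), (0, true), (1, false), (0, true), (1, true), (0, true), (1, false)],
    [(0, true), (1, false), (0, true), (1, false), (0, true), (1, true), (0, true), (1, true), (0, true), (1, true), (0, true), (1, false), (0, true), (1, false), (0, true), (1, true), (0, true), (1, true), (0, true), (1, true), (0, true), (1, true)],
    [(0, true), (1, false), (0, true), (1, true), (0, true), (1, false), (0, true), (1, false)],
    [(0, true), (1, false), (0, true), (1, false), (0, true), (1, true), (0, true), (1, true), (0, true), (1, true), (0, true), (1, true), (0, true), (1, false), (0, true), (1, false), (0, true), (1, true), (0, true), (1, false), (0, true)],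
    [(0, true), (1, true), (0, true), (1, false), (0, true), (1, false), (0, true), (1, true), (0, true), (1, false), (0, true), (1, false), (0, true), (1, false), (0, true), (1, false), (0, true), (1, true), (0, true), (1, false), (0, true)],
    [(0, true), (1, false), (0, true), (1, false), (0, true), (1, true), (0, true), (1, true), (0, true), (1, true), (0, true), (1, true), (0, true), (1, false)],
    [(0, true), (1, false), (0, true), (1, true), (0, true), (1, false), (0, true), (1, false), (0, true), (1, true), (0, true), (1, true), (0, true), (1, false), (0, true)],
    [(0, true), (1, true), (0, true), (1, true), (0, true), (1, false), (0, true), (1, true), (0, true), (1, false), (0, true), (1, false), (0, true), (1, true), (0, true), (1, true), (0, true), (1, true), (0, true), (1, true), (0, true), (1, false)],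
    [(0, true), (1, false), (0, true), (1, true), (0, true), (1, true), (0, true), (1, false), (0, true), (1, false), (0, true), (1, true), (0, true), (1, false), (0, true), (1, true), (0, true), (1, true), (0, true)],
    [(0, true), (1, false), (0, true), (1, false), (0, true), (1, true), (0, true), (1, false), (0, true), (1, true), (0, true), (1, false), (0, true), (1, true), (0, true)],
    [(0, true), (1, false), (0, true), (1, true), (0, true), (1, true), (0, true), (1, false), (0, true), (1, true), (0, true), (1, true), (0, true), (1, false), (0, true), (1, true), (0, true)],
    [(0, true), (1, false), (0, true), (1, true), (0, true), (1, false), (0, true), (1, false), (0, true), (1, true), (0, true), (1, false), (0, true), (1, true), (0, true), (1, true)],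
    [(0, true), (1, false), (0, true), (1, true), (0, true), (1, true), (0, true), (1, true), (0, true), (1, false), (0, true), (1, false), (0, true), (1, true), (0, true), (1, false), (0, true)],
    [(0, true), (1, true), (0, true), (1, false), (0, true), (1, false), (0, true), (1, false), (0, true), (1, false)],
    [(0, true), (1, true), (0, true), (1, false), (0, true), (1, false), (0, true), (1, false), (0, true)],
    [(0, true), (1, true), (0, true), (1, true), (0, true), (1, true), (0, true), (1, false), (0, true), (1, false), (0, true), (1, false), (0, true), (1, true)],
    [(0, true), (1, true), (0, true), (1, true), (0, true), (1, true), (0, true), (1, false), (0, true), (1, false), (0, true), (1, false), (0, true), (1, true), (0, true), (1, true), (0, true), (1, false), (0, true), (1, false), (0, true), (1, true), (0, true), (1, false), (0, true)],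
    [(0, true), (1, true), (0, true), (1, false), (0, true), (1, true), (0, true), (1, false), (0, true), (1, true), (0, true), (1, false), (0, true), (1, true), (0, true), (1, false)],
    [(0, true), (1, false), (0, true), (1, true), (0, true), (1, false), (0, true), (1, true), (0, true), (1, true), (0, true)],
    [(0, true), (1, false), (0, true), (1, true), (0, true), (1, false), (0, true), (1, true), (0, true), (1, true), (0, true), (1, true), (0, true), (1, false), (0, true), (1, false)],
    [(0, true), (1, false), (0, true), (1, false), (0, true), (1, false), (0, true), (1, false)],
    [(0, true), (1, true), (0, true), (1, false), (0, true), (1, true), (0, true), (1, true), (0, true), (1, true), (0, true), (1, false), (0, true), (1, true), (0, true), (1, false), (0, true)],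
    [(0, true), (1, false), (0, true), (1, true), (0, true), (1, false), (0, true), (1, true), (0, true), (1, false), (0, true), (1, true), (0, true), (1, true), (0, true), (1, true), (0, true), (1, false), (0, true)],
    [(0, true), (1, false), (0, true), (1, true), (0, true), (1, false), (0, true), (1, false), (0, true), (1, true), (0, true), (1, true), (0, true), (1, true), (0, true), (1, false), (0, true), (1, true)],
    [(0, true), (1, false), (0, true), (1, true), (0, true), (1, false), (0, true), (1, true), (0, true), (1, false), (0, true), (1, true), (0, true), (1, false), (0, true), (1, true), (0, true), (1, false), (0, true)],
    [(0, true), (1, false), (0, true), (1, false), (0, true), (1, true), (0, true), (1, false), (0, true), (1, true), (0, true), (1, false), (0, true), (1, true), (0, true), (1, true)],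
    [(0, true), (1, false), (0, true), (1, true), (0, true), (1, true), (0, true), (1, false), (0, true), (1, true), (0, true), (1, false), (0, true)],
    [(0, true), (1, false), (0, true), (1, true), (0, true), (1, true), (0, true), (1, false), (0, true), (1, true), (0, true), (1, false), (0, true), (1, true), (0, true), (1, false), (0, true), (1, false), (0, true), (1, false)],
    [(0, true), (1, true), (0, true), (1, false), (0, true), (1, true), (0, true), (1, true), (0, true), (1, true), (0, true), (1, true), (0, true), (1, true), (0, true), (1, true), (0, true), (1, false), (0, true), (1, true), (0, true), (1, true), (0, true), (1, false)],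
    [(0, true), (1, true), (0, true), (1, true), (0, true), (1, false), (0, true), (1, false), (0, true), (1, false), (0, true), (1, true), (0, true), (1, false), (0, true), (1, false), (0, true), (1, false), (0, true), (1, false)],
    [(0, true), (1, true), (0, true), (1, true), (0, true), (1, true), (0, true), (1, false), (0, true), (1, false), (0, true), (1, false), (0, true), (1, false), (0, true), (1, false), (0, true), (1, false), (0, true), (1, false), (0, true), (1, true), (0, true), (1, true)],
    [(0, true), (1, true), (0, true), (1, false), (0, true), (1, true), (0, true), (1, true), (0, true), (1, true), (0, true), (1, true), (0, true), (1, true), (0, true), (1, false), (0, true)],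
    [(0, true), (1, true), (0, true), (1, false), (0, true), (1, false), (0, true), (1, true), (0, true), (1, true), (0, true), (1, false), (0, true), (1, true), (0, true), (1, false), (0, true), (1, false), (0, true)],
    [(0, true), (1, true), (0, true), (1, false), (0, true), (1, true), (0, true), (1, true), (0, true), (1, false), (0, true), (1, true), (0, true), (1, true), (0, true)],
    [(0, true), (1, false), (0, true), (1, true), (0, true), (1, false), (0, true), (1, true), (0, true), (1, true), (0, true), (1, true), (0, true), (1, true)],
    [(0, true), (1, false), (0, true), (1, false), (0, true), (1, false), (0, true), (1, false), (0, true), (1, false), (0, true), (1, true), (0, true), (1, false), (0, true), (1, true), (0, true), (1, false), (0, true), (1, false), (0, true)],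
    [(0, true), (1, false), (0, true), (1, true), (0, true), (1, false), (0, true), (1, false), (0, true), (1, false), (0, true), (1, true), (0, true), (1, true), (0, true), (1, false), (0, true), (1, false), (0, true)],
    [(0, true), (1, false), (0, true), (1, false), (0, true), (1, true), (0, true), (1, true), (0, true), (1, false), (0, true), (1, true), (0, true), (1, false), (0, true), (1, true), (0, true), (1, false), (0, true)],
    [(0, true), (1, true), (0, true), (1, true), (0, true), (1, false), (0, true), (1, true), (0, true), (1, false), (0, true), (1, false), (0, true), (1, true), (0, true), (1, true), (0, true), (1, false)],
    [(0, true), (1, false), (0, true), (1, false), (0, true), (1, true), (0, true), (1, true), (0, true), (1, true), (0, true), (1, false)],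
    [(0, true), (1, true), (0, true), (1, true), (0, true), (1, false), (0, true), (1, true), (0, true), (1, false), (0, true), (1, false), (0, true), (1, true), (0, true), (1, true), (0, true), (1, true), (0, true)],
    [(0, true), (1, false), (0, true), (1, false), (0, true), (1, true), (0, true), (1, false), (0, true), (1, true), (0, true), (1, false), (0, true), (1, true), (0, true), (1, false)],
    [(0, true), (1, true), (0, true), (1, false), (0, true), (1, false), (0, true), (1, true), (0, true), (1, true), (0, true), (1, true), (0, true), (1, false)],
    [(0, true), (1, true), (0, true), (1, true), (0, true), (1, false), (0, true), (1, false), (0, true), (1, false), (0, true), (1, true), (0, true), (1, false), (0, true), (1, false), (0, true), (1, false), (0, true)],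
    [(0, true), (1, false), (0, true), (1, true), (0, true), (1, false), (0, true), (1, true), (0, true), (1, true), (0, true), (1, true), (0, true), (1, true), (0, true)],
    [(0, true), (1, false), (0, true), (1, true), (0, true), (1, false), (0, true), (1, true), (0, true), (1, true), (0, true), (1, true), (0, true), (1, true), (0, true), (1, false), (0, true), (1, true), (0, true), (1, false)],
    [(0, true), (1, false), (0, true), (1, false), (0, true), (1, false), (0, true), (1, true), (0, true), (1, false), (0, true), (1, true), (0, true), (1, false), (0, true), (1, false), (0, true), (1, true)],
    [(0, true), (1, true), (0, true), (1, true), (0, true), (1, false), (0, true), (1, true), (0, true), (1, false), (0, true), (1, true), (0, true), (1, false), (0, true), (1, true), (0, true)],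
    [(0, true), (1, true), (0, true), (1, false), (0, true), (1, true), (0, true), (1, true), (0, true), (1, false), (0, true), (1, true), (0, true), (1, true), (0, true), (1, true), (0, true), (1, false)],
    [(0, true), (1, false), (0, true), (1, true), (0, true), (1, false), (0, true), (1, true), (0, true), (1, false), (0, true), (1, true), (0, true), (1, true), (0, true), (1, true), (0, true), (1, true), (0, true), (1, true)],
    [(0, true), (1, false), (0, true), (1, false), (0, true), (1, true), (0, true), (1, false), (0, true), (1, true), (0, true), (1, true), (0, true), (1, true), (0, true), (1, true), (0, true), (1, false), (0, true), (1, false), (0, true)],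
    [(0, true), (1, true), (0, true), (1, true), (0, true), (1, true), (0, true), (1, true), (0, true), (1, true), (0, true), (1, false), (0, true)],
    [(0, true), (1, true), (0, true), (1, true), (0, true), (1, true), (0, true), (1, false), (0, true), (1, true), (0, true), (1, true), (0, true), (1, false)],
    [(0, true), (1, true), (0, true), (1, false), (0, true), (1, true), (0, true), (1, false), (0, true), (1, false), (0, true), (1, false), (0, true)],
    [(0, true), (1, false), (0, true), (1, false), (0, true), (1, true), (0, true), (1, true), (0, true), (1, true), (0, true), (1, false), (0, true), (1, true), (0, true), (1, true), (0, true), (1, false), (0, true), (1, false), (0, true), (1, true), (0, true), (1, false), (0, true)],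
    [(0, true), (1, true), (0, true), (1, false), (0, true), (1, true), (0, true), (1, false), (0, true), (1, false), (0, true), (1, true), (0, true), (1, true), (0, true), (1, true), (0, true), (1, true)],
    [(0, true), (1, true), (0, true), (1, true), (0, true), (1, false), (0, true), (1, false), (0, true), (1, true), (0, true), (1, false), (0, true), (1, false), (0, true), (1, false), (0, true)],
    [(0, true), (1, true), (0, true), (1, true), (0, true), (1, false), (0, true), (1, true), (0, true), (1, false), (0, true), (1, true), (0, true), (1, true), (0, true), (1, true)],
    [(0, true), (1, false), (0, true), (1, false), (0, true), (1, false), (0, true), (1, false), (0, true), (1, false), (0, true), (1, true), (0, true), (1, false), (0, true), (1, true), (0, true), (1, false)],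
    [(0, true), (1, true), (0, true), (1, true), (0, true), (1, false), (0, true), (1, true), (0, true), (1, true), (0, true), (1, true), (0, true), (1, true), (0, true), (1, true), (0, true), (1, true)],
    [(0, true), (1, false), (0, true), (1, true), (0, true), (1, true), (0, true), (1, false), (0, true), (1, false), (0, true), (1, true), (0, true), (1, false), (0, true), (1, false), (0, true), (1, false), (0, true), (1, true), (0, true), (1, true), (0, true), (1, false)],
    [(0, true), (1, true), (0, true), (1, true), (0, true), (1, false), (0, true), (1, true), (0, true), (1, true), (0, true), (1, true), (0, true), (1, false), (0, true), (1, true), (0, true), (1, false)],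
    [(0, true), (1, false), (0, true), (1, false), (0, true), (1, false), (0, true), (1, true), (0, true), (1, false), (0, true), (1, true)],
    [(0, true), (1, false), (0, true), (1, false), (0, true), (1, true), (0, true), (1, true), (0, true), (1, true), (0, true), (1, false), (0, true), (1, true), (0, true), (1, false), (0, true), (1, false)],
    [(0, true), (1, true), (0, true), (1, false), (0, true), (1, false), (0, true), (1, true), (0, true), (1, true), (0, true), (1, true), (0, true)],
    [(0, true)],
    [(0, true), (1, true), (0, true), (1, false), (0, true), (1, true), (0, true), (1, true), (0, true), (1, true), (0, true), (1, true), (0, true), (1, true), (0, true), (1, false)],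
    [(0, true), (1, false), (0, true), (1, true), (0, true), (1, false)],
    [(0, true), (1, false), (0, true), (1, true), (0, true), (1, true), (0, true), (1, false), (0, true), (1, true), (0, true), (1, true), (0, true), (1, false), (0, true), (1, false), (0, true), (1, true), (0, true), (1, true)],
    [(0, true), (1, true), (0, true), (1, false), (0, true), (1, true), (0, true), (1, false), (0, true), (1, false), (0, true), (1, true), (0, true), (1, true), (0, true), (1, true), (0, true), (1, false), (0, true), (1, true), (0, true), (1, false), (0, true)],
    [(0, true), (1, true), (0, true), (1, false), (0, true), (1, false), (0, true), (1, true), (0, true), (1, false), (0, true), (1, false), (0, true), (1, false), (0, true), (1, false), (0, true), (1, true)],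
    [(0, true), (1, false), (0, true), (1, false), (0, true), (1, false), (0, true), (1, true), (0, true), (1, false), (0, true), (1, true), (0, true), (1, false), (0, true), (1, false), (0, true), (1, true), (0, true), (1, false), (0, true), (1, true), (0, true), (1, false)],
    [(0, true), (1, true), (0, true), (1, true), (0, true), (1, false), (0, true), (1, true), (0, true), (1, false), (0, true), (1, false), (0, true), (1, false)],
    [(0, true), (1, false), (0, true), (1, false), (0, true), (1, true), (0, true), (1, true), (0, true), (1, true), (0, true), (1, false), (0, true), (1, true), (0, true), (1, false), (0, true), (1, true), (0, true), (1, false), (0, true), (1, false)],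
    [(0, true), (1, false), (0, true), (1, false), (0, true), (1, false), (0, true), (1, false), (0, true), (1, false), (0, true), (1, true), (0, true), (1, true), (0, true), (1, false), (0, true), (1, false), (0, true), (1, true), (0, true), (1, false)],
    [(0, true), (1, true), (0, true), (1, true), (0, true), (1, true)],
    [(0, true), (1, true), (0, true), (1, true), (0, true), (1, true), (0, true), (1, true), (0, true), (1, false), (0, true), (1, false), (0, true), (1, true), (0, true)],
    [(0, true), (1, false), (0, true), (1, true), (0, true), (1, false), (0, true), (1, true), (0, true), (1, true), (0, true), (1, false), (0, true), (1, false), (0, true), (1, true), (0, true), (1, true)],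
    [(0, true), (1, true), (0, true), (1, false), (0, true), (1, true), (0, true), (1, false), (0, true), (1, false), (0, true), (1, false), (0, true), (1, true), (0, true), (1, false), (0, true), (1, false)],
    [(0, true), (1, true), (0, true), (1, false), (0, true), (1, true), (0, true), (1, true), (0, true), (1, false), (0, true), (1, true), (0, true), (1, true), (0, true), (1, true)],
    [(0, true), (1, false), (0, true), (1, true), (0, true), (1, false), (0, true), (1, false), (0, true), (1, false), (0, true), (1, true), (0, true), (1, true), (0, true), (1, true), (0, true), (1, true), (0, true)],
    [(0, true), (1, true), (0, true), (1, true), (0, true), (1, false), (0, true), (1, true), (0, true), (1, true), (0, true), (1, false), (0, true), (1, true), (0, true), (1, true), (0, true), (1, true), (0, true), (1, true)],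
    [(0, true), (1, true), (0, true), (1, false), (0, true), (1, true), (0, true), (1, false), (0, true), (1, true), (0, true), (1, false), (0, true), (1, true), (0, true), (1, false), (0, true), (1, false), (0, true), (1, false), (0, true), (1, false), (0, true)],
    [(0, true), (1, false), (0, true), (1, true), (0, true), (1, true), (0, true), (1, true), (0, true), (1, true), (0, true), (1, false), (0, true)],
    [(0, true), (1, true), (0, true), (1, true), (0, true), (1, false), (0, true), (1, true), (0, true), (1, false), (0, true), (1, true), (0, true), (1, false), (0, true), (1, false), (0, true)],
    [(0, true), (1, false), (0, true), (1, false), (0, true), (1, true), (0, true), (1, true), (0, true), (1, false), (0, true), (1, false), (0, true), (1, false), (0, true), (1, true)],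
    [(0, true), (1, false), (0, true), (1, false), (0, true), (1, true), (0, true), (1, true), (0, true), (1, false), (0, true), (1, false), (0, true), (1, true), (0, true), (1, false), (0, true), (1, false)],
    [(0, true), (1, true), (0, true), (1, true), (0, true), (1, true), (0, true), (1, true), (0, true), (1, false), (0, true), (1, false), (0, true), (1, true), (0, true), (1, false), (0, true), (1, false), (0, true)],
    [(0, true), (1, true), (0, true), (1, false), (0, true), (1, true), (0, true), (1, true), (0, true), (1, true), (0, true), (1, true), (0, true), (1, true), (0, true), (1, true), (0, true), (1, true), (0, true), (1, false), (0, true), (1, true)],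
    [(0, true), (1, true), (0, true), (1, true), (0, true), (1, false), (0, true), (1, false), (0, true), (1, true), (0, true), (1, true), (0, true), (1, true), (0, true), (1, true), (0, true)],
    [(0, true), (1, true), (0, true), (1, true), (0, true), (1, false), (0, true), (1, true), (0, true), (1, false), (0, true), (1, false), (0, true), (1, true)],
    [(0, true), (1, true), (0, true), (1, false), (0, true), (1, true), (0, true), (1, true), (0, true), (1, true), (0, true), (1, true), (0, true), (1, true), (0, true), (1, true), (0, true), (1, true), (0, true), (1, false), (0, true), (1, false), (0, true)],
    [(0, true), (1, false), (0, true), (1, true), (0, true), (1, false), (0, true), (1, true), (0, true), (1, true), (0, true), (1, true), (0, true), (1, true), (0, true), (1, false), (0, true), (1, true), (0, true), (1, true)],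
    [(0, true), (1, false), (0, true), (1, false), (0, true), (1, true), (0, true), (1, true), (0, true), (1, true), (0, true), (1, false), (0, true), (1, true), (0, true), (1, true), (0, true), (1, false)],
    [(0, true), (1, false), (0, true), (1, false), (0, true), (1, true), (0, true), (1, true), (0, true), (1, false), (0, true), (1, false), (0, true), (1, false), (0, true), (1, false), (0, true)],
    [(0, true), (1, true), (0, true), (1, true), (0, true), (1, false), (0, true), (1, false), (0, true), (1, true), (0, true)],
    [(0, true), (1, false), (0, true), (1, false), (0, true), (1, true), (0, true), (1, true), (0, true), (1, true), (0, true), (1, false), (0, true), (1, false), (0, true), (1, false)],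
    [(0, true), (1, true), (0, true), (1, true), (0, true), (1, false), (0, true), (1, true), (0, true), (1, false), (0, true), (1, true), (0, true), (1, false), (0, true), (1, false), (0, true), (1, true), (0, true)],
    [(0, true), (1, false), (0, true), (1, true), (0, true), (1, false), (0, true), (1, true), (0, true), (1, false), (0, true), (1, false), (0, true), (1, false), (0, true), (1, false)]]

/-- The later points: two earlier ones on a line with it. -/
def cloStep : List (Nat × Nat × Hint) := [
    (5, 1, ⟨1, false, 38, [(1, true), (0, true), (1, true), (0, true), (1, false), (0, true), (1, false), (0, true), (1, false), (0, true), (1, false), (0, true), (1, true), (0, true), (1, true), (0, true), (1, true), (0, true), (1, true), (0, true), (1, false), (0, true), (1, false), (0, true), (1, true), (0, true), (1, false), (0, true), (1, false), (0, true), (1, false), (0, true), (1, false), (0, true), (1, true), (0, true), (1, true), (0, true), (1, true), (0, true), (1, true), (0, true), (1, false), (0, true), (0, true), (1, true), (0, true), (1, false), (0, true), (1, false), (0, true), (1, false), (0, true), (1, true), (0, true), (1, false), (0, true), (1, true), (0, true), (1, true), (0, true), (1, true), (0, true), (1, false), (0, true), (0, true), (1, true), (0, true),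 (1, false), (0, true), (1, false), (0, true), (1, false), (0, true), (1, false), (0, true), (1, true), (0, true), (1, true), (0, true), (1, true), (0, true), (1, true), (0, true), (1, false), (0, true), (1, true), (0, true), (1, true), (0, true), (1, false), (0, true), (1, false), (0, true), (1, true), (0, true), (1, true), (0, true), (1, false), (0, true), (1, true), (0, true), (1, false), (0, true), (1, false)]⟩),
    (0, 3, ⟨1, false, 38, [(1, true), (0, true), (1, true), (0, true), (1, false), (0, true), (1, false), (0, true), (1, false), (0, true), (1, false), (0, true), (1, true), (0, true), (1, true), (0, true), (1, true), (0, true), (1, true), (0, true), (1, false), (0, true), (1, false), (0, true), (1, true), (0, true), (1, false), (0, true), (1, false), (0, true), (1, false), (0, true), (1, false), (0, true), (1, true), (0, true), (1, true), (0, true), (1, true), (0, true), (1, true), (0, true), (1, false), (0, true), (1, true), (0, true), (1, true), (0, true), (1, false), (0, true), (1, false), (0, true), (1, false), (0, true), (1, false), (0, true), (1, true), (0, true), (1, true), (0, true), (1, true), (0, true), (1, true), (0, true), (1, false), (0, true)]⟩),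
    (5, 6, ⟨1, false, 38, [(0, true), (1, false), (0, true), (1, true), (0, true), (1, true), (0, true), (1, true), (0, true), (1, true), (0, true), (1, true), (0, true), (1, true), (0, true), (1, false), (0, true), (1, false), (0, true), (1, true), (0, true), (1, false), (0, true), (1, true), (0, true), (1, false), (0, true), (1, true), (0, true), (1, true), (0, true), (1, true), (0, true), (1, false), (0, true), (1, false), (0, true), (1, false), (0, true), (1, false), (0, true), (1, false), (0, true), (1, true), (0, true)]⟩),
    (0, 5, ⟨1, false, 38, [(0, true), (1, true), (0, true), (1, false), (0, true), (1, false), (0, true), (1, true), (0, true), (1, false), (0, true), (1, false), (0, true), (1, false), (0, true), (1, true), (0, true), (1, false), (0, true), (1, true), (0, true), (1, true), (0, true), (1, false), (0, true), (1, false), (0, true), (1, false), (0, true), (1, true), (0, true), (1, true), (0, true), (1, true), (0, true), (1, true), (0, true), (1, false), (0, true), (1, false), (0, true), (1, true), (0, true), (1, false), (0, true), (1, false), (0, true), (1, true), (0, true), (1, true), (0, true)]⟩),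
    (0, 6, ⟨1, false, 38, [(1, false)]⟩),
    (5, 12, ⟨1, false, 38, [(1, true), (0, true), (1, false), (0, true), (1, false), (0, true), (1, true), (0, true), (1, true), (0, true), (1, false), (0, true), (1, false), (0, true), (1, true), (0, true), (1, false), (0, true), (1, true), (0, true), (1, true), (0, true), (1, true), (0, true), (1, true), (0, true), (1, true), (0, true), (1, false), (0, true), (1, false), (0, true), (1, false), (0, true), (1, false), (0, true), (1, true), (0, true), (1, true), (0, true), (1, true), (0, true), (1, false), (0, true), (1, false), (0, true), (1, false), (0, true), (1, true), (0, true), (1, false), (0, true)]⟩),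
    (0, 1, ⟨1, false, 38, [(1, false), (0, true), (1, true), (0, true), (1, false), (0, true), (1, false), (0, true), (1, false), (0, true), (1, false), (0, true), (1, true), (0, true), (1, true), (0, true), (1, true), (0, true), (1, true), (0, true), (1, false), (0, true), (1, false), (0, true), (1, true), (0, true), (1, false), (0, true), (1, false), (0, true), (1, false), (0, true), (1, false), (0, true), (1, true), (0, true), (1, true), (0, true), (1, true), (0, true), (1, true), (0, true), (1, false), (0, true), (1, false)]⟩),
    (11, 0, ⟨1, false, 38, [(0, true), (1, true), (0, true), (1, false), (0, true), (1, true), (0, true), (1, true), (0, true), (1, true), (0, true), (1, false), (0, true), (1, false), (0, true), (1, false), (0, true), (1, true), (0, true), (1, true), (0, true), (1, true), (0, true), (1, true), (1, true), (0, true), (1, true), (0, true), (1, true), (0, true), (1, true), (0, true), (1, true), (0, true), (1, false), (0, true), (1, true), (0, true), (1, false), (0, true), (1, true), (0, true), (1, false), (0, true), (1, true), (0, true), (1, false), (0, true), (1, true), (0, true), (1, false)]⟩),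
    (0, 2, ⟨1, false, 38, [(1, false), (0, true), (1, true), (0, true), (1, false), (0, true), (1, false), (0, true), (1, false), (0, true), (1, false), (0, true), (1, false), (0, true), (1, false), (0, true), (1, true), (0, true), (1, true), (0, true), (1, true), (0, true), (1, false), (0, true), (1, false), (0, true), (1, true), (0, true), (1, false), (0, true), (1, false), (0, true), (1, false), (0, true), (1, false), (0, true), (1, true), (0, true), (1, true), (0, true), (1, true), (0, true), (1, true), (0, true), (1, false), (0, true), (1, true)]⟩),
    (0, 12, ⟨1, false, 38, [(1, false), (0, true), (1, true), (0, true), (1, false), (0, true), (1, false), (0, true), (1, false), (0, true), (1, false), (0, true), (1, true), (0, true), (1, true), (0, true), (1, true), (0, true), (1, true), (0, true), (1, false), (0, true), (1, true), (0, true), (1, true), (0, true), (1, false), (0, true), (1, false), (0, true), (1, false), (0, true), (1, false), (0, true), (1, true), (0, true), (1, true), (0, true), (1, true), (0, true), (1, true), (0, true), (1, false), (0, true)]⟩),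
    (4, 10, ⟨1, false, 38, [(0, true), (1, true), (0, true), (1, false), (0, true), (1, false), (0, true), (1, true), (0, true), (1, false), (0, true), (1, false), (0, true), (1, false), (0, true), (1, true), (0, true), (1, false), (0, true), (1, true), (0, true), (1, true), (0, true), (1, false), (0, true), (1, false), (0, true), (1, false), (0, true), (1, true), (0, true), (1, true), (0, true), (1, true), (0, true), (1, true), (0, true), (1, false), (0, true), (1, false), (0, true), (1, false), (0, true), (1, false), (0, true), (1, true), (0, true), (1, true), (0, true), (1, false), (0, true)]⟩),
    (0, 4, ⟨1, false, 38, [(1, true), (0, true), (1, true), (0, true), (1, true), (0, true), (1, true), (0, true), (1, true), (0, true), (1, false), (0, true), (1, false), (0, true), (1, true), (0, true), (1, false), (0, true), (1, true), (0, true), (1, true), (0, true), (1, false), (0, true), (1, true), (0, true), (1, false), (0, true), (1, true), (0, true), (1, false), (0, true), (1, false), (0, true), (1, false), (0, true), (1, true), (0, true), (1, false), (0, true), (1, true), (0, true), (1, true), (0, true), (1, true), (0, true), (1, true), (0, true), (1, true), (0, true), (1, true), (0, true), (1, false), (0, true)]⟩),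
    (18, 24, ⟨1, false, 38, [(0, true), (1, false), (0, true), (1, true), (0, true), (1, false), (0, true), (1, true), (0, true), (1, true), (0, true), (1, false), (0, true), (1, false), (0, true), (1, true), (0, true), (1, true), (0, true)]⟩),
    (13, 11, ⟨1, false, 38, [(0, true), (1, true), (0, true), (1, true), (0, true), (1, false), (0, true), (1, false), (0, true), (1, true), (0, true), (1, false), (0, true), (1, false), (0, true), (1, false), (0, true), (1, false), (0, true), (1, false), (0, true), (1, true), (0, true), (1, false), (0, true), (1, false), (0, true), (1, false), (0, true), (1, false), (0, true), (1, true), (0, true), (1, false), (0, true), (1, false), (0, true), (1, true), (0, true), (1, true), (0, true), (1, true), (0, true), (1, true), (0, true)]⟩),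
    (5, 17, ⟨1, false, 38, [(0, true), (1, true), (0, true), (1, true), (0, true), (1, false), (0, true), (1, true), (0, true), (1, false), (0, true), (1, true), (0, true), (1, false), (0, true), (1, true), (0, true), (1, true), (0, true), (1, true), (0, true), (1, false), (0, true), (1, false), (0, true), (1, false), (0, true), (1, false), (0, true), (1, false), (0, true), (1, false), (0, true), (1, true), (0, true), (1, false), (0, true), (1, false), (0, true), (1, false), (0, true), (1, true), (0, true)]⟩),
    (16, 1, ⟨1, false, 38, [(1, true), (0, true), (1, true), (0, true), (1, false), (0, true), (1, false), (0, true), (1, false), (0, true), (1, false), (0, true), (1, true), (0, true), (1, true), (0, true), (1, true), (0, true), (1, true), (0, true), (1, false), (0, true), (1, false), (0, true), (1, true), (0, true), (1, false), (0, true), (1, false), (0, true), (1, false), (0, true), (1, false), (0, true), (1, true), (0, true), (1, true), (0, true), (1, true), (0, true), (1, true), (0, true), (1, false), (0, true), (0, true), (1, true), (0, true), (1, false), (0, true), (1, false), (0, true), (1, false), (0, true), (1, true), (0, true), (1, false), (0, true), (1, true), (0, true), (1, true), (0, true), (1, true), (0, true), (1, false), (0, true), (1, true), (0, true), (1,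 true), (0, true), (1, false), (0, true), (1, false), (0, true), (1, false), (0, true), (1, false), (0, true), (1, true), (0, true), (1, true), (0, true), (1, true), (0, true), (1, true), (0, true), (1, false), (0, true), (0, true), (1, false), (0, true), (1, false), (0, true), (1, false), (0, true), (1, false), (0, true), (1, false), (0, true), (1, false), (0, true), (1, false), (0, true), (1, false), (0, true), (1, false), (0, true), (1, true), (0, true), (1, false)]⟩),
    (19, 7, ⟨1, false, 38, [(1, false), (0, true), (1, true), (0, true), (1, false), (0, true), (1, false), (0, true), (1, false), (0, true), (1, false), (0, true), (1, true), (0, true), (1, false), (0, true), (1, true), (0, true), (1, false), (0, true), (1, true), (0, true), (1, true), (0, true), (1, false), (0, true), (1, true)]⟩),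
    (17, 9, ⟨1, false, 38, [(0, true), (1, true), (0, true), (1, true), (0, true), (1, false), (0, true), (1, true), (0, true), (1, false), (0, true), (1, true), (0, true), (1, false), (0, true), (1, true), (0, true), (1, true), (0, true), (1, true), (0, true), (1, false), (0, true), (1, true), (0, true), (1, true), (0, true), (1, true), (0, true), (1, false), (0, true), (1, true), (0, true), (1, false), (0, true), (1, true), (0, true), (1, true), (0, true), (1, true), (0, true), (1, false), (0, true), (1, false), (0, true), (1, true), (0, true), (1, true), (0, true), (1, false), (0, true), (1, true)]⟩),
    (8, 21, ⟨1, false, 38, [(1, false), (0, true), (1, true), (0, true), (1, true), (0, true), (1, false), (0, true), (1, true), (0, true), (1, true), (0, true), (1, true), (0, true), (1, false), (0, true), (1, true), (0, true), (1, false), (0, true), (1, false), (0, true), (1, false), (0, true), (1, true), (0, true), (1, true), (0, true), (1, true), (0, true), (1, false), (0, true), (1, true), (0, true), (1, false), (0, true), (1, false), (0, true), (1, true), (0, true), (1, false), (0, true), (1, true), (0, true), (1, true), (0, true), (1, true)]⟩),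
    (5, 22, ⟨1, false, 38, [(0, true), (1, true), (0, true), (1, false), (0, true), (1, false), (0, true), (1, false), (0, true), (1, true), (0, true), (1, true), (0, true), (1, true), (0, true), (1, true), (0, true), (1, false), (0, true), (1, false), (0, true), (1, true), (0, true), (1, false), (0, true), (1, false), (0, true), (1, false), (0, true), (1, false), (0, true), (1, false), (0, true), (1, true), (0, true), (1, true), (0, true), (1, false), (0, true), (1, true), (0, true), (1, false), (0, true), (1, true), (0, true), (1, true), (0, true), (1, false), (0, true), (1, false)]⟩),
    (14, 1, ⟨1, false, 38, [(0, true), (1, false), (0, true), (1, true), (0, true), (1, true), (0, true), (1, true), (0, true), (1, false), (0, true), (1, false), (0, true), (1, true), (0, true), (1, false), (0, true), (1, true), (0, true), (1, false), (0, true), (1, true), (0, true), (1, true), (0, true), (1, true), (0, true), (1, true), (0, true), (1, true), (0, true), (1, true), (0, true), (1, true), (0, true), (1, true), (0, true), (1, false), (0, true), (1, false), (0, true), (1, false), (0, true), (1, false), (0, true), (1, false), (0, true), (1, false), (0, true)]⟩),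
    (21, 10, ⟨1, false, 38, [(1, false), (0, true), (1, true), (0, true), (1, true), (0, true), (1, false), (0, true), (1, true), (0, true), (1, true), (0, true), (1, false), (0, true), (1, false), (0, true), (1, false), (0, true), (1, false), (0, true), (1, false), (0, true), (1, false), (0, true), (1, false), (0, true), (1, false), (0, true), (1, true), (0, true), (1, true), (0, true), (1, false), (0, true), (1, true), (0, true), (1, false), (0, true), (1, false), (0, true), (1, false), (0, true), (1, false), (0, true), (1, false), (0, true), (1, false), (0, true), (1, false), (0, true), (1, false)]⟩),
    (31, 9, ⟨1, false, 38, [(1, true), (0, true), (1, false), (0, true), (1, true), (0, true), (1, false), (0, true), (1, false), (0, true), (1, false), (0, true), (1, true), (0, true), (1, true), (0, true), (1, true), (0, true), (1, true), (0, true), (1, false), (0, true), (1, false), (0, true), (1, true), (0, true), (1, false), (0, true), (1, true), (0, true), (1, true), (0, true), (1, false), (0, true), (1, false), (0, true), (1, false), (0, true), (1, false), (0, true), (1, false), (0, true), (1, true), (0, true), (1, false), (0, true), (1, true), (0, true), (1, true), (0, true), (1, true)]⟩),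
    (11, 28, ⟨1, false, 38, [(1, false), (0, true), (1, true), (0, true), (1, false), (0, true), (1, false), (0, true), (1, false), (0, true), (1, false), (0, true), (1, true), (0, true), (1, true), (0, true), (1, true), (0, true), (1, true), (0, true), (1, false), (0, true), (1, false), (0, true), (1, true), (0, true), (1, false), (0, true), (1, false), (0, true), (1, false), (0, true), (1, false), (0, true), (1, true), (0, true), (1, true), (0, true), (1, true), (0, true), (1, true), (0, true), (1, false), (0, true), (1, true), (0, true), (1, true), (0, true), (1, false), (0, true), (1, false), (0, true), (1, false), (0, true), (1, false), (0, true), (1, true), (0, true), (1, true), (0, true), (1, true), (0, true), (1, true), (0, true), (1, false), (0, true), (1, false), (0, true), (1, true), (0, true), (1, false), (0, true), (1, true), (0, true), (1, false), (0, true), (1, true), (0, true), (1, false), (0, true), (1, false)]⟩),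
    (32, 24, ⟨1, false, 38, [(0, true), (1, true), (0, true), (1, false), (0, true), (1, false), (0, true), (1, true), (0, true), (1, false), (0, true), (1, true), (0, true), (1, true), (0, true), (1, true), (0, true), (1, false), (0, true), (1, false), (0, true), (1, true), (0, true), (1, false), (0, true), (1, false), (0, true), (1, false), (0, true), (1, true), (0, true), (1, true), (0, true), (1, true), (0, true), (1, false), (0, true), (1, true), (0, true), (1, false), (0, true), (1, true), (0, true), (1, false), (0, true), (1, true), (0, true), (1, true), (0, true), (1, true), (0, true), (1, true)]⟩),
    (28, 7, ⟨1, false, 38, [(1, false), (0, true), (1, true), (0, true), (1, false), (0, true), (1, false), (0, true), (1, false), (0, true), (1, false), (0, true), (1, true), (0, true), (1, true), (0, true), (1, true), (0, true), (1, true), (0, true), (1, false), (0, true), (1, false), (0, true), (1, true), (0, true), (1, false), (0, true), (1, false), (0, true), (1, false), (0, true), (1, false), (0, true), (1, true), (0, true), (1, true), (0, true), (1, true), (0, true), (1, true), (0, true), (1, false), (0, true), (1, true), (0, true), (1, true), (0, true), (1, false), (0, true), (1, false), (0, true), (1, false), (0, true), (1, false), (0, true), (1, true), (0, true), (1,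 true), (0, true), (1, true), (0, true), (1, true), (0, true), (1, false), (0, true), (0, true), (1, true), (0, true), (1, true), (0, true), (1, false), (0, true), (1, false), (0, true), (1, false), (0, true), (1, true), (0, true), (1, false), (0, true), (1, false), (0, true), (1, false), (0, true), (1, true), (0, true), (1, true)]⟩),
    (26, 21, ⟨1, false, 38, [(1, false), (0, true), (1, true), (0, true), (1, false), (0, true), (1, false), (0, true), (1, false), (0, true), (1, false), (0, true), (1, true), (0, true), (1, true), (0, true), (1, true), (0, true), (1, true), (0, true), (1, true), (1, true), (0, true), (1, true), (0, true), (1, true), (0, true), (1, true), (0, true), (1, true), (0, true), (1, true), (0, true), (1, true), (0, true), (1, false), (0, true), (1, false), (0, true), (1, false), (0, true), (1, true), (0, true), (1, false), (0, true), (1, false), (0, true), (1, false)]⟩),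
    (24, 34, ⟨1, false, 38, [(0, true), (1, false), (0, true), (1, true), (0, true), (1, false), (0, true), (1, false), (0, true), (1, true), (0, true), (1, true), (0, true), (1, false), (0, true), (1, true), (0, true), (1, false), (0, true), (1, false), (0, true), (1, false), (0, true), (1, false), (0, true), (1, true), (0, true), (1, false), (0, true), (1, true), (0, true), (1, false), (0, true), (1, false), (0, true), (1, false), (0, true), (1, false), (0, true), (1, false), (0, true), (1, false), (0, true), (1, false), (0, true), (1, false)]⟩),
    (35, 13, ⟨1, false, 38, [(0, true), (1, true), (0, true), (1, false), (0, true), (1, false), (0, true), (1, false), (0, true), (1, true), (0, true), (1, true), (0, true), (1, false), (0, true), (1, false), (0, true), (1, true), (0, true), (1, false), (0, true), (1, false), (0, true), (1, false), (0, true), (1, true), (0, true), (1, true), (0, true), (1, false), (0, true), (1, false), (0, true), (1, false), (0, true), (1, true), (0, true), (1, false), (0, true), (1, false), (0, true), (1, false), (0, true), (1, false), (0, true), (1, false), (0, true), (1, false), (0, true), (1, true), (0, true), (1, true)]⟩),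
    (35, 11, ⟨1, false, 38, [(1, true), (0, true), (1, true), (0, true), (1, false), (0, true), (1, false), (0, true), (1, false), (0, true), (1, false), (0, true), (1, true), (0, true), (1, true), (0, true), (1, true), (0, true), (1, true), (0, true), (1, false), (0, true), (1, true), (0, true), (1, true), (0, true), (1, false), (0, true), (1, false), (0, true), (1, false), (0, true), (1, false), (0, true), (1, true), (0, true), (1, true), (0, true), (1, true), (0, true), (1, true), (0, true), (1, false), (0, true), (0, true), (1, true), (0, true), (1, false), (0, true), (1, false), (0, true), (1, false), (0, true), (1, true), (0, true), (1, false), (0, true), (1, true), (0, true), (1, true), (0, true), (1, true), (0, true), (1, false), (0, true), (1, true), (0, true), (1, true), (0, true), (1, false), (0, true), (1, false), (0, true), (1, false), (0, true), (1, false), (0, true), (1, true), (0, true), (1, true), (0, true), (1, true), (0, true), (1, true), (0, true), (1, false), (0, true), (1, false), (0, true), (1, true), (0, true), (1, false), (0, true), (1, false), (0, true), (1, false), (0, true), (1, true)]⟩),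
    (36, 21, ⟨1, false, 38, [(1, false), (0, true), (1, true), (0, true), (1, false), (0, true), (1, false), (0, true), (1, false), (0, true), (1, false), (0, true), (1, true), (0, true), (1, true), (0, true), (1, true), (0, true), (1, true), (0, true), (1, false), (0, true), (1, true), (0, true), (1, true), (0, true), (1, false), (0, true), (1, false), (0, true), (1, false), (0, true), (1, true), (0, true), (1, true), (0, true), (1, false), (0, true), (1, false), (0, true), (1, true), (0, true), (1, false), (0, true), (1, false), (0, true), (1, true), (0, true), (1, false), (0, true)]⟩),
    (14, 37, ⟨1, false, 38, [(1, true), (0, true), (1, true), (0, true), (1, false), (0, true), (1, false), (0, true), (1, false), (0, true), (1, false), (0, true), (1, true), (0, true), (1, true), (0, true), (1, true), (0, true), (1, true), (0, true), (1, false), (0, true), (1, false), (0, true), (1, true), (0, true), (1, false), (0, true), (1, false), (0, true), (1, false), (0, true), (1, false), (0, true), (1, true), (0, true), (1, true), (0, true), (1, true), (0, true), (1, true), (0, true), (1, false), (0, true), (1, false), (0, true), (1, true), (0, true), (1, false), (0, true), (1, true), (0, true), (1, false), (0, true), (1, false), (0, true), (1, false), (0, true), (1, true), (0, true),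 (1, false), (0, true), (1, true), (0, true), (1, false), (0, true)]⟩),
    (3, 37, ⟨1, false, 38, [(0, true), (1, false), (0, true), (1, true), (0, true), (1, false), (0, true), (1, true), (0, true), (1, true), (0, true), (1, true), (0, true), (1, true), (0, true), (1, false), (0, true), (1, true), (0, true), (1, true), (0, true), (1, false), (0, true), (1, false), (0, true), (1, true), (0, true), (1, true), (0, true), (1, false), (0, true), (1, true), (0, true), (1, false), (0, true), (1, true), (0, true), (1, false), (0, true), (1, true), (0, true), (1, true), (0, true), (1, true), (0, true), (1, false), (0, true), (1, false), (0, true)]⟩),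
    (36, 37, ⟨1, false, 38, [(1, false), (0, true), (1, true), (0, true), (1, false), (0, true), (1, false), (0, true), (1, false), (0, true), (1, true), (0, true), (1, false), (0, true), (1, true), (0, true), (1, true), (0, true), (1, true), (0, true), (1, false), (0, true), (1, false), (0, true), (1, true), (0, true), (1, false), (0, true), (1, true), (0, true), (1, false), (0, true), (1, true), (0, true), (1, false), (0, true), (1, true), (0, true), (1, true), (0, true), (1, false), (0, true), (1, false)]⟩),
    (36, 25, ⟨1, false, 38, [(1, false), (0, true), (1, true), (0, true), (1, false), (0, true), (1, false), (0, true), (1, false), (0, true), (1, false), (0, true), (1, true), (0, true), (1, true), (0, true), (1, true), (0, true), (1, true), (0, true), (1, false), (0, true), (1, false), (0, true), (1, true), (0, true), (1, false), (0, true), (1, false), (0, true), (1, false), (0, true), (1, false), (0, true), (1, false), (0, true), (1, false), (0, true), (1, true), (0, true), (1, false), (0, true), (1, false), (0, true), (1, true), (0, true), (1, false), (0, true)]⟩),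
    (30, 39, ⟨1, false, 38, [(1, true), (0, true), (1, true), (0, true), (1, false), (0, true), (1, false), (0, true), (1, false), (0, true), (1, false), (0, true), (1, true), (0, true), (1, true), (0, true), (1, true), (0, true), (1, true), (0, true), (1, false), (0, true), (1, false), (0, true), (1, true), (0, true), (1, false), (0, true), (1, false), (0, true), (1, false), (0, true), (1, false), (0, true), (1, true), (0, true), (1, true), (0, true), (1, true), (0, true), (1, true), (0, true), (1, false), (0, true), (1, false), (0, true), (1, true), (0, true), (1, false), (0, true), (1, true), (0, true), (1, true), (0, true), (1, false), (0, true), (1, true), (0, true), (1, true)]⟩),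
    (39, 22, ⟨1, false, 38, [(1, true), (0, true), (1, false), (0, true), (1, true), (0, true), (1, true), (0, true), (1, true), (0, true), (1, false), (0, true), (1, true), (0, true), (1, true), (0, true), (1, false), (0, true), (1, false), (0, true), (1, true), (0, true), (1, false), (0, true), (1, true), (0, true), (1, true), (0, true), (1, true), (0, true), (1, true), (0, true), (1, true), (0, true), (1, true), (0, true), (1, false), (0, true), (1, false), (0, true), (1, false), (0, true), (1, true), (0, true), (1, true), (0, true), (1, false), (0, true), (1, true), (0, true), (1, false)]⟩),
    (39, 33, ⟨1, false, 38, [(1, true), (0, true), (1, false), (0, true), (1, true), (0, true), (1, false), (0, true), (1, false), (0, true), (1, false), (0, true), (1, true), (0, true), (1, false), (0, true), (1, true), (0, true)]⟩),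
    (27, 49, ⟨1, false, 38, [(1, false), (0, true), (1, true), (0, true), (1, false), (0, true), (1, false), (0, true), (1, false), (0, true), (1, false), (0, true), (1, true), (0, true), (1, true), (0, true), (1, true), (0, true), (1, true), (0, true), (1, false), (0, true), (1, false), (0, true), (1, true), (0, true), (1, false), (0, true), (1, false), (0, true), (1, false), (0, true), (1, false), (0, true), (1, true), (0, true), (1, true), (0, true), (1, true), (0, true), (1, true), (0, true), (1, false), (0, true), (1, true), (0, true), (1, true), (0, true), (1, false), (0, true), (1, false), (0, true), (1, false), (0, true), (1, true), (0, true), (1, false), (0, true), (1, true), (0, true), (1, true), (0, true), (1, true), (0, true), (1, false), (0, true), (0, true), (1, true), (0, true), (1, false), (0, true), (1, true), (0, true), (1, false), (0, true), (1, false), (0, true), (1, false), (0, true), (1, true), (0, true), (1, false), (0, true), (1, true), (0, true), (1, false), (0, true), (1, true)]⟩),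
    (27, 46, ⟨1, false, 38, [(1, false), (0, true), (1, true), (0, true), (1, false), (0, true), (1, false), (0, true), (1, false), (0, true), (1, false), (0, true), (1, true), (0, true), (1, true), (0, true), (1, true), (0, true), (1, true), (0, true), (1, false), (0, true), (1, false), (0, true), (1, true), (0, true), (1, false), (0, true), (1, false), (0, true), (1, false), (0, true), (1, false), (0, true), (1, true), (0, true), (1, true), (0, true), (1, true), (0, true), (1, true), (0, true), (1, false), (0, true), (1, true), (0, true), (1, true), (0, true), (1, false), (0, true), (1, false), (0, true), (1, false), (0, true), (1, false), (0, true), (1, true), (0, true), (1, true), (0, true), (1, true), (0, true), (1, true), (0, true), (1, false), (0, true), (1, true), (0, true), (1, true), (0, true), (1, false), (0, true), (1, true), (0, true), (1, false), (0, true), (1, false), (0, true), (1, false), (0, true), (1, true), (0, true), (1, false), (0, true), (1, true), (0, true), (1, false), (0, true), (1, true)]⟩),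
    (43, 22, ⟨1, false, 38, [(1, false), (0, true), (1, true), (0, true), (1, false), (0, true), (1, false), (0, true), (1, false), (0, true), (1, false), (0, true), (1, false), (0, true), (1, false), (0, true), (1, true), (0, true), (1, true), (0, true), (1, true), (0, true), (1, false), (0, true), (1, false), (0, true), (1, true), (0, true), (1, true), (0, true), (1, true), (0, true), (1, false), (0, true), (1, true), (0, true), (1, false), (0, true), (1, false), (0, true)]⟩),
    (46, 15, ⟨1, false, 38, [(0, true), (1, false), (0, true), (1, true), (0, true), (1, true), (0, true), (1, true), (0, true), (1, true), (0, true), (1, false), (0, true), (1, true), (0, true), (1, false), (0, true), (1, true), (1, true), (0, true), (1, true), (0, true), (1, true), (0, true), (1, false), (0, true), (1, false), (0, true), (1, false), (0, true), (1, false), (0, true), (1, true), (0, true), (1, true), (0, true), (1, false), (0, true), (1, false), (0, true), (1, false), (0, true), (1, false), (0, true), (1, false)]⟩),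
    (43, 33, ⟨1, false, 38, [(0, true), (1, false), (0, true), (1, false), (0, true), (1, false), (0, true), (1, true), (0, true), (1, false), (0, true), (1, true), (0, true), (1, false), (0, true), (1, false), (0, true), (1, true), (0, true), (1, false), (0, true), (1, true), (0, true), (1, true), (0, true), (1, false), (0, true), (1, false), (0, true), (1, true), (0, true), (1, true), (0, true), (1, true), (0, true), (1, true), (0, true), (1, true), (0, true), (1, false), (0, true), (1, true), (0, true), (1, false), (0, true), (1, false), (0, true), (1, false), (0, true)]⟩),
    (27, 53, ⟨1, false, 38, [(1, true), (0, true), (1, true), (0, true), (1, false), (0, true), (1, false), (0, true), (1, false), (0, true), (1, false), (0, true), (1, true), (0, true), (1, true), (0, true), (1, true), (0, true), (1, true), (0, true), (1, false), (0, true), (1, false), (0, true), (1, true), (0, true), (1, false), (0, true), (1, false), (0, true), (1, false), (0, true), (1, false), (0, true), (1, true), (0, true), (1, true), (0, true), (1, true), (0, true), (1, true), (0, true), (1, false), (0, true), (1, true), (0, true), (1, true), (0, true), (1, false), (0, true), (1, false), (0, true), (1, false), (0, true), (1, false), (0, true), (1, true), (0, true), (1, true), (0, true), (1, true), (0,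 true), (1, true), (0, true), (1, false), (0, true), (0, true), (1, true), (0, true), (1, false), (0, true), (1, false), (0, true), (1, false), (0, true), (1, true), (0, true), (1, false), (0, true), (1, true), (0, true), (1, true), (0, true), (1, true), (0, true), (1, false), (0, true), (0, true), (1, true), (0, true), (1, false), (0, true), (1, false), (0, true), (1, false), (0, true), (1, false), (0, true), (1, true), (0, true), (1, true), (0, true), (1, true), (0, true), (1, true), (0, true), (1, false), (0, true), (0, true), (1, true), (0, true), (1, false), (0, true), (1, true), (0, true), (1, false), (0, true), (1, false), (0, true), (1, false), (0, true), (1, true), (0, true), (1, false), (0, true), (1, true), (0, true), (1, false), (0, true), (1, true)]⟩),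
    (18, 51, ⟨1, false, 38, [(1, true), (0, true), (1, true), (0, true), (1, false), (0, true), (1, true), (0, true), (1, true), (0, true), (1, false), (0, true), (1, false), (0, true), (1, false), (0, true), (1, false), (0, true), (1, true), (0, true), (1, false), (0, true), (1, true), (0, true), (1, false), (0, true), (1, false), (0, true), (1, true), (0, true), (1, true), (0, true), (1, false), (0, true), (1, false), (0, true), (1, false), (0, true), (1, true), (0, true), (1, false), (0, true), (1, false), (0, true), (1, false), (0, true), (1, true), (0, true), (1, true)]⟩),
    (55, 24, ⟨1, false, 38, [(1, true), (0, true), (1, true), (0, true), (1, false), (0, true), (1, false), (0, true), (1, false), (0, true), (1, true), (1, true), (0, true), (1, true), (0, true), (1, true), (0, true), (1, true), (0, true), (1, false), (0, true), (1, true), (0, true), (1, false), (0, true), (1, true), (0, true), (1, false), (0, true), (1, false), (0, true), (1, true), (0, true), (1, false), (0, true), (1, true), (0, true), (1, false)]⟩),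
    (52, 33, ⟨1, false, 38, [(0, true), (1, false), (0, true), (1, false), (0, true), (1, false), (0, true), (1, false), (0, true), (1, false), (0, true), (1, false), (0, true), (1, true), (0, true), (1, false), (0, true), (1, true), (0, true), (1, false), (0, true), (1, false), (0, true), (1, false), (0, true), (1, true), (0, true), (1, true), (0, true), (1, false), (0, true), (1, true), (0, true), (1, true), (0, true), (1, true), (0, true), (1, false), (0, true), (1, false), (0, true), (1, false), (0, true), (1, false), (0, true), (1, false), (0, true), (1, true), (0, true)]⟩),
    (52, 23, ⟨1, false, 38, [(1, false), (0, true), (1, true), (0, true), (1, false), (0, true), (1, false), (0, true), (1, false), (0, true), (1, false), (0, true), (1, false), (0, true), (1, true), (1, true), (0, true), (1, true), (0, true), (1, true), (0, true), (1, true), (0, true), (1, false), (0, true), (1, false), (0, true), (1, true), (0, true), (1, true), (0, true), (1, false), (0, true), (1, true), (0, true), (1, false), (0, true), (1, true), (0, true), (1, false), (0, true), (1, true)]⟩),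
    (11, 56, ⟨1, false, 38, [(0, true), (1, true), (0, true), (1, false), (0, true), (1, true), (0, true), (1, true), (0, true), (1, false), (0, true), (1, true), (0, true), (1, true), (0, true), (1, false), (0, true), (1, false), (0, true), (1, false), (0, true), (1, true), (0, true), (1, false), (0, true), (1, false), (0, true), (1, false), (0, true), (1, true), (0, true), (1, false), (0, true), (1, true), (0, true), (1, true), (0, true), (1, true), (0, true), (1, false), (0, true), (1, false), (0, true), (1, true), (0, true), (1, false)]⟩),
    (56, 20, ⟨1, false, 38, [(1, false), (0, true), (1, false), (0, true), (1, false), (0, true), (1, true), (0, true), (1, true), (0, true), (1, true), (0, true), (1, true), (0, true), (1, true), (0, true), (1, true), (0, true), (1, false), (0, true), (1, false), (0, true), (1, true), (0, true), (1, false), (0, true), (1, false), (0, true), (1, true), (0, true), (1, false), (0, true), (1, true), (0, true), (1, true), (0, true), (1, false), (0, true), (1, true), (0, true), (1, false), (0, true), (1, true), (0, true), (1, false), (0, true), (1, true), (0, true), (1, true), (0, true)]⟩),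
    (27, 58, ⟨1, false, 38, [(0, true), (1, false), (0, true), (1, false), (0, true), (1, false), (0, true), (1, true), (0, true), (1, false), (0, true), (1, false), (0, true), (1, true), (0, true), (1, true), (0, true), (1, true), (0, true), (1, true), (0, true), (1, true), (0, true), (1, false), (0, true), (1, true), (0, true), (1, false), (0, true), (1, false), (0, true), (1, false), (0, true), (1, true), (0, true), (1, true), (0, true), (1, false), (0, true), (1, false), (0, true), (1, false), (0, true), (1, true), (0, true), (1, true), (0, true), (1, false), (0, true)]⟩),
    (13, 58, ⟨1, false, 38, [(1, false), (0, true), (1, true), (0, true), (1, false), (0, true), (1, false), (0, true), (1, false), (0, true), (1, true), (0, true), (1, false), (0, true), (1, false), (0, true), (1, true), (0, true), (1, true), (0, true), (1, true), (0, true), (1, false), (0, true), (1, true), (0, true), (1, false), (0, true), (1, false), (0, true), (1, true), (0, true), (1, true), (0, true), (1, true), (0, true), (1, false), (0, true), (1, true), (0, true), (1, false), (0, true), (1, true), (0, true), (1, false)]⟩),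
    (28, 58, ⟨1, false, 38, [(1, false), (0, true), (1, false), (0, true), (1, true), (0, true), (1, true), (0, true), (1, true), (0, true), (1, false), (0, true), (1, true), (0, true), (1, false), (0, true), (1, false), (0, true), (1, false), (0, true), (1, false), (0, true), (1, true), (0, true), (1, true), (0, true), (1, false), (0, true), (1, false), (0, true), (1, false), (0, true), (1, false), (0, true), (1, false), (0, true), (1, false), (0, true), (1, false), (0, true), (1, true), (0, true), (1, false), (0, true), (1, false), (0, true), (1, false), (0, true), (1, false)]⟩),
    (20, 59, ⟨1, false, 38, [(1, false), (0, true), (1, true), (0, true), (1, false), (0, true), (1, false), (0, true), (1, false), (0, true), (1, false), (0, true), (1, true), (0, true), (1, true), (0, true), (1, true), (0, true), (1, true), (0, true), (1, false), (0, true), (1, false), (0, true), (1, false), (0, true), (1, true), (0, true), (1, false), (0, true), (1, false), (0, true), (1, false), (0, true), (1, true), (0, true), (1, true), (0, true), (1, true), (0, true), (1, true), (0, true), (1, true), (0, true)]⟩),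
    (14, 56, ⟨1, false, 38, [(1, false), (0, true), (1, true), (0, true), (1, false), (0, true), (1, false), (0, true), (1, false), (0, true), (1, false), (0, true), (1, true), (0, true), (1, true), (0, true), (1, true), (0, true), (1, true), (0, true), (1, false), (0, true), (1, false), (0, true), (1, true), (0, true), (1, false), (0, true), (1, false), (0, true), (1, false), (0, true), (1, false), (0, true), (1, true), (0, true), (1, true), (0, true), (1, true), (0, true), (1, true), (0, true), (1, false), (0, true), (1, true), (0, true), (1, true), (0, true), (1, false), (0, true), (1, false), (0, true), (1, false), (0, true), (1, false), (0, true), (1, true), (0, true), (1, true), (0, true), (1, true), (0, true), (1, true), (0, true), (1, false), (0, true), (1, true), (0, true), (1, true), (0, true), (1, false), (0, true), (1, true), (0, true), (1, false), (0, true), (1, false), (0, true), (1, false), (0, true), (1, true), (0, true), (1, false), (0, true), (1, true), (0, true), (1, false), (0, true)]⟩),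
    (3, 56, ⟨1, false, 38, [(1, true), (0, true), (1, false), (0, true), (1, false), (0, true), (1, false), (0, true), (1, false), (0, true), (1, false), (0, true), (1, false), (0, true), (1, true), (0, true), (1, false), (0, true), (1, true), (0, true), (1, true), (0, true), (1, true), (0, true), (1, true), (0, true), (1, true), (0, true), (1, true), (0, true), (1, false), (0, true), (1, false), (0, true), (1, false), (0, true), (1, false), (0, true), (1, true), (0, true), (1, true), (0, true), (1, false), (0, true), (1, false), (0, true), (1, false), (0, true), (1, false), (0, true), (1, true), (0, true)]⟩),
    (15, 58, ⟨1, false, 38, [(0, true), (1, false), (0, true), (1, false), (0, true), (1, false), (0, true), (1, true), (0, true), (1, false), (0, true), (1, true), (0, true), (1, true), (0, true), (1, true), (0, true), (1, false), (0, true), (1, true), (0, true), (1, false), (0, true), (1, false), (0, true), (1, true), (0, true), (1, true), (0, true), (1, true), (0, true), (1, true), (0, true), (1, true), (0, true), (1, true), (0, true), (1, false), (0, true), (1, true), (0, true), (1, false), (0, true), (1, true), (0, true), (1, false), (0, true), (1, false), (0, true), (1, false), (0, true), (1, true), (0, true)]⟩),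
    (18, 56, ⟨1, false, 38, [(0, true), (1, false), (0, true), (1, false), (0, true), (1, false), (0, true), (1, true), (0, true), (1, false), (0, true), (1, true), (0, true), (1, true), (0, true), (1, true), (0, true), (1, false), (0, true), (1, false), (0, true), (1, false), (0, true), (1, false), (0, true), (1, false), (0, true), (1, false), (0, true), (1, true), (0, true), (1, true), (0, true), (1, true), (0, true), (1, false), (0, true), (1, false), (0, true), (1, false), (0, true), (1, false), (0, true), (1, true), (0, true), (1, false), (0, true), (1, false), (0, true), (1, false), (0, true), (1, false)]⟩),
    (61, 50, ⟨1, false, 38, [(0, true), (1, true), (0, true), (1, true), (0, true), (1, false), (0, true), (1, false), (0, true), (1, false), (0, true), (1, false), (0, true), (1, false), (0, true), (1, false), (0, true), (1, true), (0, true), (1, false), (0, true), (1, true), (0, true), (1, false), (0, true), (1, true), (0, true), (1, true), (0, true), (1, true), (0, true), (1, true), (0, true), (1, true), (0, true), (1, true), (0, true), (1, false), (0, true), (1, false), (0, true), (1, true), (0, true), (1, true), (0, true), (1, false), (0, true), (1, true), (0, true), (1, false), (0, true), (1, true), (0, true), (1, false)]⟩),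
    (8, 69, ⟨1, false, 38, [(0, true), (1, true), (0, true), (1, true), (0, true), (1, false), (0, true), (1, false), (0, true), (1, true), (0, true), (1, false), (0, true), (1, false), (0, true), (1, false), (0, true), (1, false), (0, true), (1, false), (0, true), (1, false), (0, true), (1, false), (0, true), (1, false), (0, true), (1, false), (0, true), (1, false), (0, true), (1, true), (0, true), (1, false), (0, true), (1, true), (0, true), (1, false), (0, true), (1, false), (0, true), (1, true), (0, true), (1, true), (0, true), (1, true), (0, true), (1, false), (0, true)]⟩),
    (44, 70, ⟨1, false, 38, [(1, false), (0, true), (1, true), (0, true), (1, false), (0, true), (1, false), (0, true), (1, false), (0, true), (1, true), (0, true), (1, true), (0, true), (1, false), (0, true), (1, false), (0, true), (1, false), (0, true), (1, true), (0, true), (1, false), (0, true), (1, false), (0, true), (1, true), (0, true), (1, true), (0, true), (1, true), (0, true), (1, true), (0, true), (1, false), (0, true), (1, false), (0, true), (1, false), (0, true), (1, false), (0, true), (1, false), (0, true), (1, true), (0, true), (1, false), (0, true), (1, true), (0, true), (1, false), (0, true), (1, true)]⟩),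
    (44, 63, ⟨1, false, 38, [(1, true), (0, true), (1, true), (0, true), (1, true), (0, true), (1, true), (0, true), (1, false), (0, true), (1, true), (0, true), (1, false), (0, true), (1, true), (0, true), (1, true), (0, true), (1, false), (0, true), (1, false), (0, true), (1, true), (0, true), (1, true), (0, true), (1, false), (0, true), (1, true), (0, true), (1, true), (0, true), (1, true), (0, true), (1, true), (0, true), (1, false), (0, true), (1, true), (0, true), (1, false), (0, true), (1, false), (0, true), (1, true), (0, true), (1, true), (0, true), (1, true), (0, true), (1, true), (0, true)]⟩),
    (68, 10, ⟨1, false, 38, [(1, false), (0, true), (1, true), (0, true), (1, false), (0, true), (1, false), (0, true), (1, false), (0, true), (1, false), (0, true), (1, false), (0, true), (1, false), (0, true), (1, true), (0, true), (1, true), (0, true), (1, true), (0, true), (1, true), (0, true), (1, false), (0, true), (1, true), (0, true), (1, true), (0, true), (1, true), (0, true), (1, false), (0, true), (1, false), (0, true), (1, true), (0, true), (1, true), (0, true), (1, true), (0, true), (1, true), (0, true), (1, true)]⟩),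
    (2, 67, ⟨1, false, 38, [(1, true), (0, true), (1, true), (0, true), (1, false), (0, true), (1, false), (0, true), (1, false), (0, true), (1, false), (0, true), (1, true), (0, true), (1, true), (0, true), (1, true), (0, true), (1, true), (0, true), (1, false), (0, true), (1, true), (0, true), (1, true), (0, true), (1, false), (0, true), (1, false), (0, true), (1, false), (0, true), (1, false), (0, true), (1, true), (0, true), (1, true), (0, true), (1, false), (0, true), (1, false), (0, true), (1, false), (0, true), (1, false), (0, true), (1, true), (0, true), (1, false), (0, true), (1, false), (0, true)]⟩),
    (30, 70, ⟨1, false, 38, [(1, false), (0, true), (1, true), (0, true), (1, false), (0, true), (1, true), (0, true), (1, true), (0, true), (1, true), (0, true), (1, true), (0, true), (1, true), (0, true), (1, true), (0, true), (1, true), (0, true), (1, false), (0, true), (1, false), (0, true), (1, false), (0, true), (1, false), (0, true), (1, false), (0, true), (1, false), (0, true), (1, true), (0, true), (1, true), (0, true), (1, true), (0, true), (1, true), (0, true), (1, false), (0, true), (1, true), (0, true), (1, true), (0, true), (1, false), (0, true), (1, false)]⟩),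
    (64, 67, ⟨1, false, 38, [(1, false), (0, true), (1, true), (0, true), (1, false), (0, true), (1, false), (0, true), (1, false), (0, true), (1, false), (0, true), (1, false), (0, true), (1, true), (0, true), (1, true), (0, true), (1, true), (0, true), (1, true), (0, true), (1, true), (0, true), (1, false), (0, true), (1, true), (0, true), (1, true), (0, true), (1, true), (0, true), (1, false), (0, true), (1, false), (0, true), (1, false), (0, true), (1, true), (0, true), (1, false), (0, true), (1, true), (0, true)]⟩),
    (31, 69, ⟨1, false, 38, [(0, true), (1, false), (0, true), (1, false), (0, true), (1, false), (0, true), (1, true), (0, true), (1, true), (0, true), (1, false), (0, true), (1, true), (0, true), (1, true), (0, true), (1, true), (0, true), (1, false), (0, true), (1, true), (0, true), (1, true), (0, true), (1, true), (0, true), (1, true), (0, true), (1, true), (0, true), (1, true), (0, true), (1, false), (0, true), (1, true), (0, true), (1, false), (0, true), (1, false), (0, true), (1, false), (0, true), (1, false), (0, true), (1, false), (0, true), (1, false), (0, true), (1, false), (0, true), (1, true)]⟩),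
    (68, 40, ⟨1, false, 38, [(1, true), (0, true), (1, true), (0, true), (1, false), (0, true), (1, false), (0, true), (1, false), (0, true), (1, false), (0, true), (1, true), (0, true), (1, true), (0, true), (1, false), (0, true), (1, true), (0, true), (1, false), (0, true), (1, true), (0, true), (1, false), (0, true), (1, false), (0, true), (1, false), (0, true), (1, true), (0, true), (1, false), (0, true), (1, false), (0, true), (1, false), (0, true), (1, false), (0, true), (1, false), (0, true), (1, true), (0, true), (1, true), (0, true), (1, true), (0, true), (1, false), (0, true), (1, false), (0, true)]⟩),
    (68, 23, ⟨1, false, 38, [(0, true), (1, true), (0, true), (1, false), (0, true), (1, true), (0, true), (1, true), (0, true), (1, true), (0, true), (1, false), (0, true), (1, false), (0, true), (1, true), (0, true), (1, false), (0, true), (1, false), (0, true), (1, true), (0, true), (1, true), (0, true), (1, true), (0, true), (1, true), (0, true), (1, true), (0, true), (1, false), (0, true), (1, false), (0, true), (1, true), (0, true), (1, false), (0, true), (1, false), (0, true), (1, true), (0, true), (1, false), (0, true)]⟩),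
    (8, 75, ⟨1, false, 38, [(1, true), (0, true), (1, true), (0, true), (1, false), (0, true), (1, false), (0, true), (1, true), (0, true), (1, false), (0, true), (1, true), (0, true), (1, true), (0, true), (1, true), (0, true), (1, true), (0, true), (1, false), (0, true), (1, true), (0, true), (1, true), (0, true), (1, false), (0, true), (1, false), (0, true), (1, true), (0, true), (1, false), (0, true), (1, true), (0, true), (1, false), (0, true), (1, true), (0, true), (1, false), (0, true), (1, false)]⟩),
    (46, 78, ⟨1, false, 38, [(1, true), (0, true), (1, true), (0, true), (1, false), (0, true), (1, false), (0, true), (1, false), (0, true), (1, false), (0, true), (1, true), (0, true), (1, true), (0, true), (1, true), (0, true), (1, true), (0, true), (1, false), (0, true), (1, true), (0, true), (1, true), (0, true), (1, false), (0, true), (1, false), (0, true), (1, false), (0, true), (1, false), (0, true), (1, false), (0, true), (1, true), (0, true), (1, true), (0, true), (1, false), (0, true), (1, true), (0, true), (1, false), (0, true), (1, true), (0, true), (1, true), (0, true), (1, false), (0, true)]⟩),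
    (28, 73, ⟨1, false, 38, [(1, false), (0, true), (1, true), (0, true), (1, false), (0, true), (1, false), (0, true), (1, false), (0, true), (1, true), (1, true), (0, true), (1, true), (0, true), (1, true), (0, true), (1, true), (0, true), (1, false), (0, true), (1, false), (0, true), (1, false), (0, true), (1, false), (0, true), (1, true), (0, true), (1, false), (0, true), (1, false), (0, true), (1, false), (0, true), (1, true), (0, true), (1, true)]⟩),
    (31, 75, ⟨1, false, 38, [(1, false), (0, true), (1, true), (0, true), (1, false), (0, true), (1, false), (0, true), (1, false), (0, true), (1, false), (0, true), (1, true), (0, true), (1, true), (0, true), (1, true), (0, true), (1, true), (0, true), (1, false), (0, true), (1, true), (0, true), (1, true), (0, true), (1, false), (0, true), (1, false), (0, true), (1, false), (0, true), (1, true), (0, true), (1, false), (0, true), (1, true), (0, true), (1, true), (0, true), (1, true), (0, true), (1, false), (0, true), (0, true), (1, true), (0, true), (1, false), (0, true), (1, false), (0, true), (1, false), (0, true), (1, false), (0, true), (1, true), (0, true), (1, true), (0, true), (1, true), (0, true), (1, true), (0, true), (1, false), (0, true), (0, true), (1, false), (0, true), (1, true), (0, true), (1, false), (0, true),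 (1, false), (0, true), (1, false), (0, true), (1, true), (0, true), (1, true), (0, true), (1, false), (0, true), (1, true)]⟩),
    (52, 76, ⟨1, false, 38, [(1, true), (0, true), (1, true), (0, true), (1, false), (0, true), (1, false), (0, true), (1, false), (0, true), (1, false), (0, true), (1, true), (0, true), (1, true), (0, true), (1, true), (0, true), (1, true), (0, true), (1, false), (0, true), (1, true), (0, true), (1, true), (0, true), (1, true), (0, true), (1, false), (0, true), (1, true), (0, true), (1, false), (0, true), (1, true), (0, true), (1, false), (0, true), (1, true)]⟩),
    (71, 47, ⟨1, false, 38, [(1, true), (0, true), (1, true), (0, true), (1, false), (0, true), (1, true), (0, true), (1, true), (0, true), (1, false), (0, true), (1, false), (0, true), (1, false), (0, true), (1, false), (0, true), (1, true), (0, true), (1, false), (0, true), (1, true), (0, true), (1, false), (0, true), (1, false), (0, true), (1, true), (0, true), (1, true), (0, true), (1, false), (0, true), (1, false), (0, true), (1, false), (0, true), (1, true), (0, true), (1, false), (0, true), (1, false), (0, true), (1, false), (0, true), (1, true), (0, true), (1, false)]⟩),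
    (52, 80, ⟨1, false, 38, [(1, true), (0, true), (1, true), (0, true), (1, true), (0, true), (1, false), (0, true), (1, false), (0, true), (1, false), (0, true), (1, false), (0, true), (1, true), (0, true), (1, true), (0, true), (1, true), (0, true), (1, true), (0, true), (1, true), (0, true), (1, false), (0, true), (1, false), (0, true), (1, true), (0, true), (1, true), (0, true), (1, true), (0, true), (1, true), (0, true), (1, true), (0, true), (1, true), (0, true), (1, false), (0, true), (1, false), (0, true), (1, true), (0, true), (1, false), (0, true), (1, false), (0, true), (1, true)]⟩),
    (73, 52, ⟨1, false, 38, [(1, true), (0, true), (1, true), (0, true), (1, false), (0, true), (1, false), (0, true), (1, false), (0, true), (1, false), (0, true), (1, true), (0, true), (1, true), (0, true), (1, true), (0, true), (1, true), (0, true), (1, false), (0, true), (1, true), (0, true), (1, true), (0, true), (1, false), (0, true), (1, false), (0, true), (1, false), (0, true), (1, false), (0, true), (1, true), (0, true), (1, true), (0, true), (1, true), (0, true), (1, true), (0, true), (1, false), (0, true), (0, true), (1, true), (0, true), (1, false), (0, true), (1, true), (0, true), (1, false), (0, true), (1, false), (0, true), (1, false), (0, true), (1, true), (0, true), (1, false),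 (0, true), (1, false), (0, true), (1, true)]⟩),
    (13, 73, ⟨1, false, 38, [(1, false), (0, true), (1, true), (0, true), (1, false), (0, true), (1, false), (0, true), (1, false), (0, true), (1, true), (0, true), (1, true), (0, true), (1, false), (0, true), (1, false), (0, true), (1, false), (0, true), (1, false), (0, true), (1, false), (0, true), (1, false), (0, true), (1, false), (0, true), (1, false), (0, true), (1, true), (0, true), (1, true), (0, true), (1, true), (0, true), (1, false), (0, true), (1, false), (0, true), (1, false), (0, true), (1, true), (0, true), (1, false), (0, true), (1, false), (0, true), (1, false), (0, true), (1, true), (0, true)]⟩),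
    (54, 81, ⟨1, false, 38, [(0, true), (1, true), (0, true), (1, true), (0, true), (1, true), (0, true), (1, true), (0, true), (1, true), (0, true), (1, false), (0, true), (1, true), (0, true), (1, false), (0, true), (1, true), (0, true), (1, false), (0, true), (1, false), (0, true), (1, true), (0, true), (1, true), (0, true), (1, true), (0, true), (1, true), (0, true), (1, true), (0, true), (1, true), (0, true), (1, true), (0, true), (1, true), (0, true), (1, false), (0, true), (1, true), (0, true), (1, false), (0, true), (1, true), (0, true), (1, true), (0, true), (1, false), (0, true), (1, true), (0, true)]⟩),
    (36, 82, ⟨1, false, 38, [(1, false), (0, true), (1, true), (0, true), (1, false), (0, true), (1, false), (0, true), (1, false), (0, true), (1, false), (0, true), (1, true), (0, true), (1, true), (0, true), (1, false), (0, true), (1, false), (0, true), (1, true), (0, true), (1, false), (0, true)]⟩),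
    (82, 43, ⟨1, false, 38, [(1, false), (0, true), (1, false), (0, true), (1, false), (0, true), (1, false), (0, true), (1, true), (0, true), (1, true), (0, true), (1, false), (0, true), (1, false), (0, true), (1, false), (0, true), (1, false), (0, true), (1, false), (0, true), (1, true), (0, true), (1, true), (0, true), (1, true), (0, true), (1, false), (0, true), (1, false), (0, true), (1, true), (0, true), (1, false), (0, true), (1, true), (0, true), (1, false), (0, true), (1, true), (0, true), (1, false), (0, true), (1, false), (0, true), (1, false), (0, true), (1, true), (0, true), (1, true), (0, true)]⟩),
    (72, 88, ⟨1, false, 38, [(0, true), (1, false), (0, true), (1, false), (0, true), (1, true), (0, true), (1, false), (0, true), (1, false), (0, true), (1, true), (0, true), (1, false), (0, true), (1, false), (0, true), (1, false), (0, true), (1, true), (0, true), (1, false), (0, true), (1, false), (0, true), (1, false), (0, true), (1, false), (0, true), (1, true), (0, true), (1, true), (0, true), (1, false), (0, true), (1, false), (0, true), (1, false), (0, true), (1, false), (0, true), (1, true), (0, true), (1, true), (0, true), (1, true), (0, true), (1, false), (0, true), (1, true), (0, true)]⟩),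
    (90, 53, ⟨1, false, 38, [(0, true), (1, true), (0, true), (1, true), (0, true), (1, true), (0, true), (1, false), (0, true), (1, false), (0, true), (1, true), (0, true), (1, true), (0, true), (1, true), (0, true), (1, false), (0, true), (1, true), (0, true), (1, true), (0, true), (1, false), (0, true), (1, false), (0, true), (1, true), (0, true), (1, false), (0, true), (1, true), (0, true), (1, false), (0, true), (1, true), (0, true), (1, false), (0, true), (1, true), (0, true), (1, false), (0, true), (1, false), (0, true), (1, false), (0, true), (1, false), (0, true), (1, false), (0, true)]⟩),
    (90, 49, ⟨1, false, 38, [(1, true), (0, true), (1, false), (0, true), (1, true), (0, true), (1, false), (0, true), (1, false), (0, true), (1, false), (0, true), (1, true), (0, true), (1, false), (0, true), (1, true), (0, true), (1, true)]⟩),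
    (39, 94, ⟨1, false, 38, [(1, false), (0, true), (1, true), (0, true), (1, false), (0, true), (1, false), (0, true), (1, false), (0, true), (1, false), (0, true), (1, false), (0, true), (1, false), (0, true), (1, true), (0, true), (1, true), (0, true), (1, true), (0, true), (1, true), (0, true), (1, true), (0, true), (1, false), (0, true), (1, false), (0, true), (1, false), (0, true), (1, true), (0, true), (1, false), (0, true), (1, true), (0, true)]⟩),
    (42, 94, ⟨1, false, 38, [(0, true), (1, false), (0, true), (1, false), (0, true), (1, false), (0, true), (1, false), (0, true), (1, true), (0, true), (1, true), (0, true), (1, true), (0, true), (1, true), (0, true), (1, true), (0, true), (1, false), (0, true), (1, false), (0, true), (1, true), (0, true), (1, true), (0, true), (1, true), (0, true), (1, true), (0, true), (1, false), (0, true), (1, true), (0, true), (1, true), (0, true), (1, true), (0, true), (1, true), (0, true), (1, false), (0, true), (1, false), (0, true)]⟩),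
    (41, 94, ⟨1, false, 38, [(1, false), (0, true), (1, true), (0, true), (1, false), (0, true), (1, false), (0, true), (1, false), (0, true), (1, false), (0, true), (1, true), (0, true), (1, true), (0, true), (1, true), (0, true), (1, true), (0, true), (1, false), (0, true), (1, true), (0, true), (1, true), (0, true), (1, false), (0, true), (1, false), (0, true), (1, false), (0, true), (1, false), (0, true), (1, true), (0, true), (1, true), (0, true), (1, false), (0, true), (1, false), (0, true), (1, true), (0, true), (1, false), (0, true), (1, true), (0, true)]⟩),
    (94, 48, ⟨1, false, 38, [(1, false), (0, true), (1, true), (0, true), (1, false), (0, true), (1, false), (0, true), (1, false), (0, true), (1, false), (0, true), (1, true), (0, true), (1, true), (0, true), (1, true), (0, true), (1, true), (0, true), (1, true), (0, true), (1, true), (0, true), (1, false), (0, true), (1, true), (0, true), (1, false), (0, true), (1, false), (0, true), (1, true), (0, true), (1, false)]⟩),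
    (92, 88, ⟨1, false, 38, [(1, false), (0, true), (1, true), (0, true), (1, false), (0, true), (1, false), (0, true), (1, false), (0, true), (1, false), (0, true), (1, true), (0, true), (1, true), (0, true), (1, true), (0, true), (1, true), (0, true), (1, false), (0, true), (1, true), (0, true), (1, true), (0, true), (1, false), (0, true), (1, false), (0, true), (1, false), (0, true), (1, false), (0, true), (1, true), (0, true), (1, true), (0, true), (1, true), (0, true), (1, true), (0, true), (1, false), (0, true), (1, false), (0, true), (1, true), (0, true), (1, false), (0, true), (1, false), (0, true), (1, false), (0, true), (1, false), (0, true), (1, true), (0, true), (1, true), (0, true), (1, true), (0, true), (1, true), (0, true), (1, false), (0, true), (0, true), (1, true), (0, true), (1, true), (0, true), (1, false), (0, true), (1, false), (0, true), (1, false), (0, true), (1, true), (0, true), (1, false), (0, true), (1, false), (0, true), (1, false), (0, true), (1, false), (0, true), (1, true)]⟩),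
    (92, 91, ⟨1, false, 38, [(1, false), (0, true), (1, true), (0, true), (1, false), (0, true), (1, true), (0, true), (1, true), (0, true), (1, true), (0, true), (1, false), (0, true), (1, false), (0, true), (1, true), (0, true), (1, false), (0, true), (1, true), (0, true), (1, false), (0, true), (1, false), (0, true), (1, false), (0, true), (1, false), (0, true), (1, false), (0, true), (1, false), (0, true), (1, false), (0, true), (1, false), (0, true), (1, false), (0, true), (1, true), (0, true), (1, true)]⟩),
    (30, 94, ⟨1, false, 38, [(1, true), (0, true), (1, true), (0, true), (1, false), (0, true), (1, false), (0, true), (1, false), (0, true), (1, false), (0, true), (1, true), (0, true), (1, true), (0, true), (1, true), (0, true), (1, true), (0, true), (1, false), (0, true), (1, true), (0, true), (1, true), (0, true), (1, false), (0, true), (1, false), (0, true), (1, false), (0, true), (1, false), (0, true), (1, true), (0, true), (1, true), (0, true), (1, true), (0, true), (1, true), (0, true), (1, false), (0, true), (1, false), (0, true), (1, true), (0, true), (1, false), (0, true), (1, true), (0, true), (1, true), (0, true), (1, false), (0, true), (1, true), (0, true), (1, true)]⟩),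
    (29, 94, ⟨1, false, 38, [(1, true), (0, true), (1, true), (0, true), (1, false), (0, true), (1, false), (0, true), (1, false), (0, true), (1, false), (0, true), (1, true), (0, true), (1, true), (0, true), (1, true), (0, true), (1, true), (0, true), (1, false), (0, true), (1, false), (0, true), (1, true), (0, true), (1, false), (0, true), (1, false), (0, true), (1, false), (0, true), (1, false), (0, true), (1, true), (0, true), (1, true), (0, true), (1, true), (0, true), (1, true), (0, true), (1, false), (0, true), (0, true), (1, true), (0, true), (1, false), (0, true), (1, false), (0, true), (1, false), (0, true), (1, true), (0, true), (1, false), (0, true), (1, true), (0, true), (1, true), (0, true), (1, true), (0, true), (1, false), (0, true), (1, true), (0, true), (1, true), (0, true), (1, false), (0, true), (1, false), (0, true), (1, false), (0, true), (1, false), (0, true), (1, true), (0, true), (1, true), (0, true), (1, true), (0, true), (1, true), (0, true), (1, false), (0, true), (0, true), (1, false), (0, true), (1, false), (0, true), (1, false), (0, true), (1, false), (0, true), (1, false), (0, true), (1, true)]⟩),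
    (95, 103, ⟨1, false, 38, [(1, false), (0, true), (1, true), (0, true), (1, false), (0, true), (1, false), (0, true), (1, false), (0, true), (1, false), (0, true), (1, true), (0, true), (1, true), (0, true), (1, true), (0, true), (1, true), (0, true), (1, false), (0, true), (1, false), (0, true), (1, true), (0, true), (1, false), (0, true), (1, false), (0, true), (1, false), (0, true), (1, false), (0, true), (1, true), (0, true), (1, true), (0, true), (1, true), (0, true), (1, true), (0, true), (1, false), (0, true), (1, true), (0, true), (1, true), (0, true), (1, true), (0, true), (1, true), (0, true), (1, false), (0, true), (1, true), (0, true), (1, false), (0, true), (1, false), (0, true), (1, true), (0, true), (1, false), (0, true), (1, true), (0, true)]⟩),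
    (99, 87, ⟨1, false, 38, [(1, false), (0, true), (1, true), (0, true), (1, false), (0, true), (1, false), (0, true), (1, false), (0, true), (1, false), (0, true), (1, true), (0, true), (1, true), (0, true), (1, true), (0, true), (1, true), (0, true), (1, false), (0, true), (1, true), (0, true), (1, true), (0, true), (1, false), (0, true), (1, false), (0, true), (1, false), (0, true), (1, true), (0, true), (1, false), (0, true), (1, true), (0, true), (1, true), (0, true), (1, true), (0, true), (1, false), (0, true), (1, true), (0, true), (1, true), (0, true), (1, false), (0, true), (1, false), (0, true), (1, false), (0, true), (1, false), (0, true), (1, true), (0, true), (1, true), (0, true), (1, true), (0, true), (1, true), (0, true), (1, false), (0, true), (0, true), (1, false), (0, true), (1, false), (0, true), (1, true), (0, true), (1, true), (0, true), (1, false), (0, true), (1, false), (0, true), (1, false), (0, true), (1, true), (0, true), (1, true), (0, true), (1, true), (0, true), (1, true)]⟩),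
    (84, 103, ⟨1, false, 38, [(1, true), (0, true), (1, false), (0, true), (1, false), (0, true), (1, false), (0, true), (1, true), (0, true), (1, true), (0, true), (1, false), (0, true), (1, false), (0, true), (1, true), (0, true), (1, true), (0, true), (1, true), (0, true), (1, false), (0, true), (1, false), (0, true), (1, false), (0, true), (1, false), (0, true), (1, true), (0, true), (1, true), (0, true), (1, true), (0, true), (1, false), (0, true), (1, true), (0, true), (1, true), (0, true), (1, false), (0, true), (1, true), (0, true), (1, true), (0, true)]⟩),
    (25, 99, ⟨1, false, 38, [(1, false), (0, true), (1, true), (0, true), (1, false), (0, true), (1, false), (0, true), (1, false), (0, true), (1, false), (0, true), (1, true), (0, true), (1, false), (0, true), (1, true), (0, true), (1, false), (0, true), (1, true), (0, true), (1, false), (0, true), (1, true)]⟩),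
    (98, 71, ⟨1, false, 38, [(0, true), (1, false), (0, true), (1, true), (0, true), (1, false), (0, true), (1, false), (0, true), (1, true), (0, true), (1, true), (0, true), (1, true), (0, true), (1, true), (0, true), (1, true), (0, true), (1, false), (0, true), (1, true), (0, true), (1, false), (0, true), (1, true), (0, true), (1, false), (0, true), (1, true), (0, true), (1, true), (0, true), (1, true), (0, true), (1, true), (0, true), (1, false), (0, true), (1, true), (0, true), (1, true), (0, true), (1, false), (0, true), (1, true), (0, true), (1, false), (0, true), (1, true), (0, true), (1, true)]⟩),
    (74, 103, ⟨1, false, 38, [(1, false), (0, true), (1, true), (0, true), (1, false), (0, true), (1, false), (0, true), (1, false), (0, true), (1, false), (0, true), (1, true), (0, true), (1, true), (0, true), (1, true), (0, true), (1, true), (0, true), (1, false), (0, true), (1, true), (0, true), (1, true), (0, true), (1, false), (0, true), (1, false), (0, true), (1, false), (0, true), (1, false), (0, true), (1, true), (0, true), (1, true), (0, true), (1, true), (0, true), (1, true), (0, true), (1, false), (0, true), (1, false), (0, true), (1, true), (0, true), (1, false), (0, true), (1, false), (0, true), (1, false), (0, true), (1, false), (0, true), (1, true), (0, true), (1,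 true), (0, true), (1, true), (0, true), (1, true), (0, true), (1, false), (0, true), (0, true), (1, true), (0, true), (1, false), (0, true), (1, false), (0, true), (1, false), (0, true), (1, true), (0, true), (1, false), (0, true), (1, true), (0, true), (1, true), (0, true), (1, true), (0, true), (1, false), (0, true), (1, false), (0, true), (1, false), (0, true), (1, true), (0, true), (1, false), (0, true), (1, false), (0, true), (1, false), (0, true), (1, true), (0, true), (1, false), (0, true), (1, true), (0, true), (1, false)]⟩),
    (98, 3, ⟨1, false, 38, [(0, true), (1, true), (0, true), (1, false), (0, true), (1, true), (0, true), (1, false), (0, true), (1, false), (0, true), (1, true), (0, true), (1, true), (0, true), (1, false), (0, true), (1, false), (0, true), (1, true), (0, true), (1, false), (0, true), (1, true), (0, true), (1, true), (0, true), (1, true), (0, true), (1, true), (0, true), (1, false), (0, true), (1, true), (0, true), (1, true), (0, true), (1, false), (0, true), (1, false), (0, true), (1, false), (0, true), (1, false), (0, true), (1, false), (0, true), (1, true), (0, true), (1, false), (0, true), (1, false)]⟩),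
    (35, 101, ⟨1, false, 38, [(0, true), (1, false), (0, true), (1, false), (0, true), (1, true), (0, true), (1, true), (0, true), (1, false), (0, true), (1, false), (0, true), (1, false), (0, true), (1, false), (0, true), (1, true), (0, true), (1, true), (0, true), (1, false), (0, true), (1, false), (0, true), (1, false), (0, true), (1, true), (0, true), (1, true), (0, true), (1, true), (0, true), (1, true), (0, true), (1, false), (0, true), (1, false), (0, true), (1, false), (0, true), (1, false), (0, true), (1, false), (0, true), (1, false), (0, true), (1, true), (0, true), (1, false), (0, true)]⟩),
    (14, 99, ⟨1, false, 38, [(0, true), (1, false), (0, true), (1, false), (0, true), (1, false), (0, true), (1, true), (0, true), (1, true), (0, true), (1, true), (0, true), (1, false), (0, true), (1, false), (0, true), (1, true), (0, true), (1, false), (0, true), (1, false), (0, true), (1, false), (0, true), (1, false), (0, true), (1, false), (0, true), (1, true), (0, true), (1, false), (0, true), (1, false), (0, true), (1, false), (0, true), (1, true), (0, true), (1, true), (0, true), (1, false), (0, true), (1, true), (0, true), (1, false), (0, true), (1, true), (0, true), (1, true), (0, true), (1, false), (0, true)]⟩),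
    (45, 99, ⟨1, false, 38, [(1, false), (0, true), (1, true), (0, true), (1, false), (0, true), (1, false), (0, true), (1, false), (0, true), (1, false), (0, true), (1, false), (0, true), (1, false), (0, true), (1, true), (0, true), (1, false), (0, true), (1, false), (0, true), (1, false), (0, true), (1, true), (0, true), (1, true), (0, true), (1, false), (0, true)]⟩),
    (97, 75, ⟨1, false, 38, [(1, true), (0, true), (1, true), (0, true), (1, false), (0, true), (1, false), (0, true), (1, false), (0, true), (1, false), (0, true), (1, true), (0, true), (1, true), (0, true), (1, true), (0, true), (1, true), (0, true), (1, false), (0, true), (1, false), (0, true), (1, true), (0, true), (1, false), (0, true), (1, false), (0, true), (1, false), (0, true), (1, false), (0, true), (1, true), (0, true), (1, true), (0, true), (1, true), (0, true), (1, true), (0, true), (1, false), (0, true), (0, true), (1, true), (0, true), (1, false), (0, true), (1, false), (0, true), (1, false), (0, true), (1, true), (0, true), (1, false), (0, true), (1, true), (0, true), (1, true), (0, true), (1, true), (0, true), (1, false), (0, true), (1, false), (0, true), (1, true), (0, true), (1, true), (0, true), (1, false), (0, true), (1, true)]⟩),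
    (61, 104, ⟨1, false, 38, [(1, true), (0, true), (1, true), (0, true), (1, true), (0, true), (1, true), (0, true), (1, false), (0, true), (1, true), (0, true), (1, true), (0, true), (1, true), (0, true), (1, false), (0, true), (1, false), (0, true), (1, true), (0, true), (1, false), (0, true), (1, true), (0, true), (1, true), (0, true), (1, false), (0, true), (1, false), (0, true), (1, false), (0, true), (1, false), (0, true), (1, false), (0, true), (1, true), (0, true), (1, false), (0, true), (1, true), (0, true), (1, true), (0, true), (1, false), (0, true), (1, true)]⟩),
    (51, 104, ⟨1, false, 38, [(1, false), (0, true), (1, true), (0, true), (1, false), (0, true), (1, false), (0, true), (1, false), (0, true), (1, false), (0, true), (1, true), (0, true), (1, true), (0, true), (1, true), (0, true), (1, true), (0, true), (1, false), (0, true), (1, true), (0, true), (1, true), (0, true), (1, false), (0, true), (1, false), (0, true), (1, false), (0, true), (1, false), (0, true), (1, true), (0, true), (1, true), (0, true), (1, true), (0, true), (1, true), (0, true), (1, false), (0, true), (1, true), (0, true), (1, false), (0, true), (1, true), (0, true), (1, false), (0, true), (1, true), (0, true), (1, false), (0, true), (1, true), (0, true), (1, false), (0, true), (1, true), (0,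 true)]⟩),
    (102, 9, ⟨1, false, 38, [(1, false), (0, true), (1, true), (0, true), (1, false), (0, true), (1, false), (0, true), (1, false), (0, true), (1, false), (0, true), (1, true), (0, true), (1, true), (0, true), (1, true), (0, true), (1, true), (0, true), (1, false), (0, true), (1, false), (0, true), (1, false), (0, true), (1, true), (0, true), (1, false), (0, true), (1, true), (0, true), (1, false), (0, true), (1, true), (0, true), (1, false), (0, true), (1, true), (0, true), (1, true), (0, true)]⟩),
    (101, 77, ⟨1, false, 38, [(1, false), (0, true), (1, true), (0, true), (1, false), (0, true), (1, false), (0, true), (1, true), (0, true), (1, false), (0, true), (1, false), (0, true), (1, false), (0, true), (1, false), (0, true), (1, false), (0, true), (1, false), (0, true), (1, true), (0, true), (1, false), (0, true), (1, true), (0, true), (1, true), (0, true), (1, true), (0, true), (1, true), (0, true), (1, true), (0, true), (1, true), (0, true), (1, false), (0, true), (1, false), (0, true), (1, true), (0, true), (1, false), (0, true), (1, false), (0, true), (1, false), (0, true), (1, false), (0, true), (1, true)]⟩),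
    (78, 103, ⟨1, false, 38, [(0, true), (1, true), (0, true), (1, true), (0, true), (1, false), (0, true), (1, false), (0, true), (1, true), (0, true), (1, false), (0, true), (1, true), (0, true), (1, false), (0, true), (1, true), (0, true), (1, false), (0, true), (1, false), (0, true), (1, false), (0, true), (1, false), (0, true), (1, true), (0, true), (1, false), (0, true), (1, false), (0, true), (1, true), (0, true), (1, true), (0, true), (1, true), (0, true), (1, false), (0, true), (1, true), (0, true), (1, true), (0, true), (1, true), (0, true), (1, false), (0, true), (1, true), (0, true)]⟩),
    (103, 22, ⟨1, false, 38, [(1, true), (0, true), (1, true), (0, true), (1, false), (0, true), (1, false), (0, true), (1, false), (0, true), (1, false), (0, true), (1, true), (0, true), (1, true), (0, true), (1, true), (0, true), (1, true), (0, true), (1, false), (0, true), (1, false), (0, true), (1, true), (0, true), (1, true), (0, true), (1, false), (0, true), (1, true), (0, true), (1, true), (0, true), (1, true), (0, true), (1, false), (0, true), (1, true), (0, true), (1, false), (0, true), (1, false), (0, true)]⟩),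
    (93, 114, ⟨1, false, 38, [(1, false), (0, true), (1, true), (0, true), (1, false), (0, true), (1, false), (0, true), (1, false), (0, true), (1, false), (0, true), (1, true), (0, true), (1, true), (0, true), (1, true), (0, true), (1, true), (0, true), (1, false), (0, true), (1, true), (0, true), (1, true), (0, true), (1, false), (0, true), (1, false), (0, true), (1, false), (0, true), (1, true), (0, true), (1, false), (0, true), (1, true), (0, true), (1, true), (0, true), (1, true), (0, true), (1, false), (0, true), (1, false), (0, true), (1, true), (0, true), (1, false), (0, true), (1, false), (0, true), (1, false), (0, true), (1, true), (0, true), (1, false), (0, true), (1, true), (0, true), (1, true), (0, true), (1, true), (0, true), (1, false), (0, true), (0, true), (1, true), (0, true), (1, true), (0, true), (1, true), (0, true), (1, false), (0, true), (1, true), (0, true), (1, false), (0, true), (1, true), (0, true), (1, true), (0, true), (1, true), (0, true)]⟩),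
    (82, 106, ⟨1, false, 38, [(1, true), (0, true), (1, true), (0, true), (1, false), (0, true), (1, true), (0, true), (1, true), (0, true), (1, true), (0, true), (1, false), (0, true), (1, true), (0, true), (1, false), (0, true), (1, true), (0, true), (1, false), (0, true), (1, false), (0, true), (1, true), (0, true), (1, true), (0, true), (1, false), (0, true), (1, true), (0, true), (1, false), (0, true), (1, true), (0, true), (1, false), (0, true), (1, true), (0, true), (1, true), (0, true), (1, false), (0, true), (1, false), (0, true), (1, false), (0, true), (1, true), (0, true), (1, false), (0, true)]⟩),
    (57, 112, ⟨1, false, 38, [(1, false), (0, true), (1, true), (0, true), (1, false), (0, true), (1, true), (0, true), (1, false), (0, true), (1, true), (0, true), (1, false), (0, true), (1, true), (0, true), (1, true), (0, true), (1, true), (0, true), (1, true), (0, true), (1, true), (0, true), (1, false), (0, true), (1, true), (0, true), (1, false), (0, true), (1, false), (0, true), (1, true), (0, true), (1, false), (0, true), (1, true), (0, true), (1, true), (0, true), (1, false), (0, true), (1, false), (0, true), (1, false), (0, true), (1, false), (0, true), (1, true), (0, true), (1, false), (0, true)]⟩),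
    (85, 114, ⟨1, false, 38, [(1, false), (0, true), (1, true), (0, true), (1, false), (0, true), (1, false), (0, true), (1, false), (0, true), (1, false), (0, true), (1, true), (0, true), (1, true), (0, true), (1, true), (0, true), (1, true), (0, true), (1, false), (0, true), (1, true), (0, true), (1, true), (0, true), (1, false), (0, true), (1, false), (0, true), (1, false), (0, true), (1, false), (0, true), (1, true), (0, true), (1, true), (0, true), (1, true), (0, true), (1, true), (0, true), (1, false), (0, true), (1, true), (0, true), (1, true), (0, true), (1, false), (0, true), (1, false), (0, true), (1, false), (0, true), (1, true), (0, true), (1, false), (0, true), (1, true), (0, true), (1, true), (0, true), (1, true), (0, true), (1, false), (0, true), (0, true), (1, false), (0, true), (1, false), (0, true), (1, true), (0, true), (1, true), (0, true), (1, true), (0, true), (1, true), (0, true), (1, true), (0, true), (1, true)]⟩),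
    (106, 92, ⟨1, false, 38, [(0, true), (1, false), (0, true), (1, false), (0, true), (1, false), (0, true), (1, false), (0, true), (1, false), (0, true), (1, false), (0, true), (1, true), (0, true), (1, true), (0, true), (1, false), (0, true), (1, false), (0, true), (1, false), (0, true), (1, false), (0, true), (1, false), (0, true), (1, true), (0, true), (1, false), (0, true), (1, true), (0, true), (1, false), (0, true), (1, true), (0, true), (1, false), (0, true), (1, true), (0, true), (1, false), (0, true), (1, true), (0, true), (1, true), (0, true), (1, true), (0, true), (1, false), (0, true), (1, false)]⟩),
    (107, 93, ⟨1, false, 38, [(1, false), (0, true), (1, true), (0, true), (1, false), (0, true), (1, false), (0, true), (1, false), (0, true), (1, false), (0, true), (1, false), (0, true), (1, false), (0, true), (1, true), (0, true), (1, true), (0, true), (1, true), (0, true), (1, false), (0, true), (1, false), (0, true), (1, true), (0, true), (1, true), (0, true), (1, true), (0, true), (1, false), (0, true), (1, false), (0, true), (1, false), (0, true), (1, true), (0, true), (1, false), (0, true), (1, true), (0, true), (1, false), (0, true)]⟩),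
    (100, 112, ⟨1, false, 38, [(0, true), (1, false), (0, true), (1, false), (0, true), (1, true), (0, true), (1, true), (0, true), (1, false), (0, true), (1, false), (0, true), (1, true), (0, true), (1, false), (0, true), (1, true), (0, true), (1, true), (0, true), (1, false), (0, true), (1, true), (0, true), (1, true), (0, true), (1, true), (0, true), (1, true), (0, true), (1, true), (0, true), (1, true), (0, true), (1, true), (0, true), (1, false), (0, true), (1, true), (0, true), (1, false), (0, true), (1, false), (0, true), (1, false)]⟩),
    (99, 119, ⟨1, false, 38, [(0, true), (1, true), (0, true), (1, true), (0, true), (1, true), (0, true), (1, false), (0, true), (1, false), (0, true), (1, false), (0, true), (1, true), (0, true), (1, true), (0, true), (1, true), (0, true), (1, false), (0, true), (1, true), (0, true), (1, true), (0, true), (1, false), (0, true), (1, false), (0, true), (1, false), (0, true), (1, true), (0, true), (1, true), (0, true), (1, true), (0, true), (1, false), (0, true), (1, false), (0, true), (1, false), (0, true), (1, false), (0, true), (1, false), (0, true), (1, false), (0, true), (1, false), (0, true), (1, false), (0, true)]⟩),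
    (6, 112, ⟨1, false, 38, [(1, false), (0, true), (1, true), (0, true), (1, true), (0, true), (1, false), (0, true), (1, false), (0, true), (1, true), (0, true), (1, false), (0, true), (1, false), (0, true), (1, true), (0, true), (1, false), (0, true), (1, true), (0, true), (1, false), (0, true), (1, true), (0, true), (1, false), (0, true), (1, false), (0, true), (1, false), (0, true), (1, true), (0, true), (1, false), (0, true), (1, true), (0, true), (1, true), (0, true), (1, false), (0, true), (1, false), (0, true), (1, false), (0, true), (1, true)]⟩),
    (38, 118, ⟨1, false, 38, [(1, false), (0, true), (1, true), (0, true), (1, false), (0, true), (1, false), (0, true), (1, true), (0, true), (1, true), (0, true), (1, true), (0, true), (1, false), (0, true), (1, false), (0, true), (1, true), (0, true), (1, false), (0, true), (1, true), (0, true), (1, false), (0, true), (1, false), (0, true), (1, false), (0, true), (1, true), (0, true), (1, true), (0, true), (1, false), (0, true), (1, false), (0, true), (1, true), (0, true), (1, true), (0, true), (1, true), (0, true), (1, true), (0, true), (1, true), (0, true), (1, false), (0, true), (1, true)]⟩),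
    (82, 107, ⟨1, false, 38, [(0, true), (1, true), (0, true), (1, false), (0, true), (1, true), (0, true), (1, false), (0, true), (1, false), (0, true), (1, false), (0, true), (1, false), (0, true), (1, false), (0, true), (1, false), (0, true), (1, false), (0, true), (1, true), (0, true), (1, false), (0, true), (1, true), (0, true), (1, false), (0, true), (1, true), (0, true), (1, true), (0, true), (1, true), (0, true), (1, false), (0, true), (1, true), (0, true), (1, true), (0, true), (1, true), (0, true), (1, false), (0, true), (1, false), (0, true), (1, false), (0, true)]⟩),
    (92, 110, ⟨1, false, 38, [(1, false), (0, true), (1, true), (0, true), (1, true), (0, true), (1, true), (0, true), (1, true), (0, true), (1, true), (0, true), (1, false), (0, true), (1, false), (0, true), (1, false), (0, true), (1, true), (0, true), (1, false), (0, true), (1, false), (0, true), (1, false), (0, true), (1, true), (0, true), (1, true)]⟩),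
    (28, 119, ⟨1, false, 38, [(0, true), (1, false), (0, true), (1, false), (0, true), (1, false), (0, true), (1, false), (0, true), (1, true), (0, true), (1, true), (0, true), (1, false), (0, true), (1, true), (0, true), (1, false), (0, true), (1, true), (0, true), (1, false), (0, true), (1, false), (0, true), (1, false), (0, true), (1, false), (0, true), (1, false), (0, true), (1, true), (0, true), (1, false), (0, true), (1, false), (0, true), (1, false), (0, true), (1, false), (0, true), (1, true), (0, true), (1, false), (0, true), (1, false), (0, true), (1, true)]⟩),
    (116, 119, ⟨1, false, 38, [(1, false), (0, true), (1, true), (0, true), (1, false), (0, true), (1, false), (0, true), (1, true), (0, true), (1, false), (0, true), (1, true), (0, true), (1, true), (0, true), (1, false), (0, true), (1, false), (0, true), (1, false), (0, true), (1, false), (0, true), (1, false), (0, true), (1, true), (0, true), (1, true), (0, true), (1, false), (0, true), (1, false), (0, true), (1, false), (0, true), (1, true), (0, true), (1, false), (0, true), (1, false), (0, true), (1, true), (0, true), (1, true)]⟩),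
    (85, 110, ⟨1, false, 38, [(0, true), (1, true), (0, true), (1, false), (0, true), (1, false), (0, true), (1, false), (0, true), (1, false), (0, true), (1, true), (0, true), (1, true), (0, true), (1, false), (0, true), (1, false), (0, true), (1, true), (0, true), (1, false), (0, true), (1, false), (0, true), (1, false), (0, true), (1, true), (0, true), (1, true), (0, true), (1, false), (0, true), (1, false), (0, true), (1, false), (0, true), (1, true), (0, true), (1, false), (0, true), (1, false), (0, true), (1, false), (0, true), (1, false), (0, true), (1, false)]⟩),
    (135, 96, ⟨1, false, 38, [(0, true), (1, false), (0, true), (1, true), (0, true), (1, true), (0, true), (1, false), (0, true), (1, true), (0, true), (1, false), (0, true)]⟩),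
    (122, 28, ⟨1, false, 38, [(1, false), (0, true), (1, false), (0, true), (1, false), (0, true), (1, true), (0, true), (1, true), (0, true), (1, true), (0, true), (1, true), (0, true), (1, true), (0, true), (1, true), (0, true), (1, false), (0, true), (1, false), (0, true), (1, true), (0, true), (1, true), (0, true), (1, true), (0, true), (1, false), (0, true), (1, false), (0, true), (1, true), (0, true), (1, false), (0, true), (1, true), (0, true), (1, false), (0, true), (1, true), (0, true), (1, true), (0, true), (1, false)]⟩),
    (33, 135, ⟨1, false, 38, [(0, true), (1, false), (0, true), (1, true), (0, true), (1, true), (0, true), (1, false), (0, true), (1, false), (0, true), (1, false), (0, true), (1, true), (0, true), (1, true), (0, true), (1, true)]⟩),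
    (126, 130, ⟨1, false, 38, [(0, true), (1, true), (0, true), (1, false), (0, true), (1, false), (0, true), (1, true), (0, true), (1, true), (0, true), (1, false), (0, true), (1, false), (0, true), (1, false), (0, true), (1, true), (0, true), (1, true), (0, true), (1, true), (1, true), (0, true), (1, true), (0, true), (1, true), (0, true), (1, true), (0, true), (1, false), (0, true), (1, false), (0, true), (1, false), (0, true), (1, false), (0, true), (1, true), (0, true), (1, false), (0, true), (1, false), (0, true), (1, true), (0, true), (1, false), (0, true), (1, false)]⟩),
    (132, 134, ⟨1, false, 38, [(1, false), (0, true), (1, true), (0, true), (1, false), (0, true), (1, false), (0, true), (1, false), (0, true), (1, false), (0, true), (1, false), (0, true), (1, true), (0, true), (1, true), (0, true), (1, true), (0, true), (1, true), (0, true), (1, true), (0, true), (1, false), (0, true), (1, true), (0, true), (1, false), (0, true), (1, true), (0, true), (1, false), (0, true), (1, false), (0, true), (1, true), (0, true), (1, true), (0, true), (1, true), (0, true), (1, false), (0, true), (1, true)]⟩),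
    (58, 131, ⟨1, false, 38, [(0, true), (1, false), (0, true), (1, false), (0, true), (1, false), (0, true), (1, true), (0, true), (1, true), (0, true), (1, false), (0, true), (1, false), (0, true), (1, true), (0, true), (1, true), (0, true), (1, true), (0, true), (1, false), (0, true), (1, true), (0, true), (1, false), (0, true), (1, true), (0, true), (1, true), (0, true), (1, true), (0, true), (1, true), (0, true), (1, false), (0, true), (1, true), (0, true), (1, false), (0, true), (1, false), (0, true), (1, true), (0, true), (1, true), (0, true), (1, true), (0, true), (1, false), (0, true), (1, false), (0, true), (1, false)]⟩),
    (66, 135, ⟨1, false, 38, [(0, true), (1, true), (0, true), (1, false), (0, true), (1, false), (0, true), (1, false), (0, true), (1, false), (0, true), (1, true), (0, true), (1, false), (0, true), (1, false), (0, true), (1, true), (0, true), (1, true), (0, true), (1, true), (0, true), (1, true), (0, true), (1, true), (0, true), (1, true), (0, true), (1, false), (0, true), (1, false), (0, true), (1, false), (0, true), (1, false), (0, true), (1, true), (0, true), (1, false), (0, true), (1, false), (0, true), (1, true), (0, true), (1, true), (0, true), (1, true), (0, true), (1, false), (0, true), (1, true), (0, true)]⟩),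
    (125, 38, ⟨1, false, 38, [(1, false), (0, true), (1, true), (0, true), (1, true), (0, true), (1, false), (0, true), (1, false), (0, true), (1, true), (0, true), (1, false), (0, true), (1, true), (0, true), (1, false), (0, true), (1, false), (0, true), (1, false), (0, true), (1, false), (0, true), (1, true), (0, true), (1, false), (0, true), (1, true), (0, true), (1, true), (0, true), (1, true), (0, true), (1, false), (0, true), (1, true), (0, true), (1, true), (0, true), (1, false)]⟩),
    (65, 131, ⟨1, false, 38, [(0, true), (1, false), (0, true), (1, false), (0, true), (1, false), (0, true), (1, false), (0, true), (1, false), (0, true), (1, false), (0, true), (1, false), (0, true), (1, false), (0, true), (1, false), (0, true), (1, true), (0, true), (1, false), (0, true), (1, false), (0, true), (1, true), (0, true), (1, true), (0, true), (1, true), (0, true), (1, true), (0, true), (1, true), (0, true), (1, true), (0, true), (1, false), (0, true), (1, false), (0, true), (1, true), (0, true), (1, false), (0, true), (1, false), (0, true), (1, true), (0, true), (1, false), (0, true), (1, true)]⟩),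
    (123, 117, ⟨1, false, 38, [(1, false), (0, true), (1, true), (0, true), (1, false), (0, true), (1, false), (0, true), (1, false), (0, true)]⟩),
    (41, 127, ⟨1, false, 38, [(1, false), (0, true), (1, true), (0, true), (1, false), (0, true), (1, false), (0, true), (1, false), (0, true), (1, false), (0, true), (1, false), (0, true), (1, false), (0, true), (1, true), (0, true), (1, true), (0, true), (1, true), (0, true), (1, false), (0, true), (1, false), (0, true), (1, true), (0, true), (1, false), (0, true), (1, false), (0, true), (1, false), (0, true), (1, false), (0, true), (1, true), (0, true), (1, true), (0, true), (1, false), (0, true), (1, false), (0, true), (1, true), (0, true), (1, false), (0, true), (1, true), (0, true)]⟩),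
    (84, 131, ⟨1, false, 38, [(1, true), (0, true), (1, true), (0, true), (1, false), (0, true), (1, false), (0, true), (1, false), (0, true), (1, false), (0, true), (1, true), (0, true), (1, true), (0, true), (1, true), (0, true), (1, true), (0, true), (1, false), (0, true), (1, true), (0, true), (1, true), (0, true), (1, true), (0, true), (1, true), (0, true), (1, false), (0, true), (1, true), (0, true), (1, false), (0, true), (1, false), (0, true), (1, true)]⟩),
    (123, 116, ⟨1, false, 38, [(0, true), (1, true), (0, true), (1, false), (0, true), (1, false), (0, true), (1, true), (0, true), (1, false), (0, true), (1, false), (0, true), (1, false), (0, true), (1, true), (0, true), (1, false), (0, true), (1, true), (0, true), (1, true), (0, true), (1, true), (0, true), (1, true), (0, true), (1, true), (0, true), (1, false), (0, true), (1, false), (0, true), (1, false), (0, true), (1, true), (0, true), (1, true), (0, true), (1, false), (0, true), (1, true), (0, true), (1, false), (0, true), (1, true), (0, true), (1, false), (0, true), (1, true), (0, true)]⟩),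
    (117, 135, ⟨1, false, 38, [(1, true), (0, true), (1, true), (0, true), (1, false), (0, true), (1, false), (0, true), (1, false), (0, true), (1, false), (0, true), (1, true), (0, true), (1, true), (0, true), (1, true), (0, true), (1, true), (0, true), (1, false), (0, true), (1, false), (0, true), (1, true), (0, true), (1, false), (0, true), (1, false), (0, true), (1, false), (0, true), (1, false), (0, true), (1, true), (0, true), (1, true), (0, true), (1, true), (0, true), (1, true), (0, true), (1, false), (0, true), (0, true), (1, false), (0, true), (1, true), (0, true), (1, true), (0, true), (1, false), (0, true), (1, false), (0, true), (1, true), (0, true), (1, false), (0, true), (1, true), (0, true), (1, true), (0, true)]⟩),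
    (138, 145, ⟨1, false, 38, [(0, true), (1, true), (0, true), (1, false), (0, true), (1, false), (0, true), (1, false), (0, true), (1, true), (0, true), (1, true), (0, true), (1, false), (0, true), (1, false), (0, true), (1, true), (0, true), (1, false), (0, true), (1, true), (0, true), (1, true), (0, true), (1, true), (0, true), (1, false), (0, true), (1, true), (0, true), (1, false), (0, true), (1, true), (0, true), (1, false), (0, true), (1, true), (0, true), (1, true), (0, true), (1, false), (0, true), (1, false), (0, true), (1, true), (0, true), (1, true), (0, true), (1, true), (0, true), (1, false)]⟩),
    (117, 149, ⟨1, false, 38, [(1, true), (0, true), (1, true), (0, true), (1, false), (0, true), (1, false), (0, true), (1, false), (0, true), (1, false), (0, true), (1, true), (0, true), (1, true), (0, true), (1, true), (0, true), (1, true), (0, true), (1, false), (0, true), (1, false), (0, true), (1, true), (0, true), (1, false), (0, true), (1, false), (0, true), (1, false), (0, true), (1, false), (0, true), (1, true), (0, true), (1, true), (0, true), (1, true), (0, true), (1, true), (0, true), (1, false), (0, true), (1, true), (0, true), (1, true), (0, true), (1, false), (0, true), (1, false), (0, true), (1, false), (0, true), (1, false), (0, true), (1, true), (0, true),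 (1, true), (0, true), (1, true), (0, true), (1, true), (0, true), (1, false), (0, true), (0, true), (1, false), (0, true), (1, true), (0, true), (1, true), (0, true), (1, false), (0, true), (1, false), (0, true), (1, true), (0, true), (1, false), (0, true), (1, true), (0, true), (1, true), (0, true)]⟩),
    (105, 149, ⟨1, false, 38, [(0, true), (1, false), (0, true), (1, false), (0, true), (1, false), (0, true), (1, true), (0, true), (1, true), (0, true), (1, false), (0, true), (1, false), (0, true), (1, true), (0, true), (1, true), (0, true), (1, true), (0, true), (1, true), (0, true), (1, true), (0, true), (1, true), (0, true), (1, true), (0, true), (1, true), (0, true), (1, true), (0, true), (1, false), (0, true), (1, false), (0, true), (1, true), (0, true), (1, true), (0, true), (1, false), (0, true), (1, false), (0, true), (1, false), (0, true), (1, true), (0, true), (1, true), (0, true), (1, false), (0, true), (1, false)]⟩),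
    (127, 150, ⟨1, false, 38, [(1, false), (0, true), (1, true), (0, true), (1, false), (0, true), (1, false), (0, true), (1, false), (0, true), (1, false), (0, true), (1, true), (0, true), (1, true), (0, true), (1, true), (0, true), (1, true), (0, true), (1, false), (0, true), (1, true), (0, true), (1, true), (0, true), (1, false), (0, true), (1, false), (0, true), (1, false), (0, true), (1, true), (0, true), (1, false), (0, true), (1, true), (0, true), (1, true), (0, true), (1, true), (0, true), (1, false), (0, true), (1, true), (0, true), (1, false), (0, true), (1, true), (0, true), (1, false), (0, true), (1, true), (0, true), (1, true), (0, true)]⟩),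
    (149, 60, ⟨1, false, 38, [(0, true), (1, false), (0, true), (1, false), (0, true), (1, false), (0, true), (1, true), (0, true), (1, true), (0, true), (1, false), (0, true), (1, false), (0, true), (1, false), (0, true), (1, false), (0, true), (1, true), (0, true), (1, true), (0, true), (1, true), (0, true), (1, true), (0, true), (1, true), (0, true), (1, false), (0, true), (1, false), (0, true), (1, false), (0, true), (1, false), (0, true), (1, true), (0, true)]⟩),
    (146, 120, ⟨1, false, 38, [(1, true), (0, true), (1, true), (0, true), (1, false), (0, true), (1, false), (0, true), (1, false), (0, true), (1, false), (0, true), (1, true), (0, true), (1, true), (0, true), (1, true), (0, true), (1, true), (0, true), (1, false), (0, true), (1, true), (0, true), (1, true), (0, true), (1, false), (0, true), (1, false), (0, true), (1, false), (0, true), (1, false), (0, true), (1, true), (0, true), (1, true), (0, true), (1, true), (0, true), (1, true), (0, true), (1, false), (0, true), (1, false), (0, true), (1, true), (0, true), (1, false), (0, true), (1, false), (0, true), (1, false), (0, true), (1, false), (0, true), (1, true), (0, true), (1, true), (0, true), (1, true), (0, true), (1, true), (0, true), (1, false), (0, true), (1, true), (0, true), (1, true), (0, true), (1, false),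 (0, true), (1, false), (0, true), (1, false), (0, true), (1, false), (0, true), (1, true), (0, true), (1, true), (0, true), (1, true), (0, true), (1, true), (0, true), (1, false), (0, true), (0, true), (1, false), (0, true), (1, false), (0, true), (1, true), (0, true), (1, true), (0, true), (1, false), (0, true), (1, true), (0, true), (1, false), (0, true), (1, true), (0, true), (1, false), (0, true)]⟩),
    (144, 34, ⟨1, false, 38, [(1, true), (0, true), (1, false), (0, true), (1, false), (0, true), (1, false), (0, true), (1, true), (0, true), (1, true), (0, true), (1, false), (0, true), (1, false), (0, true), (1, false), (0, true), (1, false), (0, true), (1, false), (0, true), (1, true), (0, true), (1, true), (0, true), (1, true), (0, true), (1, false), (0, true), (1, false), (0, true), (1, false), (0, true), (1, false), (0, true), (1, false), (0, true), (1, false), (0, true), (1, false), (0, true), (1, true), (0, true), (1, false), (0, true), (1, false), (0, true), (1, true), (0, true), (1, true)]⟩),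
    (146, 121, ⟨1, false, 38, [(1, false), (0, true), (1, true), (0, true), (1, false), (0, true), (1, false), (0, true), (1, false), (0, true), (1, false), (0, true), (1, true), (0, true), (1, true), (0, true), (1, true), (0, true), (1, true), (0, true), (1, false), (0, true), (1, true), (0, true), (1, true), (0, true), (1, false), (0, true), (1, false), (0, true), (1, false), (0, true), (1, true), (0, true), (1, false), (0, true), (1, true), (0, true), (1, true), (0, true), (1, true), (0, true), (1, false), (0, true), (0, true), (1, false), (0, true), (1, false), (0, true), (1, true), (0, true), (1, true), (0, true), (1, false), (0, true), (1, true), (0, true), (1, false), (0, true), (1, true), (0, true), (1, false), (0, true)]⟩),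
    (146, 10, ⟨1, false, 38, [(0, true), (1, true), (0, true), (1, false), (0, true), (1, true), (0, true), (1, false), (0, true), (1, true), (0, true), (1, true), (0, true), (1, true), (0, true), (1, true), (0, true), (1, false), (0, true), (1, false), (0, true), (1, false), (0, true), (1, true), (0, true), (1, false), (0, true), (1, true), (0, true), (1, true), (0, true), (1, true), (0, true), (1, false), (0, true), (1, true), (0, true), (1, false), (0, true), (1, true), (0, true), (1, false), (0, true), (1, true), (0, true), (1, true), (0, true), (1, true), (0, true), (1, false), (0, true)]⟩),
    (153, 69, ⟨1, false, 38, [(1, false), (0, true), (1, true), (0, true), (1, false), (0, true), (1, false), (0, true), (1, false), (0, true), (1, false), (0, true), (1, true), (0, true), (1, true), (0, true), (1, true), (0, true), (1, true), (0, true), (1, false), (0, true), (1, true), (0, true), (1, true), (0, true), (1, false), (0, true), (1, false), (0, true), (1, false), (0, true), (1, false), (0, true), (1, true), (0, true), (1, true), (0, true), (1, true), (0, true), (1, true), (0, true), (1, false), (0, true), (1, false), (0, true), (1, true), (0, true), (1, false), (0, true), (1, false), (0, true), (1, false), (0, true), (1, false), (0, true), (1, true), (0, true), (1, true), (0,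 true), (1, true), (0, true), (1, true), (0, true), (1, false), (0, true), (1, true), (0, true), (1, false), (0, true), (1, true), (0, true), (1, false), (0, true), (1, true), (0, true), (1, true), (0, true), (1, true), (0, true), (1, true), (0, true)]⟩),
    (159, 136, ⟨1, false, 38, [(1, false), (0, true), (1, true), (0, true), (1, true), (0, true), (1, false), (0, true), (1, false), (0, true), (1, true), (0, true), (1, true), (0, true), (1, true), (0, true), (1, false), (0, true), (1, false), (0, true), (1, true), (0, true), (1, false), (0, true), (1, false), (0, true), (1, false), (0, true), (1, true), (0, true), (1, true), (0, true), (1, false), (0, true), (1, true), (0, true), (1, true), (0, true)]⟩),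
    (140, 158, ⟨1, false, 38, [(1, true), (0, true), (1, true), (0, true), (1, false), (0, true), (1, false), (0, true), (1, false), (0, true), (1, false), (0, true), (1, true), (0, true), (1, true), (0, true), (1, false), (0, true), (1, true), (0, true), (1, true), (0, true), (1, true), (0, true), (1, true), (0, true), (1, false), (0, true)]⟩),
    (109, 158, ⟨1, false, 38, [(1, false), (0, true), (1, true), (0, true), (1, false), (0, true), (1, false), (0, true), (1, false), (0, true), (1, false), (0, true), (1, true), (0, true), (1, true), (0, true), (1, true), (0, true), (1, true), (0, true), (1, false), (0, true), (1, false), (0, true), (1, true), (0, true), (1, false), (0, true), (1, false), (0, true), (1, false), (0, true), (1, false), (0, true), (1, true), (0, true), (1, true), (0, true), (1, true), (0, true), (1, true), (0, true), (1, false), (0, true), (1, false), (0, true), (1, false), (0, true), (1, true), (0, true), (1, false), (0, true), (1, false), (0, true), (1, true), (0, true), (1, false), (0, true), (1, false), (0, true), (1, false), (0, true), (1, false), (0, true), (1, true), (0, true), (1, false)]⟩),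
    (153, 113, ⟨1, false, 38, [(1, false), (0, true), (1, true), (0, true), (1, false), (0, true), (1, false), (0, true), (1, false), (0, true), (1, false), (0, true), (1, true), (0, true), (1, true), (0, true), (1, true), (0, true), (1, true), (0, true), (1, true), (0, true), (1, true), (0, true), (1, false), (0, true), (1, true), (0, true), (1, true), (0, true), (1, true), (0, true), (1, true), (0, true)]⟩),
    (111, 156, ⟨1, false, 38, [(0, true), (1, true), (0, true), (1, false), (0, true), (1, true), (0, true), (1, false), (0, true), (1, false), (0, true), (1, false), (0, true), (1, false), (0, true), (1, true), (0, true), (1, false), (0, true), (1, true), (0, true), (1, false), (0, true), (1, false), (0, true), (1, false), (0, true), (1, true), (0, true), (1, false), (0, true), (1, false), (0, true), (1, true), (0, true), (1, false), (0, true), (1, true), (0, true), (1, false), (0, true), (1, false), (0, true), (1, false), (0, true), (1, false), (0, true), (1, false), (0, true), (1, true), (0, true)]⟩),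
    (155, 132, ⟨1, false, 38, [(1, true), (0, true), (1, false), (0, true), (1, true), (0, true), (1, false), (0, true), (1, false), (0, true), (1, false), (0, true), (1, false), (0, true), (1, false), (0, true), (1, false), (0, true), (1, true), (0, true), (1, false), (0, true), (1, true), (0, true), (1, false), (0, true), (1, false), (0, true), (1, true), (0, true), (1, true), (0, true), (1, true), (0, true), (1, false), (0, true), (1, false), (0, true), (1, false), (0, true), (1, false), (0, true), (1, false), (0, true), (1, false), (0, true), (1, false), (0, true), (1, false), (0, true), (1, true), (0, true)]⟩),
    (108, 153, ⟨1, false, 38, [(1, false), (0, true), (1, true), (0, true), (1, false), (0, true), (1, false), (0, true), (1, false), (0, true), (1, false), (0, true), (1, true), (0, true), (1, false), (0, true), (1, false), (0, true), (1, true), (0, true), (1, false), (0, true), (1, true), (0, true), (1, true), (1, true), (0, true), (1, true), (0, true), (1, true), (0, true), (1, false), (0, true), (1, false), (0, true), (1, false), (0, true), (1, true), (0, true), (1, true), (0, true), (1, false), (0, true), (1, false), (0, true), (1, false), (0, true), (1, false), (0, true), (1, false), (0, true), (1, false)]⟩),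
    (156, 121, ⟨1, false, 38, [(1, false), (0, true), (1, true), (0, true), (1, false), (0, true), (1, false), (0, true), (1, true), (0, true), (1, false), (0, true), (1, false), (0, true), (1, false), (0, true), (1, false), (0, true), (1, true), (0, true), (1, true), (0, true), (1, false), (0, true), (1, false), (0, true), (1, false), (0, true), (1, true), (0, true), (1, false), (0, true), (1, false), (0, true), (1, true), (0, true), (1, false), (0, true), (1, true), (0, true), (1, true), (0, true), (1, true), (0, true), (1, true), (0, true), (1, false), (0, true), (1, false), (0, true)]⟩),
    (139, 153, ⟨1, false, 38, [(1, false), (0, true), (1, true), (0, true), (1, false), (0, true), (1, false), (0, true), (1, false), (0, true), (1, false), (0, true), (1, false), (0, true), (1, true), (1, true), (0, true), (1, true), (0, true), (1, true), (0, true), (1, false), (0, true), (1, true), (0, true), (1, false), (0, true), (1, false), (0, true), (1, false), (0, true), (1, false), (0, true), (1, false), (0, true), (1, false), (0, true), (1, false), (0, true), (1, true), (0, true), (1, true)]⟩),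
    (137, 153, ⟨1, false, 38, [(1, false), (0, true), (1, true), (0, true), (1, true), (0, true), (1, false), (0, true), (1, true), (0, true), (1, false), (0, true), (1, true), (0, true), (1, true), (0, true), (1, true), (0, true), (1, true), (0, true), (1, true), (0, true), (1, true), (0, true), (1, true), (0, true), (1, false), (0, true), (1, true), (0, true), (1, false), (0, true), (1, true), (0, true), (1, true), (0, true), (1, true), (0, true), (1, true), (0, true), (1, true), (0, true), (1, true), (0, true), (1, true), (0, true), (1, false), (0, true), (1, true), (0, true), (1, true)]⟩),
    (115, 156, ⟨1, false, 38, [(1, true), (0, true), (1, true), (0, true), (1, false), (0, true), (1, false), (0, true), (1, false), (0, true), (1, false), (0, true), (1, true), (0, true), (1, true), (0, true), (1, true), (0, true), (1, true), (0, true), (1, false), (0, true), (1, false), (0, true), (1, false), (0, true), (1, true), (0, true), (1, false), (0, true), (1, false), (0, true), (1, true), (0, true), (1, true), (0, true), (1, false), (0, true)]⟩),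
    (152, 79, ⟨1, false, 38, [(0, true), (1, false), (0, true), (1, false), (0, true), (1, false), (0, true), (1, true), (0, true), (1, true), (0, true), (1, true), (0, true), (1, false), (0, true), (1, false), (0, true), (1, true), (0, true), (1, true), (0, true), (1, false), (0, true), (1, false), (0, true), (1, true), (1, true), (0, true), (1, true), (0, true), (1, true), (0, true), (1, false), (0, true), (1, true), (0, true), (1, false), (0, true), (1, true), (0, true), (1, true), (0, true), (1, false), (0, true), (1, false), (0, true), (1, true), (0, true), (1, true), (0, true), (1, false), (0, true), (1, false)]⟩),
    (168, 119, ⟨1, false, 38, [(1, false), (0, true), (1, true), (0, true), (1, false), (0, true), (1, true), (0, true), (1, true), (0, true), (1, true), (0, true), (1, false), (0, true), (1, true), (0, true), (1, false), (0, true), (1, true), (0, true), (1, true), (0, true), (1, true), (0, true), (1, true), (0, true), (1, true), (0, true), (1, true), (0, true), (1, true), (0, true), (1, false), (0, true), (1, false), (0, true), (1, false), (0, true), (1, true), (0, true), (1, false), (0, true), (1, false), (0, true), (1, false), (0, true), (1, true), (0, true), (1, false), (0, true)]⟩),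
    (156, 169, ⟨1, false, 38, [(1, false), (0, true), (1, false), (0, true), (1, false), (0, true), (1, false), (0, true), (1, true), (0, true), (1, true), (0, true), (1, false), (0, true), (1, false), (0, true), (1, true), (0, true), (1, false), (0, true), (1, true), (0, true), (1, true), (0, true), (1, true), (0, true), (1, true), (0, true), (1, false), (0, true), (1, false), (0, true), (1, false), (0, true), (1, false), (0, true), (1, true), (0, true), (1, true), (0, true), (1, true), (0, true), (1, false), (0, true), (1, false), (0, true), (1, true), (0, true), (1, true), (0, true), (1, true), (0, true)]⟩),
    (161, 112, ⟨1, false, 38, [(1, false), (0, true), (1, true), (0, true), (1, false), (0, true), (1, false), (0, true), (1, false), (0, true), (1, false), (0, true), (1, true), (0, true), (1, true), (0, true), (1, true), (0, true), (1, true), (0, true), (1, false), (0, true), (1, false), (0, true), (1, true), (0, true), (1, false), (0, true), (1, false), (0, true), (1, false), (0, true), (1, false), (0, true), (1, true), (0, true), (1, true), (0, true), (1, true), (0, true), (1, true), (0, true), (1, false), (0, true), (1, false), (0, true), (1, true), (0, true), (1, true), (0, true), (1, true), (0, true), (1, false), (0, true), (1, true), (0, true), (1, true), (0, true),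 (1, false)]⟩),
    (166, 157, ⟨1, false, 38, [(1, false), (0, true), (1, false), (0, true), (1, true), (0, true), (1, true), (0, true), (1, false), (0, true), (1, false), (0, true), (1, false), (0, true), (1, false), (0, true), (1, false), (0, true), (1, false), (0, true), (1, true), (0, true), (1, true), (0, true), (1, false), (0, true), (1, false), (0, true), (1, false), (0, true), (1, false), (0, true), (1, false), (0, true), (1, true), (0, true), (1, true), (0, true), (1, false), (0, true), (1, false), (0, true), (1, true), (0, true), (1, false), (0, true), (1, true), (0, true), (1, false), (0, true), (1, false), (0, true)]⟩),
    (140, 171, ⟨1, false, 38, [(1, true), (0, true), (1, false), (0, true), (1, false), (0, true), (1, false), (0, true), (1, true), (0, true), (1, true), (0, true), (1, false), (0, true), (1, false), (0, true), (1, false), (0, true), (1, false), (0, true), (1, true), (0, true), (1, true), (0, true), (1, true), (0, true), (1, false), (0, true), (1, false), (0, true), (1, true), (0, true), (1, true), (0, true), (1, true), (0, true), (1, false), (0, true), (1, true), (0, true), (1, true), (0, true), (1, true), (0, true), (1, true), (0, true), (1, false), (0, true), (1, false)]⟩),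
    (165, 148, ⟨1, false, 38, [(1, false), (0, true), (1, true), (0, true), (1, false), (0, true), (1, false), (0, true), (1, false), (0, true), (1, false), (0, true), (1, true), (0, true), (1, true), (0, true), (1, true), (0, true), (1, true), (0, true), (1, false), (0, true), (1, true), (0, true), (1, true), (0, true), (1, false), (0, true), (1, false), (0, true), (1, false), (0, true), (1, false), (0, true), (1, true), (0, true), (1, true), (0, true), (1, true), (0, true), (1, true), (0, true), (1, false), (0, true), (1, true), (0, true), (1, true), (0, true), (1, true), (0, true), (1, false), (0, true), (1, false), (0, true), (1, true), (0, true), (1, false), (0, true), (1, false), (0, true), (1, false), (0, true)]⟩),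
    (164, 131, ⟨1, false, 38, [(1, false), (0, true), (1, false), (0, true), (1, false), (0, true), (1, false), (0, true), (1, false), (0, true), (1, false), (0, true), (1, false), (0, true), (1, true), (0, true), (1, false), (0, true), (1, true), (0, true), (1, false), (0, true), (1, false), (0, true), (1, true), (0, true), (1, true), (0, true), (1, false), (0, true), (1, false), (0, true), (1, true), (0, true), (1, false), (0, true), (1, true), (0, true), (1, false), (0, true), (1, false), (0, true), (1, true), (0, true), (1, true), (0, true), (1, false), (0, true), (1, false), (0, true)]⟩),
    (162, 131, ⟨1, false, 38, [(1, false), (0, true), (1, true), (0, true), (1, false), (0, true), (1, false), (0, true), (1, false), (0, true), (1, false), (0, true), (1, false), (0, true), (1, false), (0, true), (1, true), (0, true), (1, true), (0, true), (1, true), (0, true), (1, false), (0, true), (1, false), (0, true), (1, true), (0, true), (1, false), (0, true), (1, false), (0, true), (1, false), (0, true), (1, true), (0, true), (1, false), (0, true), (1, true), (0, true), (1, false), (0, true), (1, false), (0, true), (1, false), (0, true), (1, false), (0, true)]⟩),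
    (156, 170, ⟨1, false, 38, [(0, true), (1, false), (0, true), (1, false), (0, true), (1, true), (0, true), (1, false), (0, true), (1, true), (0, true), (1, true), (0, true), (1, true), (0, true), (1, true), (0, true), (1, true), (0, true), (1, false), (0, true), (1, false), (0, true), (1, false), (0, true), (1, true), (0, true), (1, false), (0, true), (1, true), (0, true), (1, true), (0, true), (1, true), (0, true), (1, false), (0, true), (1, false), (0, true), (1, false), (0, true), (1, true), (0, true), (1, true), (0, true), (1, true)]⟩),
    (164, 132, ⟨1, false, 38, [(0, true), (1, true), (0, true), (1, false), (0, true), (1, true), (0, true), (1, true), (0, true), (1, true), (0, true), (1, true), (0, true), (1, true), (0, true), (1, false), (0, true), (1, true), (0, true), (1, true), (0, true), (1, false), (0, true), (1, false), (0, true), (1, false), (0, true), (1, true), (0, true), (1, true), (0, true), (1, false), (0, true), (1, false), (0, true), (1, false), (0, true), (1, true), (0, true), (1, false), (0, true), (1, false), (0, true), (1, true), (0, true), (1, false), (0, true), (1, true)]⟩),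
    (124, 163, ⟨1, false, 38, [(1, true), (0, true), (1, false), (0, true), (1, true), (0, true), (1, true), (0, true), (1, true), (0, true), (1, false), (0, true), (1, true), (0, true), (1, true), (0, true), (1, false), (0, true), (1, false), (0, true), (1, true), (0, true), (1, false), (0, true), (1, true), (0, true), (1, true), (0, true), (1, true), (0, true), (1, true), (0, true), (1, true), (0, true), (1, true), (0, true), (1, false), (0, true), (1, true), (0, true), (1, true), (0, true), (1, true), (0, true), (1, true), (0, true), (1, false), (0, true), (1, true), (0, true), (1, true)]⟩),
    (130, 182, ⟨1, false, 38, [(1, false), (0, true), (1, true), (0, true), (1, true), (0, true), (1, false), (0, true), (1, true), (0, true), (1, false), (0, true), (1, false), (0, true), (1, false), (0, true), (1, true), (0, true), (1, false), (0, true), (1, false), (0, true), (1, false), (0, true), (1, true), (0, true), (1, false), (0, true), (1, true), (0, true), (1, false), (0, true), (1, false), (0, true), (1, false), (0, true), (1, false), (0, true), (1, false), (0, true), (1, false), (0, true), (1, true), (0, true), (1, false), (0, true), (1, false), (0, true), (1, false), (0, true), (1, true)]⟩),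
    (173, 62, ⟨1, false, 38, [(1, true), (0, true), (1, true), (0, true), (1, true), (0, true), (1, false), (0, true), (1, true), (0, true), (1, false), (0, true), (1, true), (0, true), (1, false), (0, true), (1, true), (0, true), (1, true), (0, true), (1, true), (0, true), (1, false), (0, true), (1, false), (0, true), (1, false), (0, true), (1, false), (0, true), (1, false), (0, true), (1, false), (0, true), (1, true), (0, true), (1, false), (0, true), (1, false), (0, true), (1, false), (0, true), (1, true), (0, true), (1, true), (0, true), (1, true), (0, true), (1, false), (0, true), (1, false), (0, true)]⟩),
    (174, 128, ⟨1, false, 38, [(1, true), (0, true), (1, true), (0, true), (1, false), (0, true), (1, false), (0, true), (1, false), (0, true), (1, false), (0, true), (1, true), (0, true), (1, true), (0, true), (1, true), (0, true), (1, true), (0, true), (1, false), (0, true), (1, true), (0, true), (1, true), (0, true), (1, false), (0, true), (1, false), (0, true), (1, false), (0, true), (1, false), (0, true), (1, true), (0, true), (1, true), (0, true), (1, true), (0, true), (1, true), (0, true), (1, false), (0, true), (1, false), (0, true)]⟩),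
    (151, 175, ⟨1, false, 38, [(1, false), (0, true), (1, false), (0, true), (1, false), (0, true), (1, true), (0, true), (1, false), (0, true), (1, false), (0, true), (1, true), (0, true), (1, true), (1, true), (0, true), (1, true), (0, true), (1, true), (0, true), (1, true), (0, true), (1, true), (0, true), (1, true), (0, true), (1, true), (0, true), (1, false), (0, true), (1, true), (0, true), (1, true), (0, true), (1, true), (0, true), (1, false), (0, true), (1, true), (0, true), (1, true)]⟩),
    (123, 173, ⟨1, false, 38, [(1, false), (0, true), (1, true), (0, true), (1, false), (0, true), (1, false), (0, true), (1, false), (0, true), (1, true), (1, true), (0, true), (1, true), (0, true), (1, true), (0, true), (1, true), (0, true), (1, true), (0, true), (1, false), (0, true), (1, false), (0, true), (1, true), (0, true), (1, false), (0, true), (1, false), (0, true), (1, false), (0, true), (1, false), (0, true), (1, false), (0, true), (1, false)]⟩),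
    (129, 181, ⟨1, false, 38, [(0, true), (1, true), (0, true), (1, false), (0, true), (1, false), (0, true), (1, false), (0, true), (1, true), (0, true), (1, false), (0, true), (1, false), (0, true), (1, false), (0, true), (1, true), (0, true), (1, true), (0, true), (1, false), (0, true), (1, false), (0, true), (1, true), (0, true), (1, false), (0, true), (1, true), (0, true), (1, false), (0, true), (1, true), (0, true), (1, true), (0, true), (1, true), (0, true), (1, false), (0, true), (1, false), (0, true), (1, true), (0, true), (1, false), (0, true), (1, false), (0, true), (1, true)]⟩),
    (173, 56, ⟨1, false, 38, [(0, true), (1, true), (0, true), (1, true), (0, true), (1, false), (0, true), (1, true), (0, true), (1, true), (0, true), (1, false), (0, true), (1, true), (0, true), (1, false), (0, true), (1, true), (0, true), (1, false), (0, true), (1, false), (0, true), (1, true), (0, true), (1, true), (0, true), (1, true), (0, true), (1, false), (0, true), (1, false), (0, true), (1, true), (0, true), (1, false), (0, true), (1, true), (0, true), (1, true), (0, true), (1, false), (0, true), (1, true), (0, true)]⟩),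
    (137, 180, ⟨1, false, 38, [(1, true), (0, true), (1, true), (0, true), (1, false), (0, true), (1, false), (0, true), (1, false), (0, true), (1, false), (0, true), (1, true), (0, true), (1, true), (0, true), (1, true), (0, true), (1, true), (0, true), (1, false), (0, true), (1, false), (0, true), (1, true), (0, true), (1, false), (0, true), (1, false), (0, true), (1, false), (0, true), (1, false), (0, true), (1, true), (0, true), (1, true), (0, true), (1, true), (0, true), (1, true), (0, true), (1, false), (0, true), (1, true), (0, true), (1, true), (0, true), (1, false), (0, true), (1, false), (0, true), (1, false), (0, true), (1, false), (0, true), (1, true), (0, true), (1, true), (0, true), (1, true), (0, true), (1, true), (0, true), (1, false), (0, true), (0, true), (1, true), (0, true), (1, false), (0, true), (1, false), (0, true), (1, false), (0, true), (1, true), (0, true), (1, false), (0, true), (1, true), (0, true), (1, true), (0, true), (1, true), (0, true), (1, false), (0, true), (0, true), (1, true), (0, true), (1, false), (0, true), (1, false), (0, true), (1, false), (0, true), (1, false), (0, true), (1, true), (0, true), (1, true), (0, true), (1, true), (0, true), (1, true), (0, true), (1, false), (0, true), (0, true), (1, true), (0, true), (1, false), (0, true),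 (1, true), (0, true), (1, true), (0, true), (1, true), (0, true), (1, true), (0, true), (1, true), (0, true), (1, true), (0, true), (1, false), (0, true), (1, true), (0, true), (1, true), (0, true), (1, false)]⟩),
    (139, 179, ⟨1, false, 38, [(1, true), (0, true), (1, true), (0, true), (1, false), (0, true), (1, false), (0, true), (1, false), (0, true), (1, false), (0, true), (1, true), (0, true), (1, true), (0, true), (1, true), (0, true), (1, true), (0, true), (1, false), (0, true), (1, false), (0, true), (1, true), (0, true), (1, false), (0, true), (1, false), (0, true), (1, false), (0, true), (1, false), (0, true), (1, true), (0, true), (1, true), (0, true), (1, true), (0, true), (1, true), (0, true), (1, false), (0, true), (0, true), (1, true), (0, true), (1, false), (0, true), (1, false), (0, true), (1, false), (0, true), (1, true), (0, true), (1, false), (0, true), (1, true), (0, true), (1, true), (0, true), (1, true), (0, true), (1, false), (0, true), (0, true), (1, true), (0, true), (1, false), (0, true), (1, false), (0, true), (1, false), (0, true), (1, false), (0, true), (1, true), (0, true), (1, true), (0, true), (1, true), (0, true), (1, true), (0, true), (1, false), (0, true), (1, true), (0, true), (1, true), (0, true), (1, true), (0, true), (1, true), (0, true),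 (1, false), (0, true), (1, false), (0, true), (1, false), (0, true), (1, false), (0, true), (1, false), (0, true), (1, false), (0, true), (1, false), (0, true), (1, true), (0, true), (1, true)]⟩),
    (174, 110, ⟨1, false, 38, [(1, false), (0, true), (1, true), (0, true), (1, false), (0, true), (1, false), (0, true), (1, false), (0, true), (1, false), (0, true), (1, false), (0, true), (1, false), (0, true), (1, true), (0, true), (1, true), (0, true), (1, true), (0, true), (1, false)]⟩),
    (176, 147, ⟨1, false, 38, [(1, false), (0, true), (1, true), (0, true), (1, false), (0, true), (1, false), (0, true), (1, false), (0, true), (1, false), (0, true), (1, true), (0, true), (1, true), (0, true), (1, true), (0, true), (1, true), (0, true), (1, false), (0, true), (1, true), (0, true), (1, true), (0, true), (1, false), (0, true), (1, false), (0, true), (1, false), (0, true), (1, true), (0, true), (1, true), (0, true), (1, true), (0, true), (1, true), (0, true), (1, true), (0, true), (1, true), (0, true), (1, true), (0, true), (1, true), (0, true), (1, false)]⟩),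
    (167, 183, ⟨1, false, 38, [(0, true), (1, false), (0, true), (1, true), (0, true), (1, true), (0, true), (1, true), (0, true), (1, true), (0, true), (1, false), (0, true), (1, false), (0, true), (1, false), (0, true), (1, false), (0, true), (1, true), (0, true), (1, true), (0, true), (1, false), (0, true), (1, false), (0, true), (1, false), (0, true), (1, false), (0, true), (1, true), (0, true), (1, true), (0, true), (1, true), (0, true), (1, false), (0, true), (1, true), (0, true), (1, true), (0, true), (1, true), (0, true), (1, false), (0, true), (1, false), (0, true), (1, true), (0, true), (1, true)]⟩),
    (160, 188, ⟨1, false, 38, [(0, true), (1, true), (0, true), (1, false), (0, true), (1, true), (0, true), (1, true), (0, true), (1, false), (0, true), (1, false), (0, true), (1, false), (0, true), (1, false), (0, true), (1, false), (0, true), (1, false), (0, true), (1, false), (0, true), (1, true), (0, true), (1, true), (0, true), (1, true), (0, true), (1, false), (0, true), (1, false), (0, true), (1, false), (0, true), (1, false), (0, true), (1, true), (0, true), (1, false), (0, true), (1, false), (0, true), (1, false), (0, true), (1, true), (0, true), (1, false), (0, true), (1, false), (0, true), (1, false), (0, true)]⟩),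
    (189, 79, ⟨1, false, 38, [(1, false), (0, true), (1, true), (0, true), (1, false), (0, true), (1, false), (0, true), (1, false), (0, true), (1, false), (0, true), (1, true), (0, true), (1, true), (0, true), (1, true), (0, true), (1, true), (0, true), (1, false), (0, true), (0, true), (1, true), (0, true), (1, false), (0, true), (1, false), (0, true), (1, false), (0, true), (1, true), (0, true), (1, false), (0, true), (1, true), (0, true), (1, true), (0, true), (1, true), (0, true), (1, false), (0, true), (1, false), (0, true), (1, true), (0, true), (1, false), (0, true), (1, false), (0, true), (1, false), (0, true), (1, false), (0, true), (1, true), (0, true), (1, true), (0, true), (1, true), (0, true), (1, true), (0, true), (1, false), (0, true), (0, true), (1, false), (0, true), (1, true), (0, true), (1, false), (0, true), (1, false), (0, true), (1, false), (0, true), (1, true), (0, true), (1, true), (0, true), (1, true), (0, true), (1, true), (0, true)]⟩),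
    (154, 192, ⟨1, false, 38, [(1, true), (0, true), (1, true), (0, true), (1, false), (0, true), (1, false), (0, true), (1, false), (0, true), (1, false), (0, true), (1, true), (0, true), (1, true), (0, true), (1, true), (0, true), (1, true), (0, true), (1, false), (0, true), (1, false), (0, true), (1, true), (0, true), (1, false), (0, true), (1, false), (0, true), (1, false), (0, true), (1, false), (0, true), (1, true), (0, true), (1, true), (0, true), (1, true), (0, true), (1, true), (0, true), (1, false), (0, true), (0, true), (1, true), (0, true), (1, false), (0, true), (1, false), (0, true), (1, false), (0, true), (1, true), (0, true), (1, false), (0, true), (1, true), (0, true), (1, true), (0, true), (1, true), (0, true), (1, false), (0, true), (0, true), (1, true), (0, true), (1, false), (0, true), (1, false), (0, true), (1, false), (0, true), (1, false), (0, true), (1, true), (0, true), (1, true), (0, true), (1, true), (0, true), (1, true), (0, true), (1, false), (0, true), (0, true), (1, true), (0, true), (1, false), (0, true), (1, false), (0, true), (1, false), (0, true), (1, true), (0, true), (1, false), (0, true), (1, true), (0, true), (1, true), (0, true), (1, true), (0, true), (1, false), (0, true), (0, true), (1, false), (0, true), (1, true), (0, true), (1, false),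 (0, true), (1, true), (0, true), (1, true), (0, true), (1, true), (0, true), (1, true), (0, true), (1, false), (0, true), (1, true), (0, true), (1, false)]⟩),
    (184, 178, ⟨1, false, 38, [(1, false), (0, true), (1, true), (0, true), (1, false), (0, true), (1, false), (0, true), (1, false), (0, true), (1, false), (0, true), (1, false), (0, true), (1, false), (0, true), (1, true), (0, true), (1, true), (0, true), (1, true), (0, true), (1, false), (0, true), (1, true), (0, true), (1, true), (0, true), (1, true), (0, true), (1, true)]⟩),
    (143, 190, ⟨1, false, 38, [(0, true), (1, true), (0, true), (1, false), (0, true), (1, false), (0, true), (1, true), (0, true), (1, false), (0, true), (1, true), (0, true), (1, false), (0, true), (1, false), (0, true), (1, false), (0, true), (1, false), (0, true), (1, true), (0, true), (1, true), (0, true), (1, true), (0, true), (1, false), (0, true), (1, false), (0, true), (1, true), (0, true), (1, true), (0, true), (1, true), (0, true), (1, false), (0, true), (1, true), (0, true), (1, true), (0, true), (1, true), (0, true), (1, false), (0, true), (1, true), (0, true), (1, true), (0, true), (1, true), (0, true)]⟩),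
    (186, 141, ⟨1, false, 38, [(1, true), (0, true), (1, true), (0, true), (1, false), (0, true), (1, false), (0, true), (1, false), (0, true), (1, false), (0, true), (1, true), (0, true), (1, true), (0, true), (1, true), (0, true), (1, true), (0, true), (1, false), (0, true), (1, false), (0, true), (1, false), (0, true), (1, true), (0, true), (1, false), (0, true), (1, true), (0, true), (1, true), (0, true), (1, false), (0, true), (1, false), (0, true), (1, true), (0, true), (1, true)]⟩),
    (189, 172, ⟨1, false, 38, [(1, false), (0, true), (1, false), (0, true), (1, true), (0, true), (1, false), (0, true), (1, false), (0, true), (1, false), (0, true), (1, true), (0, true), (1, true), (0, true), (1, true), (0, true), (1, true), (0, true)]⟩),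
    (185, 195, ⟨1, false, 38, [(0, true), (1, false), (0, true), (1, false), (0, true), (1, true), (0, true), (1, true), (0, true), (1, true), (0, true), (1, false), (0, true), (1, true), (0, true), (1, true), (0, true), (1, false), (0, true), (1, false), (0, true), (1, true), (0, true), (1, false), (0, true), (1, false), (0, true), (1, false), (0, true), (1, true), (0, true), (1, true), (0, true), (1, true), (0, true), (1, true), (0, true), (1, false), (0, true), (1, true), (0, true), (1, false), (0, true), (1, false), (0, true), (1, true), (0, true), (1, true), (0, true), (1, true)]⟩),
    (198, 182, ⟨1, false, 38, [(1, true), (0, true), (1, false), (0, true), (1, true), (0, true), (1, false), (0, true), (1, false), (0, true), (1, false), (0, true), (1, false), (0, true), (1, true), (0, true), (1, true), (0, true), (1, false), (0, true), (1, true), (0, true), (1, true), (0, true), (1, true), (0, true), (1, false), (0, true), (1, true), (0, true), (1, false), (0, true), (1, false), (0, true), (1, false), (0, true), (1, false), (0, true), (1, true), (0, true), (1, true), (0, true), (1, true), (0, true), (1, false), (0, true), (1, true), (0, true)]⟩),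
    (199, 190, ⟨1, false, 38, [(1, true), (0, true), (1, false), (0, true), (1, true), (0, true), (1, true), (0, true), (1, false), (0, true), (1, false), (0, true), (1, true), (0, true), (1, true), (0, true), (1, true), (0, true), (1, true), (0, true), (1, false), (0, true), (1, true), (0, true), (1, false), (0, true), (1, false), (0, true), (1, false), (0, true), (1, true), (0, true), (1, false), (0, true), (1, true), (0, true), (1, true), (0, true), (1, true), (0, true), (1, true), (0, true), (1, false), (0, true), (1, true), (0, true), (1, true), (0, true), (1, true), (0, true)]⟩),
    (196, 142, ⟨1, false, 38, [(1, false), (0, true), (1, false), (0, true), (1, false), (0, true), (1, true), (0, true), (1, false), (0, true), (1, true), (0, true), (1, true), (0, true), (1, false), (0, true), (1, false), (0, true), (1, true), (0, true), (1, true), (0, true), (1, false), (0, true), (1, true), (0, true), (1, true), (0, true), (1, true), (0, true), (1, false), (0, true), (1, false), (0, true), (1, true), (0, true), (1, true), (0, true), (1, true), (0, true), (1, true), (0, true), (1, true), (0, true), (1, true), (0, true), (1, true), (0, true)]⟩),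
    (191, 205, ⟨1, false, 38, [(1, true), (0, true), (1, true), (0, true), (1, true), (0, true), (1, false), (0, true), (1, false), (0, true), (1, true), (0, true), (1, true), (0, true), (1, true), (0, true), (1, false), (0, true), (1, true), (0, true), (1, true), (0, true), (1, true), (0, true), (1, false), (0, true), (1, false), (0, true), (1, true), (0, true), (1, false), (0, true), (1, false), (0, true), (1, true), (0, true), (1, true), (0, true), (1, true), (0, true), (1, false), (0, true), (1, true), (0, true), (1, false), (0, true), (1, false)]⟩)]

/-- The seeds whose product each point is, as bit masks. -/
def cloMask : List Nat := [0x1, 0x2, 0x4, 0x8, 0x10, 0x20, 0x40, 0x80, 0x100, 0x200, 0x400, 0x800, 0x1000, 0x22, 0x9, 0x60, 0x21, 0x41, 0x1020, 0x3, 0x801, 0x5, 0x1001, 0x410, 0x11, 0x1031, 0x822, 0x61, 0x23, 0x83, 0x241, 0x105, 0x1021, 0xb, 0x405, 0x305, 0x823, 0x1030, 0xa3, 0x827, 0x414, 0x327, 0xb05, 0x826, 0x1039, 0x1038, 0x1813, 0x1812, 0xa66, 0x1826, 0x82c, 0x1847, 0x1872, 0x1827, 0x1873, 0x82d, 0x1846, 0x867, 0x83c, 0x1879, 0x1c62, 0x1046, 0x1047, 0x85d, 0x81e, 0x81f, 0x1078, 0x184f, 0x184e, 0x85c, 0x866, 0x186a, 0x95c, 0x185f, 0x1864, 0x1c4e, 0x184b, 0xa27, 0x1051, 0x959, 0x1c5a, 0x1c5e, 0x1d4e, 0x842, 0x187c, 0x1d4b, 0x39, 0x78, 0x428, 0x2d, 0x187d, 0x42d, 0x156d,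 0x1568, 0xd74, 0x5a, 0x5b, 0x553, 0x671, 0xe53, 0x712, 0x1145, 0x1140, 0xf35, 0xdf7, 0xf6f, 0xe2b, 0x1749, 0x1e62, 0x1e1b, 0x1751, 0x679, 0x1240, 0xe5a, 0x1e6b, 0x191d, 0x1db1, 0x15b0, 0x1340, 0x1b62, 0x1f64, 0x1f34, 0xb03, 0x1365, 0x1a27, 0x320, 0x1b46, 0x221, 0x1552, 0x1531, 0x1200, 0x13e3, 0xa07, 0x23c, 0x1b41, 0x6d3, 0xa1a, 0x688, 0xb20, 0x6d8, 0x946, 0x1146, 0x1bdf, 0x16ab, 0x383, 0x1bfc, 0x6d5, 0x106, 0xb9f, 0xed4, 0x1363, 0x10dc, 0x1b64, 0x1bb, 0x1142, 0x12b6, 0x19b1, 0x786, 0x19e1, 0x2d5, 0x9e7, 0x8cf, 0x10a7, 0x7fa, 0xfe1, 0x1fc8, 0x18b1, 0x1fd9, 0x685, 0x763, 0x733, 0xac, 0x123d, 0x1de7, 0x1ed2, 0x1a8f, 0x1f37, 0x9ea, 0x1457, 0x1c02, 0x344, 0x1e82, 0x5e6, 0x1ddd, 0x17e6, 0xda0, 0xb80, 0xa53, 0xe82, 0xbb3, 0x5a1, 0x5cc, 0x1ada, 0x983, 0x1e31, 0x204, 0x765, 0x2ea, 0xb98, 0x3b1, 0x130a, 0x1ac6, 0x198e, 0xfa4, 0xe7e, 0x610, 0x1cba, 0x3dc]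

/-- Lines giving relations among the seeds. -/
def cloRel : List (List Nat × Hint) := [
    ([74, 78, 22], ⟨1, false, 38, [(1, true), (0, true), (1, false), (0, true), (1, true), (0, true), (1, false), (0, true), (1, false), (0, true), (1, false), (0, true), (1, true), (0, true), (1, false), (0, true), (1, true), (0, true), (1, false)]⟩),
    ([11, 86, 74], ⟨1, false, 38, [(1, true), (0, true), (1, true), (0, true), (1, false), (0, true), (1, false), (0, true), (1, false), (0, true), (1, true), (0, true), (1, true), (0, true), (1, true), (0, true), (1, true), (0, true), (1, false), (0, true), (1, true), (0, true), (1, false), (0, true), (1, false), (0, true), (1, false), (0, true), (1, true), (0, true), (1, false), (0, true), (1, false), (0, true), (1, false), (0, true), (1, true), (0, true), (1, true), (0, true), (1, false), (0, true), (1, false), (0, true), (1, false), (0, true), (1, true), (0, true), (1, true), (0, true), (1, true), (0, true)]⟩)]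

/-- The seeds commute. -/
def cloComm : List (Nat × Nat × Hint) := [
    (0, 1, ⟨2, false, 0, [(0, true), (1, true), (0, true), (1, false), (0, true), (1, false), (0, true), (1, false), (0, true), (1, true), (0, true), (1, true), (0, true), (1, true), (0, true), (1, true), (0, true), (1, true), (0, true), (1, true), (0, true), (1, false), (0, true), (1, true)]⟩),
    (0, 2, ⟨2, false, 0, [(1, true), (0, true), (1, true), (0, true), (1, false), (0, true), (1, false), (0, true), (1, false), (0, true), (1, false), (0, true), (1, true), (0, true), (1, true), (0, true), (1, true), (0, true), (1, true), (0, true), (1, false), (0, true), (1, true), (0, true), (1, true), (0, true), (1, false), (0, true), (1, false), (0, true), (1, false), (0, true), (1, false), (0, true), (1, true), (0, true), (1, true), (0, true), (1, true), (0, true), (1, true), (0, true), (1, false), (0, true), (0, true), (1, true), (0, true), (1, false), (0, true), (1, false), (0, true), (1, false), (0, true), (1, true), (0, true), (1, false), (0, true), (1, true), (0, true), (1, true), (0, true), (1, true), (0, true), (1, false), (0, true), (1, true), (0, true), (1, true), (0, true), (1, false), (0, true), (1, false), (0, true), (1, false), (0, true), (1, false), (0, true), (1, true), (0, true), (1, true), (0, true),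 (1, true), (0, true), (1, true), (0, true), (1, false), (0, true), (1, false)]⟩),
    (0, 3, ⟨2, false, 0, [(0, true), (1, true), (0, true), (1, false), (0, true), (1, false), (0, true), (1, false), (0, true), (1, true), (0, true), (1, false), (0, true), (1, true), (0, true), (1, true), (0, true), (1, true), (0, true), (1, false), (0, true), (1, false), (0, true), (1, true), (0, true), (1, false), (0, true), (1, false), (0, true), (1, false), (0, true), (1, false), (0, true), (1, false), (0, true), (1, true), (0, true), (1, true), (0, true), (1, true), (0, true), (1, true), (0, true), (1, true), (0, true), (1, false), (0, true), (1, true)]⟩),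
    (0, 4, ⟨2, false, 0, [(0, true), (1, true), (0, true), (1, false), (0, true), (1, true), (0, true), (1, false), (0, true), (1, true), (0, true), (1, true), (0, true), (1, false), (0, true), (1, false), (0, true), (1, true), (0, true), (1, false), (0, true), (1, false), (0, true), (1, false), (0, true), (1, true), (0, true), (1, true), (0, true), (1, true), (0, true), (1, false), (0, true), (1, false), (0, true), (1, false), (0, true), (1, true), (0, true), (1, false), (0, true), (1, false), (0, true), (1, false), (0, true), (1, false), (0, true), (1, false)]⟩),
    (0, 5, ⟨2, false, 0, [(1, true), (0, true), (1, true), (0, true), (1, false), (0, true), (1, false), (0, true), (1, false), (0, true), (1, false), (0, true), (1, true), (0, true), (1, true), (0, true), (1, true), (0, true), (1, true), (0, true), (1, false), (0, true), (1, true)]⟩),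
    (0, 6, ⟨2, false, 0, [(0, true), (1, true), (0, true), (1, false), (0, true), (1, false), (0, true), (1, true), (0, true), (1, true), (0, true), (1, true), (0, true), (1, true), (0, true), (1, false), (0, true), (1, true), (0, true), (1, false), (0, true), (1, false), (0, true), (1, false), (0, true), (1, true), (0, true), (1, false), (0, true), (1, false), (0, true), (1, false), (0, true), (1, false), (0, true), (1, false), (0, true), (1, false), (0, true), (1, true), (0, true), (1, false), (0, true), (1, true), (0, true), (1, true), (0, true), (1, false), (0, true), (1, true), (0, true), (1, true), (0, true)]⟩),
    (0, 7, ⟨4, false, 0, [(0, true), (1, true), (0, true), (1, true), (0, true), (1, true), (0, true), (1, true), (0, true), (1, false), (0, true), (1, true), (0, true), (1, false), (0, true), (1, true), (0, true), (1, true), (0, true), (1, false), (0, true), (1, false), (0, true), (1, false), (0, true), (1, true), (0, true), (1, false), (0, true), (1, false), (0, true), (1, true), (0, true), (1, true), (0, true), (1, true), (0, true), (1, false), (0, true), (1, true), (0, true), (1, false), (0, true), (1, false), (0, true), (1, true), (0, true), (1, false), (0, true), (1, true), (0, true), (1, true)]⟩),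
    (0, 8, ⟨4, false, 0, [(0, true), (1, true), (0, true), (1, false), (0, true), (1, false), (0, true), (1, false), (0, true), (1, false), (0, true), (1, true), (0, true), (1, true), (0, true), (1, true), (0, true), (1, true), (0, true), (1, false), (0, true), (0, true), (1, true), (0, true), (1, false), (0, true), (1, false), (0, true), (1, false), (0, true), (1, true), (0, true), (1, false), (0, true), (1, true), (0, true), (1, true), (0, true), (1, true), (0, true), (1, false), (0, true), (1, false), (0, true), (1, true), (0, true), (1, false), (0, true), (1, false), (0, true), (1, false), (0, true), (1, false), (0, true), (1, true), (0, true), (1, true), (0, true), (1, true), (0, true), (1, true), (0, true), (1, false), (0, true), (1, true), (0, true), (1, true), (0, true), (1, false), (0, true), (1, false), (0, true), (1, false), (0, true), (1, false), (0, true), (1, true), (0, true), (1, true), (0, true), (1, true), (0, true), (1, true), (0, true), (1, false), (0, true), (1, true)]⟩),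
    (0, 9, ⟨4, false, 0, [(0, true), (1, false), (0, true), (1, true), (0, true), (1, false), (0, true), (1, true), (0, true), (1, true), (0, true), (1, false), (0, true), (1, false), (0, true), (1, false), (0, true), (1, false), (0, true), (1, true), (0, true), (1, true), (0, true), (1, false), (0, true), (1, true), (1, true), (0, true), (1, true), (0, true), (1, true), (0, true), (1, true), (0, true), (1, true), (0, true), (1, true), (0, true), (1, true), (0, true), (1, true), (0, true), (1, false), (0, true), (1, false), (0, true), (1, true), (0, true), (1, false), (0, true), (1, true), (0, true), (1, true)]⟩),
    (0, 10, ⟨3, false, 0, [(0, true), (1, true), (0, true), (1, false), (0, true), (1, false), (0, true), (1, false), (0, true), (1, false), (0, true), (1, false), (0, true), (1, true), (0, true), (1, false), (0, true), (1, true), (0, true), (1, true), (0, true), (1, true), (0, true), (1, true), (0, true), (1, true), (0, true), (1, false), (0, true)]⟩),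
    (0, 11, ⟨2, false, 0, [(1, false)]⟩),
    (0, 12, ⟨2, false, 0, [(1, true), (0, true), (1, true), (0, true), (1, false), (0, true), (1, false), (0, true), (1, false), (0, true), (1, false), (0, true), (1, true), (0, true), (1, true), (0, true), (1, true), (0, true), (1, true), (0, true), (1, false), (0, true), (1, true), (0, true), (1, true), (0, true), (1, false), (0, true), (1, false), (0, true), (1, false), (0, true), (1, false), (0, true), (1, true), (0, true), (1, true), (0, true), (1, true), (0, true), (1, true), (0, true), (1, false), (0, true), (1, true)]⟩),
    (1, 2, ⟨3, false, 0, [(0, true), (1, true), (0, true), (1, false), (0, true), (1, false), (0, true), (1, true), (0, true), (1, false), (0, true), (1, true), (0, true), (1, true), (0, true), (1, false), (0, true), (1, false), (0, true), (1, false), (0, true), (1, false), (0, true), (1, false), (0, true), (1, true), (0, true), (1, true), (0, true), (1, true), (0, true), (1, true), (0, true), (1, true), (0, true), (1, false), (0, true), (1, false), (0, true), (1, false), (0, true), (1, false), (0, true), (1, false), (0, true), (1, false), (0, true), (1, true), (0, true), (1, true), (0, true), (1, false), (0, true), (1, true)]⟩),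
    (1, 3, ⟨2, false, 0, [(0, true), (1, true), (0, true), (1, true), (0, true), (1, true), (0, true), (1, false), (0, true), (1, false), (0, true), (1, true), (0, true), (1, true), (0, true), (1, true), (0, true), (1, true), (0, true), (1, true), (0, true), (1, false), (0, true), (1, false), (0, true), (1, true), (0, true), (1, true), (0, true), (1, false), (0, true), (1, false), (0, true), (1, false), (0, true), (1, false), (0, true), (1, true), (0, true), (1, false), (0, true), (1, true), (0, true), (1, false)]⟩),
    (1, 4, ⟨4, false, 0, [(0, true), (1, true), (0, true), (1, false), (0, true), (1, false), (0, true), (1, true), (0, true), (1, false), (0, true), (1, true), (0, true), (1, false), (0, true), (1, true), (0, true), (1, false), (0, true), (1, false), (0, true), (1, false), (0, true), (1, false), (0, true), (1, false), (0, true), (1, false), (0, true), (1, false), (0, true), (1, true), (0, true), (1, true), (0, true), (1, false), (0, true), (1, true), (0, true), (1, true), (0, true), (1, true), (0, true), (1, true), (0, true)]⟩),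
    (1, 5, ⟨2, false, 0, [(0, true), (1, true), (0, true), (1, false), (0, true), (1, false), (0, true), (1, false), (0, true), (1, true), (0, true), (1, false), (0, true), (1, true), (0, true), (1, true), (0, true), (1, true), (0, true), (1, true), (0, true), (1, true), (0, true), (1, false), (0, true), (1, true), (0, true), (1, false), (0, true), (1, true), (0, true), (1, false), (0, true), (1, true), (0, true), (1, false)]⟩),
    (1, 6, ⟨3, false, 0, [(1, false), (0, true), (1, false), (0, true), (1, true), (0, true), (1, true), (0, true), (1, true), (0, true), (1, true), (0, true), (1, true), (0, true), (1, false), (0, true), (1, true), (0, true), (1, false), (0, true), (1, true), (0, true), (1, true), (0, true), (1, false), (0, true), (1, false), (0, true), (1, false), (0, true), (1, true), (0, true), (1, false), (0, true), (1, false), (0, true), (1, false), (0, true), (1, false), (0, true), (1, false), (0, true), (1, false), (0, true), (1, false), (0, true), (1, true)]⟩),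
    (1, 7, ⟨4, false, 0, [(0, true), (1, true), (0, true), (1, false), (0, true), (1, false), (0, true), (1, false), (0, true), (1, true), (0, true), (1, false), (0, true), (1, true), (0, true), (1, true), (0, true), (1, true), (0, true), (1, false), (0, true), (1, false), (0, true), (1, true), (0, true), (1, false), (0, true), (1, false), (0, true), (1, false), (0, true), (1, true), (0, true), (1, false), (0, true), (1, true), (0, true), (1, true), (0, true), (1, true), (0, true), (1, false), (0, true), (1, true), (0, true), (1, true), (0, true), (1, false), (0, true), (1, false), (0, true), (1, false), (0, true), (1, false), (0, true), (1, true), (0, true), (1, true), (0, true), (1, true), (0, true), (1, true), (0, true), (1, false), (0, true), (1, false), (0, true), (1, true), (0, true), (1, false), (0, true), (1, false), (0, true), (1, false), (0, true), (1, false), (0, true), (1, true), (0, true), (1, true), (0, true), (1, true), (0, true), (1, true), (0, true), (1, false), (0, true), (1, true), (0, true), (1, false), (0, true), (1, true), (0, true), (1, false), (0, true), (1, true), (0, true), (1, false), (0, true), (1, true), (0, true), (1, false), (0, true), (1, true), (0, true), (1, false)]⟩),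
    (1, 8, ⟨4, false, 0, [(0, true), (1, true), (0, true), (1, false), (0, true), (1, false), (0, true), (1, false), (0, true), (1, true), (0, true), (1, false), (0, true), (1, true), (0, true), (1, true), (0, true), (1, true), (0, true), (1, false), (0, true), (0, true), (1, true), (0, true), (1, false), (0, true), (1, false), (0, true), (1, false), (0, true), (1, false), (0, true), (1, true), (0, true), (1, true), (0, true), (1, true), (0, true), (1, true), (0, true), (1, false), (0, true), (1, false), (0, true), (1, true), (0, true), (1, false), (0, true), (1, false), (0, true), (1, false), (0, true), (1, true), (0, true), (1, false), (0, true), (1, true), (0, true), (1, true), (0, true), (1, true), (0, true), (1, false), (0, true), (0, true), (1, true), (0, true), (1, false), (0, true), (1, false), (0, true), (1, false), (0, true), (1, false), (0, true), (1, true), (0, true), (1, true), (0, true), (1, true), (0, true), (1, true), (0, true), (1, false), (0, true), (1, false), (0, true), (1, true), (0, true), (1, false), (0, true), (1, false), (0, true), (1, false), (0, true), (1, false), (0, true), (1, true), (0, true), (1, true), (0, true), (1, true), (0, true), (1, true), (0, true), (1, false), (0, true), (1, true), (0, true), (1, false), (0, true), (1, true), (0, true), (1,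 false), (0, true), (1, true), (0, true), (1, false), (0, true), (1, true), (0, true), (1, false), (0, true), (1, true), (0, true), (1, false)]⟩),
    (1, 9, ⟨4, false, 0, [(0, true), (1, true), (0, true), (1, false), (0, true), (1, false), (0, true), (1, false), (0, true), (1, false), (0, true), (1, true), (0, true), (1, true), (0, true), (1, true), (0, true), (1, true), (0, true), (1, false), (0, true), (0, true), (1, true), (0, true), (1, false), (0, true), (1, false), (0, true), (1, false), (0, true), (1, true), (0, true), (1, false), (0, true), (1, true), (0, true), (1, true), (0, true), (1, true), (0, true), (1, false), (0, true), (1, true), (0, true), (1, true), (0, true), (1, false), (0, true), (1, false), (0, true), (1, false), (0, true), (1, true), (0, true), (1, false), (0, true), (1, true), (0, true), (1, true), (0, true), (1, true), (0, true), (1, false), (0, true), (0, true), (1, true), (0, true), (1, false), (0, true), (1, false), (0, true), (1, false), (0, true), (1, false), (0, true), (1, true), (0, true), (1, true), (0, true), (1, true), (0, true), (1, true), (0, true), (1, false), (0, true), (1, true), (0, true), (1, true), (0, true), (1, false), (0, true), (1, false), (0, true), (1, false), (0, true), (1, false), (0, true), (1, true), (0, true), (1, true), (0,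 true), (1, true), (0, true), (1, true), (0, true), (1, false), (0, true), (0, true), (1, false), (0, true), (1, true), (0, true), (1, false), (0, true), (1, true), (0, true), (1, false), (0, true), (1, true), (0, true), (1, false), (0, true), (1, true), (0, true), (1, false)]⟩),
    (1, 10, ⟨4, false, 0, [(1, true), (0, true), (1, true), (0, true), (1, false), (0, true), (1, false), (0, true), (1, false), (0, true), (1, true), (0, true), (1, false), (0, true), (1, true), (0, true), (1, true), (0, true), (1, true), (0, true), (1, false), (0, true), (1, false), (0, true), (1, true), (0, true), (1, false), (0, true), (1, false), (0, true), (1, false), (0, true), (1, false), (0, true), (1, true), (0, true), (1, true), (0, true), (1, true), (0, true), (1, true), (0, true), (1, false), (0, true), (1, false), (0, true), (1, true), (0, true), (1, false), (0, true), (1, false), (0, true), (1, false), (0, true), (1, true), (0, true), (1, false), (0, true), (1, true), (0, true), (1, true), (0, true), (1, true), (0, true), (1, false), (0, true), (0, true), (1, false), (0, true), (1, true), (0, true), (1, false), (0, true), (1, true), (0, true), (1, false), (0, true), (1, true), (0, true), (1, false), (0, true), (1, true), (0, true), (1, false)]⟩),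
    (1, 11, ⟨4, false, 0, [(1, true), (0, true), (1, false), (0, true), (1, true), (0, true), (1, false), (0, true), (1, false), (0, true), (1, false), (0, true), (1, false), (0, true), (1, true), (0, true), (1, true), (0, true), (1, true), (0, true), (1, true), (0, true), (1, true), (0, true), (1, false), (0, true), (1, false), (0, true), (1, false), (0, true), (1, true), (0, true), (1, false), (0, true), (1, true), (0, true), (1, true), (0, true), (1, true), (0, true), (1, true), (0, true), (1, false), (0, true), (1, true), (0, true), (1, false), (0, true), (1, true), (0, true), (1, true), (0, true)]⟩),
    (1, 12, ⟨4, false, 0, [(1, true), (0, true), (1, false), (0, true), (1, false), (0, true), (1, false), (0, true), (1, false), (0, true), (1, true), (0, true), (1, true), (0, true), (1, true), (0, true), (1, false), (0, true), (1, true), (0, true), (1, true), (0, true), (1, false), (0, true), (1, false), (0, true), (1, true), (0, true), (1, true), (0, true), (1, false), (0, true), (1, true), (0, true), (1, false), (0, true), (1, true), (0, true), (1, false), (0, true), (1, false), (0, true), (1, false), (0, true), (1, true), (0, true), (1, true), (0, true), (1, false), (0, true), (1, true), (0, true)]⟩),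
    (2, 3, ⟨4, false, 0, [(0, true), (1, true), (0, true), (1, true), (0, true), (1, false), (0, true), (1, false), (0, true), (1, false), (0, true), (1, true), (0, true), (1, true), (0, true), (1, false), (0, true), (1, true), (0, true), (1, true), (0, true), (1, true), (0, true), (1, true), (0, true), (1, true), (0, true), (1, true), (0, true), (1, false), (0, true), (1, true), (0, true), (1, true), (0, true), (1, true), (0, true), (1, true), (0, true), (1, true), (0, true), (1, false), (0, true), (1, true), (0, true), (1, false), (0, true), (1, false), (0, true), (1, true), (0, true)]⟩),
    (2, 4, ⟨3, false, 0, [(0, true), (1, true), (0, true), (1, false), (0, true), (1, false), (0, true), (1, false), (0, true), (1, true), (0, true), (1, false), (0, true), (1, true), (0, true), (1, true), (0, true), (1, true), (0, true), (1, false), (0, true), (0, true), (1, true), (0, true), (1, false), (0, true), (1, false), (0, true), (1, false), (0, true), (1, false), (0, true), (1, true), (0, true), (1, true), (0, true), (1, true), (0, true), (1, true), (0, true), (1, false), (0, true), (1, true), (0, true), (1, true), (0, true), (1, false), (0, true), (1, false), (0, true), (1, false), (0, true), (1, false), (0, true), (1, true), (0, true), (1, true), (0, true), (1, true), (0, true), (1,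 true), (0, true), (1, false), (0, true), (1, true), (0, true), (1, true), (0, true), (1, false), (0, true), (1, true), (0, true), (1, false), (0, true), (1, false), (0, true), (1, false), (0, true), (1, true), (0, true), (1, false), (0, true), (1, false), (0, true)]⟩),
    (2, 5, ⟨4, false, 0, [(1, false), (0, true), (1, true), (0, true), (1, false), (0, true), (1, false), (0, true), (1, false), (0, true), (1, true), (0, true), (1, true), (0, true), (1, false), (0, true), (1, true), (0, true), (1, false), (0, true), (1, true), (0, true), (1, false), (0, true), (1, true), (0, true), (1, false), (0, true), (1, true), (0, true), (1, true), (0, true), (1, true), (0, true), (1, false), (0, true), (1, false), (0, true), (1, false), (0, true), (1, false), (0, true), (1, true), (0, true), (1, false), (0, true), (1, false), (0, true)]⟩),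
    (2, 6, ⟨4, false, 0, [(1, false), (0, true), (1, true), (0, true), (1, false), (0, true), (1, false), (0, true), (1, false), (0, true), (1, true), (0, true), (1, false), (0, true), (1, true), (0, true), (1, true), (0, true), (1, true), (0, true), (1, false), (0, true), (1, false), (0, true), (1, true), (0, true), (1, false), (0, true), (1, true), (0, true), (1, false), (0, true), (1, false), (0, true), (1, false), (0, true), (1, true), (0, true), (1, false), (0, true), (1, false), (0, true)]⟩),
    (2, 7, ⟨4, false, 0, [(0, true), (1, true), (0, true), (1, false), (0, true), (1, false), (0, true), (1, false), (0, true), (1, false), (0, true), (1, false), (0, true), (1, false), (0, true), (1, true), (0, true), (1, false), (0, true), (1, true), (0, true), (1, false), (0, true), (1, true), (0, true), (1, true), (0, true), (1, true), (0, true), (1, false), (0, true), (1, false), (0, true), (1, false), (0, true), (1, false), (0, true), (1, false), (0, true), (1, true), (0, true), (1, true), (0, true), (1, true), (0, true), (1, false), (0, true), (1, true), (0, true), (1, false), (0, true), (1, true)]⟩),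
    (2, 8, ⟨4, false, 0, [(1, true), (0, true), (1, true), (0, true), (1, true), (0, true), (1, true), (0, true), (1, false), (0, true), (1, false), (0, true), (1, true), (0, true), (1, false), (0, true), (1, true), (0, true), (1, false), (0, true), (1, false), (0, true), (1, true), (0, true), (1, true), (0, true), (1, true), (0, true), (1, true), (0, true), (1, true), (0, true), (1, false), (0, true), (1, false), (0, true), (1, false), (0, true), (1, false), (0, true), (1, true), (0, true), (1, true), (0, true), (1, false), (0, true), (1, false), (0, true), (1, false), (0, true)]⟩),
    (2, 9, ⟨4, false, 0, [(0, true), (1, true), (0, true), (1, true), (0, true), (1, false), (0, true), (1, true), (0, true), (1, false), (0, true), (1, false), (0, true), (1, true), (0, true), (1, true), (0, true), (1, true), (0, true), (1, true), (0, true), (1, true), (0, true), (1, false), (0, true), (1, true), (0, true), (1, false), (0, true), (1, true), (0, true), (1, false), (0, true), (1, true), (0, true), (1, true), (0, true), (1, true), (0, true), (1, false), (0, true), (1, false), (0, true), (1, false), (0, true), (1, true), (0, true)]⟩),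
    (2, 10, ⟨3, false, 0, [(0, true), (1, true), (0, true), (1, false), (0, true), (1, false), (0, true), (1, false), (0, true), (1, true), (0, true), (1, true), (0, true), (1, false), (0, true), (1, true), (0, true), (1, true), (0, true), (1, true), (0, true), (1, false), (0, true), (1, false), (0, true), (1, false), (0, true), (1, false), (0, true), (1, true), (0, true), (1, false), (0, true), (1, false), (0, true)]⟩),
    (2, 11, ⟨4, false, 0, [(1, true), (0, true), (1, true), (0, true), (1, false), (0, true), (1, true), (0, true), (1, false), (0, true), (1, false), (0, true), (1, false), (0, true), (1, true), (0, true), (1, false), (0, true), (1, false), (0, true), (1, false), (0, true), (1, true), (0, true), (1, true), (0, true), (1, true), (0, true), (1, true), (0, true), (1, true), (0, true), (1, true), (0, true), (1, false), (0, true), (1, true), (0, true), (1, true), (0, true), (1, false), (0, true), (1, false), (0, true), (1, false), (0, true), (1, false), (0, true), (1, false), (0, true), (1, false), (0, true), (1, true)]⟩),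
    (2, 12, ⟨3, false, 0, [(1, true), (0, true), (1, true), (0, true), (1, false), (0, true), (1, false), (0, true), (1, false), (0, true), (1, true), (0, true), (1, true), (0, true), (1, false), (0, true), (1, true), (0, true), (1, false), (0, true), (1, true), (0, true), (1, true), (0, true), (1, true), (0, true), (1, false), (0, true), (1, false), (0, true), (1, false), (0, true), (1, false), (0, true), (1, true), (0, true), (1, false), (0, true), (1, false), (0, true)]⟩),
    (3, 4, ⟨3, false, 0, [(1, true), (0, true), (1, true), (0, true), (1, false), (0, true), (1, false), (0, true), (1, false), (0, true), (1, false), (0, true), (1, false), (0, true), (1, false), (0, true), (1, false), (0, true), (1, true), (0, true), (1, false), (0, true), (1, true), (0, true), (1, false), (0, true), (1, false), (0, true), (1, true), (0, true), (1, false), (0, true), (1, true), (0, true), (1, false), (0, true), (1, false), (0, true), (1, true), (0, true), (1, false), (0, true), (1, false)]⟩),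
    (3, 5, ⟨4, false, 0, [(0, true), (1, true), (0, true), (1, false), (0, true), (1, false), (0, true), (1, false), (0, true), (1, true), (0, true), (1, true), (0, true), (1, false), (0, true), (1, true), (0, true), (1, true), (0, true), (1, true), (0, true), (1, true), (0, true), (1, true), (0, true), (1, false), (0, true), (1, true), (0, true), (1, true), (0, true), (1, true), (0, true), (1, false), (0, true), (1, false), (0, true), (1, true)]⟩),
    (3, 6, ⟨4, false, 0, [(0, true), (1, true), (0, true), (1, true), (0, true), (1, false), (0, true), (1, true), (0, true), (1, false), (0, true), (1, false), (0, true), (1, true), (0, true), (1, true), (0, true), (1, false), (0, true), (1, false), (0, true), (1, true), (0, true), (1, true), (0, true), (1, true), (0, true), (1, false), (0, true), (1, false), (0, true), (1, false), (0, true), (1, true), (0, true), (1, false), (0, true), (1, true), (0, true), (1, false), (0, true), (1, false), (0, true), (1, false), (0, true), (1, false), (0, true), (1, false)]⟩),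
    (3, 7, ⟨3, false, 0, [(1, false), (0, true), (1, true), (0, true), (1, false), (0, true), (1, false), (0, true), (1, false), (0, true), (1, true), (0, true), (1, false), (0, true), (1, true), (0, true), (1, true), (0, true), (1, false), (0, true), (1, false), (0, true), (1, false), (0, true), (1, true)]⟩),
    (3, 8, ⟨4, false, 0, [(0, true), (1, true), (0, true), (1, false), (0, true), (1, false), (0, true), (1, false), (0, true), (1, true), (0, true), (1, false), (0, true), (1, true), (0, true), (1, true), (0, true), (1, true), (0, true), (1, false), (0, true), (1, true), (0, true), (1, true), (0, true), (1, false), (0, true), (1, false), (0, true), (1, false), (0, true), (1, false), (0, true), (1, true), (0, true), (1, true), (0, true), (1, true), (0, true), (1, true), (0, true), (1, false), (0, true), (1, false), (0, true), (1, true), (0, true), (1, false), (0, true), (1, false), (0, true), (1, false), (0, true), (1, false), (0, true), (1, true), (0, true), (1, true), (0, true), (1, true), (0, true), (1, true), (0, true), (1, false), (0, true), (1, false), (0, true), (1, true), (0, true), (1, false), (0, true), (1, false), (0, true), (1, false), (0, true), (1, false), (0, true), (1, true), (0, true), (1, true), (0, true), (1, true), (0, true), (1, true), (0, true), (1, false),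 (0, true), (0, true), (1, true), (0, true), (1, false), (0, true), (1, false), (0, true), (1, false), (0, true), (1, true), (0, true), (1, false), (0, true), (1, true), (0, true), (1, true), (0, true), (1, true), (0, true), (1, false), (0, true), (0, true), (1, true), (0, true), (1, true), (0, true), (1, false), (0, true), (1, false), (0, true), (1, true)]⟩),
    (3, 9, ⟨4, false, 0, [(1, true), (0, true), (1, true), (0, true), (1, false), (0, true), (1, false), (0, true), (1, false), (0, true), (1, true), (0, true), (1, false), (0, true), (1, true), (0, true), (1, true), (0, true), (1, true), (0, true), (1, false), (0, true), (1, true), (0, true), (1, true), (0, true), (1, false), (0, true), (1, false), (0, true), (1, false), (0, true), (1, true), (0, true), (1, false), (0, true), (1, true), (0, true), (1, true), (0, true), (1, true), (0, true), (1, false), (0, true), (0, true), (1, true), (0, true), (1, false), (0, true), (1, false), (0, true), (1, false), (0, true), (1, false), (0, true), (1, true), (0, true), (1, true), (0, true), (1, true), (0, true), (1, true), (0, true), (1, false), (0, true), (1, false), (0, true), (1, true), (0, true), (1, false), (0, true), (1, false), (0, true), (1, false), (0, true), (1, false), (0, true), (1, true), (0, true), (1, true), (0, true), (1,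 true), (0, true), (1, true), (0, true), (1, false), (0, true), (0, true), (1, true), (0, true), (1, true), (0, true), (1, false), (0, true), (1, false), (0, true), (1, true)]⟩),
    (3, 10, ⟨4, false, 0, [(1, true), (0, true), (1, true), (0, true), (1, true), (0, true), (1, false), (0, true), (1, false), (0, true), (1, true), (0, true), (1, false), (0, true), (1, true), (0, true), (1, true), (0, true), (1, true), (0, true), (1, false), (0, true), (1, true), (0, true), (1, false), (0, true), (1, false), (0, true), (1, true), (0, true), (1, true), (0, true), (1, true), (0, true), (1, false), (0, true), (1, false), (0, true), (1, false), (0, true), (1, false), (0, true), (1, false), (0, true), (1, false), (0, true), (1, false), (0, true), (1, true), (0, true), (1, true)]⟩),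
    (3, 11, ⟨4, false, 0, [(0, true), (1, false), (0, true), (1, true), (0, true), (1, false), (0, true), (1, true), (0, true), (1, true), (0, true), (1, true), (0, true), (1, false), (0, true), (1, true), (0, true), (1, false), (0, true), (1, false), (0, true), (1, true), (1, true), (0, true), (1, true), (0, true), (1, true), (0, true), (1, false), (0, true), (1, true), (0, true), (1, false), (0, true), (1, true), (0, true), (1, true), (0, true), (1, false), (0, true), (1, false), (0, true), (1, true), (0, true), (1, true), (0, true), (1, false), (0, true), (1, false)]⟩),
    (3, 12, ⟨4, false, 0, [(0, true), (1, true), (0, true), (1, false), (0, true), (1, false), (0, true), (1, false), (0, true), (1, true), (0, true), (1, false), (0, true), (1, true), (0, true), (1, true), (0, true), (1, true), (0, true), (1, false), (0, true), (0, true), (1, true), (0, true), (1, false), (0, true), (1, false), (0, true), (1, false), (0, true), (1, false), (0, true), (1, true), (0, true), (1, true), (0, true), (1, true), (0, true), (1, true), (0, true), (1, false), (0, true), (0, true), (1, true), (0, true), (1, false), (0, true), (1, false), (0, true), (1, false), (0, true), (1, true), (0, true), (1, false), (0, true), (1, true), (0, true), (1, true), (0, true), (1, true), (0, true), (1, false),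 (0, true), (1, true), (0, true), (1, true), (0, true), (1, false), (0, true), (1, false), (0, true), (1, false), (0, true), (1, false), (0, true), (1, true), (0, true), (1, true), (0, true), (1, true), (0, true), (1, true), (0, true), (1, false), (0, true), (1, false), (0, true), (1, true), (0, true), (1, false), (0, true), (1, false), (0, true), (1, false), (0, true), (1, false), (0, true), (1, true), (0, true), (1, true), (0, true), (1, true), (0, true), (1, true), (0, true), (1, false), (0, true), (1, true), (0, true), (1, true), (0, true), (1, true), (0, true), (1, false), (0, true), (1, false), (0, true), (1, true)]⟩),
    (4, 5, ⟨4, false, 0, [(0, true), (1, true), (0, true), (1, false), (0, true), (1, false), (0, true), (1, false), (0, true), (1, false), (0, true), (1, true), (0, true), (1, true), (0, true), (1, true), (0, true), (1, true), (0, true), (1, false), (0, true), (1, false), (0, true), (1, true), (0, true), (1, false), (0, true), (1, false), (0, true), (1, false), (0, true), (1, false), (0, true), (1, true), (0, true), (1, true), (0, true), (1, true), (0, true), (1, true), (0, true), (1, false), (0, true), (0, true), (1, true), (0, true), (1, false), (0, true), (1, false), (0, true), (1, false), (0, true), (1, true), (0, true), (1, false), (0, true), (1, true),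 (0, true), (1, true), (0, true), (1, true), (0, true), (1, false), (0, true), (1, false), (0, true), (1, true), (0, true), (1, false), (0, true), (1, false), (0, true), (1, false), (0, true), (1, false), (0, true), (1, true), (0, true), (1, true), (0, true), (1, true), (0, true), (1, true), (0, true), (1, false), (0, true), (1, false), (0, true), (1, false), (0, true), (1, false), (0, true), (1, true), (0, true), (1, true), (0, true), (1, true), (0, true), (1, false), (0, true), (1, true), (0, true), (1, true), (0, true), (1, false), (0, true)]⟩),
    (4, 6, ⟨4, false, 0, [(1, false), (0, true), (1, true), (0, true), (1, false), (0, true), (1, false), (0, true), (1, false), (0, true), (1, false), (0, true), (1, false), (0, true), (1, false), (0, true), (1, false), (0, true), (1, true), (0, true), (1, true), (0, true), (1, true), (0, true), (1, true), (0, true), (1, false), (0, true), (1, false), (0, true), (1, true), (0, true), (1, true), (0, true), (1, false), (0, true), (1, false), (0, true), (1, false), (0, true), (1, false), (0, true), (1, true), (0, true), (1, false), (0, true), (1, false), (0, true), (1, true), (0, true), (1, false), (0, true)]⟩),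
    (4, 7, ⟨4, false, 0, [(0, true), (1, true), (0, true), (1, false), (0, true), (1, false), (0, true), (1, false), (0, true), (1, true), (0, true), (1, false), (0, true), (1, true), (0, true), (1, true), (0, true), (1, true), (0, true), (1, false), (0, true), (0, true), (1, true), (0, true), (1, false), (0, true), (1, false), (0, true), (1, false), (0, true), (1, false), (0, true), (1, true), (0, true), (1, true), (0, true), (1, true), (0, true), (1, true), (0, true), (1, false), (0, true), (1, true), (0, true), (1, true), (0, true), (1, false), (0, true), (1, false), (0, true), (1, false), (0, true), (1, true), (0, true), (1, false), (0, true), (1, true), (0, true), (1, true), (0, true), (1, true), (0, true), (1, false), (0, true), (1, true), (0, true), (1, false), (0, true), (1, false), (0, true), (1, true), (0, true), (1, true), (0, true), (1, true), (0, true), (1, false), (0, true), (1, true), (0, true), (1, true), (0, true), (1, false), (0, true)]⟩),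
    (4, 8, ⟨4, false, 0, [(0, true), (1, false), (0, true), (1, true), (0, true), (1, true), (0, true), (1, false), (0, true), (1, true), (0, true), (1, true), (0, true), (1, true), (0, true), (1, true), (0, true), (1, false), (0, true), (1, false), (0, true), (1, false), (0, true), (1, false), (0, true), (1, false), (0, true), (1, true), (0, true), (1, true), (0, true), (1, true), (0, true), (1, true), (0, true), (1, true), (0, true), (1, true), (0, true), (1, false), (0, true), (1, true), (0, true), (1, false), (0, true), (1, false), (0, true)]⟩),
    (4, 9, ⟨4, false, 0, [(0, true), (1, true), (0, true), (1, false), (0, true), (1, false), (0, true), (1, false), (0, true), (1, false), (0, true), (1, true), (0, true), (1, true), (0, true), (1, true), (0, true), (1, true), (0, true), (1, false), (0, true), (0, true), (1, true), (0, true), (1, false), (0, true), (1, false), (0, true), (1, false), (0, true), (1, true), (0, true), (1, false), (0, true), (1, true), (0, true), (1, true), (0, true), (1, true), (0, true), (1, false), (0, true), (1, false), (0, true), (1, true), (0, true), (1, false), (0, true), (1, false), (0, true), (1, false), (0, true), (1, true), (0, true), (1, false), (0, true), (1, true), (0, true), (1, true), (0, true), (1, true), (0, true), (1, false), (0, true),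 (0, true), (1, true), (0, true), (1, false), (0, true), (1, false), (0, true), (1, false), (0, true), (1, false), (0, true), (1, true), (0, true), (1, true), (0, true), (1, true), (0, true), (1, true), (0, true), (1, false), (0, true), (0, true), (1, true), (0, true), (1, false), (0, true), (1, false), (0, true), (1, false), (0, true), (1, true), (0, true), (1, false), (0, true), (1, true), (0, true), (1, true), (0, true), (1, true), (0, true), (1, false), (0, true), (1, false), (0, true), (1, false), (0, true), (1, false), (0, true), (1, true), (0, true), (1, true), (0, true), (1, true), (0, true), (1, false), (0, true), (1, true), (0, true), (1, true), (0, true), (1, false), (0, true)]⟩),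
    (4, 10, ⟨2, false, 0, [(1, true), (0, true), (1, true), (0, true), (1, false), (0, true), (1, false), (0, true), (1, false), (0, true), (1, false), (0, true), (1, true), (0, true), (1, true), (0, true), (1, true), (0, true), (1, true), (0, true), (1, false), (0, true), (1, true), (0, true), (1, false), (0, true), (1, false), (0, true), (1, true), (0, true), (1, true), (0, true), (1, true), (0, true), (1, false), (0, true), (1, true), (0, true), (1, true), (0, true), (1, false), (0, true)]⟩),
    (4, 11, ⟨4, false, 0, [(1, false), (0, true), (1, false), (0, true), (1, false), (0, true), (1, true), (0, true), (1, true), (0, true), (1, true), (0, true), (1, false), (0, true), (1, false), (0, true), (1, true), (0, true), (1, true), (0, true), (1, true), (0, true), (1, true), (0, true), (1, true), (1, true), (0, true), (1, true), (0, true), (1, true), (0, true), (1, true), (0, true), (1, false), (0, true), (1, true), (0, true), (1, true), (0, true), (1, true), (0, true), (1, true), (0, true), (1, true), (0, true), (1, false), (0, true), (1, false), (0, true), (1, true), (0, true), (1, false)]⟩),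
    (4, 12, ⟨4, false, 0, [(0, true), (1, true), (0, true), (1, false), (0, true), (1, false), (0, true), (1, false), (0, true), (1, false), (0, true), (1, true), (0, true), (1, true), (0, true), (1, true), (0, true), (1, true), (0, true), (1, false), (0, true), (1, false), (0, true), (1, true), (0, true), (1, false), (0, true), (1, false), (0, true), (1, false), (0, true), (1, false), (0, true), (1, true), (0, true), (1, true), (0, true), (1, true), (0, true), (1, true), (0, true), (1, false), (0, true), (1, true), (0, true), (1, true), (0, true), (1, false), (0, true), (1, false), (0, true), (1, false), (0, true), (1, true), (0, true), (1, false), (0, true), (1, true), (0, true), (1, true), (0, true), (1, true), (0, true), (1, false), (0, true), (0, true), (1, true), (0, true), (1, false), (0, true), (1, false), (0, true), (1, false), (0, true), (1, false), (0, true), (1, true), (0, true), (1, true), (0, true), (1, true), (0, true), (1, true), (0, true), (1, false), (0, true), (1, true), (0, true), (1, false), (0, true), (1, false), (0, true), (1, true), (0, true), (1, true), (0, true), (1, true), (0, true), (1, false), (0, true), (1, true), (0, true), (1, true), (0, true), (1, false), (0, true)]⟩),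
    (5, 6, ⟨2, false, 0, [(0, true), (1, true), (0, true), (1, false), (0, true), (1, false), (0, true), (1, false), (0, true), (1, true), (0, true), (1, false), (0, true), (1, true), (0, true), (1, true), (0, true), (1, true), (0, true), (1, false), (0, true), (1, false), (0, true), (1, true), (0, true), (1, false), (0, true), (1, false), (0, true), (1, false), (0, true), (1, false), (0, true), (1, true), (0, true), (1, false), (0, true), (1, true), (0, true), (1, false), (0, true), (1, true), (0, true), (1, false), (0, true), (1, false)]⟩),
    (5, 7, ⟨2, false, 0, [(0, true), (1, true), (0, true), (1, true), (0, true), (1, true), (0, true), (1, true), (0, true), (1, false), (0, true), (1, true), (0, true), (1, true), (0, true), (1, false), (0, true), (1, true), (0, true), (1, true), (0, true), (1, true), (0, true), (1, false), (0, true), (1, false)]⟩),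
    (5, 8, ⟨4, false, 0, [(1, false), (0, true), (1, true), (0, true), (1, false), (0, true), (1, false), (0, true), (1, false), (0, true), (1, false), (0, true), (1, true), (0, true), (1, true), (0, true), (1, true), (0, true), (1, true), (0, true), (1, false), (0, true), (1, false), (0, true), (1, true), (0, true), (1, false), (0, true), (1, false), (0, true), (1, false), (0, true), (1, true), (0, true), (1, true), (0, true), (1, true), (0, true), (1, false), (0, true), (1, true), (0, true), (1, false), (0, true), (1, true), (0, true), (1, false), (0, true), (1, false)]⟩),
    (5, 9, ⟨4, false, 0, [(1, true), (0, true), (1, true), (0, true), (1, false), (0, true), (1, true), (0, true), (1, true), (0, true), (1, false), (0, true), (1, false), (0, true), (1, false), (0, true), (1, false), (0, true), (1, false), (0, true), (1, true), (0, true), (1, false), (0, true), (1, false), (0, true), (1, false), (0, true), (1, false), (0, true), (1, true), (0, true), (1, false), (0, true), (1, true), (0, true), (1, false), (0, true), (1, false), (0, true), (1, false), (0, true), (1, false)]⟩),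
    (5, 10, ⟨4, false, 0, [(1, true), (0, true), (1, true), (0, true), (1, false), (0, true), (1, false), (0, true), (1, false), (0, true), (1, false), (0, true), (1, true), (0, true), (1, true), (0, true), (1, true), (0, true), (1, true), (0, true), (1, false), (0, true), (1, false), (0, true), (1, true), (0, true), (1, false), (0, true), (1, false), (0, true), (1, false), (0, true), (1, false), (0, true), (1, true), (0, true), (1, true), (0, true), (1, true), (0, true), (1, true), (0, true), (1, false), (0, true), (0, true), (1, true), (0, true), (1, false), (0, true), (1, false), (0, true), (1, false), (0, true), (1, true), (0, true), (1, false), (0, true), (1, true), (0, true), (1, true), (0, true), (1, true), (0, true), (1, false), (0, true), (1, false), (0, true), (1, true), (0, true), (1, false), (0, true), (1, false), (0, true), (1, false), (0, true), (1, false), (0, true), (1, true), (0, true), (1, true), (0, true), (1, true), (0, true), (1, true), (0, true), (1, false), (0, true), (1, true), (0, true), (1, true), (0, true), (1, false), (0, true), (1, false), (0, true), (1, false), (0, true), (1, true), (0, true), (1, false), (0, true), (1, true), (0, true), (1, true), (0, true), (1, true), (0, true), (1, false), (0, true), (0, true), (1, true), (0, true), (1, false), (0,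 true), (1, false), (0, true), (1, true), (0, true), (1, true), (0, true), (1, false), (0, true), (1, true), (0, true), (1, false), (0, true), (1, false)]⟩),
    (5, 11, ⟨4, false, 0, [(0, true), (1, true), (0, true), (1, false), (0, true), (1, false), (0, true), (1, false), (0, true), (1, true), (0, true), (1, false), (0, true), (1, true), (0, true), (1, true), (0, true), (1, true), (0, true), (1, false), (0, true), (1, false), (0, true), (1, true), (0, true), (1, false), (0, true), (1, false), (0, true), (1, false), (0, true), (1, false), (0, true), (1, true), (0, true), (1, true), (0, true), (1, true), (0, true), (1, true), (0, true), (1, false), (0, true), (0, true), (1, true), (0, true), (1, false), (0, true), (1, false), (0, true), (1, false), (0, true), (1, true), (0, true), (1, false), (0, true), (1, true), (0, true), (1, true), (0, true), (1, true), (0, true), (1, false), (0, true), (1, false), (0, true), (1, true), (0, true), (1, false), (0, true), (1, false), (0, true), (1, false), (0, true), (1, false), (0, true), (1, true), (0, true), (1, true), (0, true), (1, true), (0, true), (1, true), (0, true), (1, false), (0, true), (1, false), (0, true), (1, true), (0, true), (1, false), (0, true), (1, false), (0, true), (1, true), (0, true), (1, true), (0, true), (1, false), (0,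 true), (1, true), (0, true), (1, false), (0, true), (1, false)]⟩),
    (5, 12, ⟨2, false, 0, [(0, true), (1, false), (0, true), (1, false), (0, true), (1, true), (0, true), (1, false), (0, true), (1, false), (0, true), (1, false), (0, true), (1, false), (0, true), (1, false), (0, true), (1, true), (0, true), (1, true), (0, true), (1, false), (0, true), (1, true), (0, true), (1, true), (0, true), (1, true), (0, true), (1, false), (0, true), (1, true), (0, true), (1, false), (0, true), (1, true), (0, true), (1, true), (0, true), (1, true), (0, true), (1, false), (0, true), (1, true), (0, true), (1, true), (0, true), (1, true), (0, true), (1, true)]⟩),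
    (6, 7, ⟨4, false, 0, [(0, true), (1, true), (0, true), (1, false), (0, true), (1, false), (0, true), (1, false), (0, true), (1, true), (0, true), (1, true), (0, true), (1, true), (0, true), (1, true), (0, true), (1, true), (0, true), (1, true), (0, true), (1, true), (0, true), (1, true), (0, true), (1, true), (0, true), (1, false), (0, true), (1, true), (0, true), (1, true), (0, true), (1, false), (0, true), (1, true), (0, true), (1, false), (0, true), (1, true), (0, true), (1, true), (0, true), (1, true), (0, true)]⟩),
    (6, 8, ⟨4, false, 0, [(0, true), (1, false), (0, true), (1, false), (0, true), (1, true), (0, true), (1, false), (0, true), (1, true), (0, true), (1, true), (0, true), (1, true), (0, true), (1, true), (0, true), (1, false), (0, true), (1, false), (0, true), (1, false), (0, true), (1, true), (0, true), (1, true), (0, true), (1, false), (0, true), (1, true), (0, true), (1, false), (0, true), (1, true), (0, true), (1, true), (0, true), (1, true), (0, true), (1, false), (0, true), (1, false), (0, true), (1, false), (0, true), (1, false), (0, true), (1, true), (0, true), (1, true), (0, true)]⟩),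
    (6, 9, ⟨4, false, 0, [(0, true), (1, true), (0, true), (1, true), (0, true), (1, false), (0, true), (1, true), (0, true), (1, true), (0, true), (1, true), (0, true), (1, false), (0, true), (1, true), (0, true), (1, true), (0, true), (1, false), (0, true), (1, false), (0, true), (1, true), (0, true), (1, false), (0, true), (1, false), (0, true), (1, true), (0, true), (1, true), (0, true), (1, true), (0, true), (1, false), (0, true), (1, false), (0, true), (1, false), (0, true), (1, false), (0, true), (1, false), (0, true), (1, true), (0, true), (1, true)]⟩),
    (6, 10, ⟨4, false, 0, [(0, true), (1, true), (0, true), (1, false), (0, true), (1, true), (0, true), (1, true), (0, true), (1, false), (0, true), (1, true), (0, true), (1, true), (0, true), (1, true), (0, true), (1, true), (0, true), (1, false), (0, true), (1, true), (0, true), (1, true), (0, true), (1, true), (0, true), (1, false), (0, true), (1, true), (0, true), (1, true), (0, true), (1, true), (0, true), (1, true), (0, true), (1, true), (0, true), (1, true), (0, true), (1, true), (0, true), (1, true), (0, true), (1, false), (0, true), (1, true), (0, true), (1, true), (0, true), (1, true), (0, true)]⟩),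
    (6, 11, ⟨4, false, 0, [(0, true), (1, false), (0, true), (1, true), (0, true), (1, false), (0, true), (1, true), (0, true), (1, false), (0, true), (1, true), (0, true), (1, false), (0, true), (1, false), (0, true), (1, false), (0, true), (1, false), (0, true), (1, false), (0, true), (1, true), (0, true), (1, false), (0, true), (1, true), (0, true), (1, false), (0, true), (1, false), (0, true), (1, false), (0, true), (1, false), (0, true), (1, false), (0, true), (1, false), (0, true), (1, false), (0, true), (1, false), (0, true), (1, true), (0, true), (1, true), (0, true), (1, false)]⟩),
    (6, 12, ⟨3, false, 0, [(1, false), (0, true), (1, true), (0, true), (1, false), (0, true), (1, false), (0, true), (1, false), (0, true), (1, false), (0, true), (1, true), (0, true), (1, true), (0, true), (1, true), (0, true), (1, true), (0, true), (1, false), (0, true), (1, false), (0, true), (1, true), (0, true), (1, false), (0, true), (1, false), (0, true), (1, false), (0, true), (1, false), (0, true), (1, true), (0, true), (1, true), (0, true), (1, true), (0, true), (1, true), (0, true), (1, false), (0, true), (0, true), (1, false), (0, true), (1, true), (0, true), (1, true), (0, true), (1, false), (0, true), (1, true), (0, true), (1, true), (0, true), (1, false), (0, true), (1, false),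 (0, true), (1, true), (0, true), (1, true), (0, true)]⟩),
    (7, 8, ⟨3, false, 0, [(0, true), (1, true), (0, true), (1, false), (0, true), (1, false), (0, true), (1, false), (0, true), (1, true), (0, true), (1, true), (0, true), (1, false), (0, true), (1, true), (1, true), (0, true), (1, true), (0, true), (1, true), (0, true), (1, true), (0, true), (1, false), (0, true), (1, false), (0, true), (1, false), (0, true), (1, false), (0, true), (1, true), (0, true), (1, true), (0, true), (1, false), (0, true), (1, false), (0, true), (1, false), (0, true), (1, false)]⟩),
    (7, 9, ⟨4, false, 0, [(0, true), (1, true), (0, true), (1, false), (0, true), (1, false), (0, true), (1, false), (0, true), (1, false), (0, true), (1, true), (0, true), (1, true), (0, true), (1, true), (0, true), (1, true), (0, true), (1, false), (0, true), (0, true), (1, true), (0, true), (1, false), (0, true), (1, false), (0, true), (1, false), (0, true), (1, true), (0, true), (1, false), (0, true), (1, true), (0, true), (1, true), (0, true), (1, true), (0, true), (1, false), (0, true), (1, false), (0, true), (1, true), (0, true), (1, false), (0, true), (1, false), (0, true), (1, false), (0, true), (1, false), (0, true), (1, true), (0, true), (1, true), (0, true), (1, true), (0, true), (1, true), (0, true), (1, false),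 (0, true), (0, true), (1, false), (0, true), (1, false), (0, true), (1, true), (0, true), (1, true), (0, true), (1, false), (0, true), (1, false), (0, true), (1, false), (0, true), (1, false)]⟩),
    (7, 10, ⟨3, false, 0, [(0, true), (1, false), (0, true), (1, true), (0, true), (1, true), (0, true), (1, true), (0, true), (1, true), (0, true), (1, false), (0, true), (1, true), (0, true), (1, false), (0, true), (1, true), (0, true), (1, true), (0, true), (1, false), (0, true), (1, false), (0, true), (1, true), (0, true), (1, true), (0, true), (1, true), (0, true), (1, true), (0, true), (1, false), (0, true), (1, true), (0, true), (1, true), (0, true), (1, false), (0, true), (1, false), (0, true), (1, true), (0, true), (1, true), (0, true)]⟩),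
    (7, 11, ⟨3, false, 0, [(1, false), (0, true), (1, true), (0, true), (1, false), (0, true), (1, false), (0, true), (1, false), (0, true), (1, false), (0, true), (1, true), (0, true), (1, true), (0, true), (1, true), (0, true), (1, true), (0, true), (1, false), (0, true), (1, false), (0, true), (1, false), (0, true), (1, false), (0, true), (1, true), (0, true), (1, true), (0, true), (1, false), (0, true), (1, false), (0, true), (1, false), (0, true), (1, false)]⟩),
    (7, 12, ⟨4, false, 0, [(0, true), (1, true), (0, true), (1, false), (0, true), (1, false), (0, true), (1, false), (0, true), (1, false), (0, true), (1, true), (0, true), (1, true), (0, true), (1, true), (0, true), (1, true), (0, true), (1, false), (0, true), (1, true), (0, true), (1, true), (0, true), (1, false), (0, true), (1, false), (0, true), (1, false), (0, true), (1, false), (0, true), (1, true), (0, true), (1, true), (0, true), (1, true), (0, true), (1, true), (0, true), (1, false), (0, true), (1, true), (0, true), (1, true), (0, true), (1, false), (0, true), (1, false), (0, true), (1, false), (0, true), (1, false), (0, true), (1, true), (0, true), (1, true), (0, true), (1, true), (0, true), (1, true), (0, true), (1, false), (0, true), (0, true), (1, true), (0, true), (1, false), (0, true), (1, false), (0,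 true), (1, false), (0, true), (1, true), (0, true), (1, false), (0, true), (1, true), (0, true), (1, true), (0, true), (1, true), (0, true), (1, false), (0, true), (1, true), (0, true), (1, false), (0, true), (1, false), (0, true), (1, true), (0, true), (1, true), (0, true), (1, false), (0, true), (1, false), (0, true), (1, false), (0, true), (1, false)]⟩),
    (8, 9, ⟨3, false, 0, [(0, true), (1, true), (0, true), (1, false), (0, true), (1, false), (0, true), (1, false), (0, true), (1, false), (0, true), (1, true), (0, true), (1, true), (0, true), (1, true), (0, true), (1, true), (0, true), (1, false), (0, true), (1, true), (0, true), (1, true), (0, true), (1, false), (0, true), (1, false), (0, true), (1, false), (0, true), (1, true), (0, true), (1, false), (0, true), (1, true), (0, true), (1, true), (0, true), (1, true), (0, true), (1, false), (0, true), (1, true), (0, true), (1, true), (0, true), (1, false), (0, true), (1, false), (0, true), (1, false), (0, true), (1, false), (0, true), (1, true), (0, true), (1, true), (0, true), (1, true), (0, true), (1, true), (0, true), (1, false), (0, true), (0, true), (1, true), (0, true), (1, false), (0, true), (1, true), (0, true), (1, true), (0, true), (1, true), (0, true), (1, true), (0, true), (1, true), (0, true), (1, true), (0, true),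 (1, true), (0, true), (1, false), (0, true), (1, false)]⟩),
    (8, 10, ⟨3, false, 0, [(0, true), (1, false), (0, true), (1, false), (0, true), (1, true), (0, true), (1, true), (0, true), (1, true), (0, true), (1, false), (0, true), (1, false), (0, true), (1, false), (0, true), (1, false), (0, true), (1, false), (0, true), (1, false), (0, true), (1, false), (0, true), (1, true), (0, true), (1, true), (0, true), (1, true), (0, true), (1, false), (0, true), (1, false), (0, true), (1, true), (0, true), (1, true), (0, true), (1, false), (0, true), (1, false), (0, true), (1, true), (0, true), (1, false), (0, true), (1, true), (0, true), (1, false), (0, true), (1, true)]⟩),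
    (8, 11, ⟨4, false, 0, [(0, true), (1, true), (0, true), (1, true), (0, true), (1, true), (0, true), (1, true), (0, true), (1, false), (0, true), (1, true), (0, true), (1, false), (0, true), (1, false), (0, true), (1, false), (0, true), (1, false), (0, true), (1, false), (0, true), (1, true), (0, true), (1, true), (0, true), (1, true), (0, true), (1, true), (0, true), (1, false), (0, true), (1, false), (0, true), (1, false), (0, true), (1, true), (0, true), (1, true), (0, true), (1, true), (0, true), (1, true), (0, true), (1, false), (0, true), (1, false), (0, true), (1, false)]⟩),
    (8, 12, ⟨4, false, 0, [(0, true), (1, true), (0, true), (1, false), (0, true), (1, false), (0, true), (1, false), (0, true), (1, false), (0, true), (1, true), (0, true), (1, true), (0, true), (1, true), (0, true), (1, true), (0, true), (1, false), (0, true), (1, true), (0, true), (1, true), (0, true), (1, false), (0, true), (1, false), (0, true), (1, false), (0, true), (1, true), (0, true), (1, false), (0, true), (1, true), (0, true), (1, true), (0, true), (1, true), (0, true), (1, false), (0, true), (1, true), (0, true), (1, true), (0, true), (1, false), (0, true), (1, false), (0, true), (1, false), (0, true), (1, false), (0, true), (1, true), (0, true), (1, true), (0, true), (1, true), (0, true),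 (1, true), (0, true), (1, false), (0, true), (1, false), (0, true), (1, true), (0, true), (1, false), (0, true), (1, false), (0, true), (1, false), (0, true), (1, true), (0, true), (1, false), (0, true), (1, true), (0, true), (1, true), (0, true), (1, true), (0, true), (1, false), (0, true), (1, false), (0, true), (1, true), (0, true), (1, false), (0, true), (1, true), (0, true), (1, true), (0, true), (1, true), (0, true), (1, true), (0, true), (1, true), (0, true), (1, true), (0, true), (1, true), (0, true), (1, false), (0, true), (1, false)]⟩),
    (9, 10, ⟨4, false, 0, [(0, true), (1, true), (0, true), (1, false), (0, true), (1, false), (0, true), (1, false), (0, true), (1, true), (0, true), (1, false), (0, true), (1, true), (0, true), (1, true), (0, true), (1, true), (0, true), (1, false), (0, true), (1, true), (0, true), (1, true), (0, true), (1, false), (0, true), (1, false), (0, true), (1, false), (0, true), (1, false), (0, true), (1, true), (0, true), (1, true), (0, true), (1, true), (0, true), (1, true), (0, true), (1, false), (0, true), (1, true), (0, true), (1, true), (0, true), (1, false), (0, true), (1, false), (0, true), (1, false), (0, true), (1, true), (0, true), (1, false), (0, true), (1, true), (0, true), (1, true), (0, true), (1, true), (0, true), (1, false), (0,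 true), (0, true), (1, true), (0, true), (1, false), (0, true), (1, false), (0, true), (1, false), (0, true), (1, false), (0, true), (1, true), (0, true), (1, true), (0, true), (1, true), (0, true), (1, true), (0, true), (1, false), (0, true), (1, false), (0, true), (1, true), (0, true), (1, true), (0, true), (1, false), (0, true), (1, true), (0, true), (1, false), (0, true), (1, true), (0, true), (1, false), (0, true), (1, false), (0, true), (1, true)]⟩),
    (9, 11, ⟨4, false, 0, [(0, true), (1, true), (0, true), (1, false), (0, true), (1, false), (0, true), (1, false), (0, true), (1, true), (0, true), (1, false), (0, true), (1, true), (0, true), (1, true), (0, true), (1, true), (0, true), (1, false), (0, true), (0, true), (1, true), (0, true), (1, false), (0, true), (1, false), (0, true), (1, false), (0, true), (1, false), (0, true), (1, true), (0, true), (1, true), (0, true), (1, true), (0, true), (1, true), (0, true), (1, false), (0, true), (1, true), (0, true), (1, true), (0, true), (1, false), (0, true), (1, false), (0, true), (1, false), (0, true), (1, false), (0, true), (1, true), (0, true), (1, true), (0, true), (1, true), (0, true), (1, true), (0, true), (1, false), (0, true), (0, true), (1, true), (0, true), (1, false), (0, true), (1, false), (0, true), (1, false), (0,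 true), (1, true), (0, true), (1, false), (0, true), (1, true), (0, true), (1, true), (0, true), (1, true), (0, true), (1, false), (0, true), (0, true), (1, true), (0, true), (1, false), (0, true), (1, false), (0, true), (1, false), (0, true), (1, false), (0, true), (1, true), (0, true), (1, true), (0, true), (1, true), (0, true), (1, true), (0, true), (1, false), (0, true), (0, true), (1, true), (0, true), (1, true), (0, true), (1, false), (0, true), (1, true), (0, true), (1, false), (0, true), (1, true), (0, true), (1, false), (0, true), (1, false), (0, true), (1, true)]⟩),
    (9, 12, ⟨4, false, 0, [(1, true), (0, true), (1, true), (0, true), (1, false), (0, true), (1, false), (0, true), (1, true), (0, true), (1, true), (0, true), (1, false), (0, true), (1, true), (0, true), (1, true), (0, true), (1, true), (0, true), (1, false), (0, true), (1, false), (0, true), (1, false), (0, true), (1, false), (0, true), (1, true), (0, true), (1, false), (0, true), (1, false), (0, true), (1, true), (0, true), (1, false), (0, true), (1, true), (0, true), (1, true), (0, true), (1, false), (0, true), (1, true), (0, true), (1, true), (0, true), (1, true), (0, true), (1, false)]⟩),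
    (10, 11, ⟨4, false, 0, [(0, true), (1, true), (0, true), (1, false), (0, true), (1, false), (0, true), (1, false), (0, true), (1, true), (0, true), (1, false), (0, true), (1, true), (0, true), (1, true), (0, true), (1, true), (0, true), (1, false), (0, true), (0, true), (1, true), (0, true), (1, false), (0, true), (1, false), (0, true), (1, false), (0, true), (1, false), (0, true), (1, true), (0, true), (1, true), (0, true), (1, true), (0, true), (1, true), (0, true), (1, false), (0, true), (1, true), (0, true), (1, true), (0, true), (1, false), (0, true), (1, false), (0, true), (1, false), (0, true), (1, true), (0, true), (1, false), (0, true), (1, true), (0, true), (1, true), (0, true), (1, true), (0, true), (1, false), (0, true), (0, true), (1, true), (0, true), (1, false), (0, true), (1, false), (0, true), (1, false), (0, true), (1, false), (0, true), (1, true), (0, true), (1, true), (0, true), (1, true), (0, true), (1, true), (0, true), (1, false), (0, true), (1, true), (0, true), (1, true), (0, true), (1, false), (0, true), (1, false), (0, true), (1, false), (0, true), (1, false), (0, true), (1, true), (0, true), (1, true), (0, true), (1, true), (0, true), (1, true), (0, true), (1, false), (0, true), (1, true), (0, true), (1, true), (0, true), (1, false), (0, true), (1,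 false), (0, true), (1, false), (0, true), (1, false), (0, true), (1, true), (0, true), (1, true), (0, true), (1, true), (0, true), (1, true), (0, true), (1, false), (0, true), (0, true), (1, false), (0, true), (1, true), (0, true), (1, false), (0, true), (1, true), (0, true), (1, false), (0, true), (1, false), (0, true), (1, false), (0, true), (1, false), (0, true)]⟩),
    (10, 12, ⟨4, false, 0, [(1, true), (0, true), (1, false), (0, true), (1, true), (0, true), (1, false), (0, true), (1, true), (0, true), (1, false), (0, true), (1, false), (0, true), (1, false), (0, true), (1, false), (0, true), (1, false), (0, true), (1, false), (0, true), (1, false), (0, true), (1, true), (0, true), (1, false), (0, true), (1, false), (0, true), (1, false), (0, true), (1, true), (0, true), (1, false), (0, true), (1, true), (0, true), (1, false), (0, true), (1, false), (0, true), (1, false)]⟩),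
    (11, 12, ⟨4, false, 0, [(1, false), (0, true), (1, true), (0, true), (1, false), (0, true), (1, false), (0, true), (1, false), (0, true), (1, false), (0, true), (1, true), (0, true), (1, true), (0, true), (1, true), (0, true), (1, true), (0, true), (1, false), (0, true), (1, true), (0, true), (1, true), (0, true), (1, false), (0, true), (1, false), (0, true), (1, false), (0, true), (1, true), (0, true), (1, false), (0, true), (1, true), (0, true), (1, true), (0, true), (1, true), (0, true), (1, false), (0, true), (0, true), (1, true), (0, true), (1, false), (0, true), (1, false), (0, true), (1, false), (0, true), (1, false), (0, true), (1, true), (0, true), (1, true), (0, true), (1, true), (0, true), (1, true), (0, true), (1, false), (0, true), (1, false), (0, true), (1, true), (0, true), (1, false), (0, true), (1, true), (0, true), (1, false), (0, true), (1, true), (0, true), (1, false), (0, true), (1, false)]⟩)]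

/-- The seeds of the basis vectors, as bit masks. -/
def cloBasis : List Nat := [0x380, 0x4c8, 0x566, 0x38c, 0x60d, 0x19, 0x70a, 0x5b2, 0x5d5, 0x3c5, 0x6b0]

/-- The conjugates of the seeds by the inverses of the two generators. -/
def cloImg : List (List Nat) := [[174, 133, 187, 204, 202, 141, 177, 203, 200, 206, 207, 11, 201], [0, 47, 86, 83, 89, 25, 44, 194, 197, 193, 10, 13, 95]]

/-- The point of the element itself. -/
def cloU : Nat := 0

end Cfsg.Agent.J4DC
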