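import Cfsg.Agent.J4DC.CommPair
import Cfsg.Agent.J4DC.BasisData
import Cfsg.Agent.J4Aff.Lin

/-!
# The checks for the map of the eleven-dimensional space
-/

set_option autoImplicit false
set_option maxRecDepth 100000

namespace Cfsg.Agent.J4DC

open Cfsg Cfsg.Agent.Compute Cfsg.Agent.CosetCert Cfsg.Agent.J4M24

/-- The word of a point. -/
def cw (z : Nat) : Word := cloWord.getD z []

/-- The mask of a point. -/
def cm (z : Nat) : Nat := cloMask.getD z 0

/-- The masks of the products known to be trivial. -/
def relMask (x : List Nat × Hint) : Nat := (x.1.map cm).foldr Nat.xor 0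

/-- A mask trivial by the relations. -/
noncomputable def trivB (m : Nat) : Bool :=
  Nat.beq m 0 || Nat.beq m (relMask (cloRel.getD 0 ([], ⟨0, false, 0, []⟩))) ||
    Nat.beq m (relMask (cloRel.getD 1 ([], ⟨0, false, 0, []⟩))) ||
    Nat.beq m (Nat.xor (relMask (cloRel.getD 0 ([], ⟨0, false, 0, []⟩)))
      (relMask (cloRel.getD 1 ([], ⟨0, false, 0, []⟩))))

theorem comm_ok : (cloComm.all fun x => hintB sextetChain uPats
    ([cw x.1, cw x.2.1, cw x.1, cw x.2.1].flatMap rconj) x.2.2) = true := by
  decide +kernel

theorem comm_cover : ((List.range 13).all fun i => (List.range 13).all fun j =>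
    Nat.ble j i || cloComm.any fun x => Nat.beq x.1 i && Nat.beq x.2.1 j) = true := by
  decide +kernel

theorem seed_ok : ((List.range 13).all fun i => Nat.beq (cm i) (2 ^ i)) = true := by
  decide +kernel

theorem step_ok : ((List.range cloStep.length).all fun i =>
    let x := cloStep.getD i (0, 0, ⟨0, false, 0, []⟩)
    Nat.blt x.1 (13 + i) && Nat.blt x.2.1 (13 + i) &&
      Nat.beq (cm (13 + i)) (Nat.xor (cm x.1) (cm x.2.1)) &&
      hintB sextetChain uPats ([cw x.1, cw x.2.1, cw (13 + i)].flatMap rconj) x.2.2) = true := by
  decide +kernel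

theorem word_len : cloWord.length = 13 + cloStep.length := by decide +kernel

theorem mask_lt : (cloMask.all fun m => Nat.blt m 8192) = true := by decide +kernel

theorem rel_ok : (cloRel.all fun x => x.1.all (fun z => Nat.blt z cloWord.length) &&
    hintB sextetChain uPats ((x.1.map cw).flatMap rconj) x.2) = true := by
  decide +kernel

theorem rel_len : cloRel.length = 2 := by decide +kernel

theorem u_ok : (Nat.blt cloU cloWord.length && sameB sextetChain (cw cloU) [] &&
    trivB (Nat.xor (J4Aff.xorSel (fun k => cloBasis.getD k 0) 11 1135) (cm cloU))) = true := by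
  decide +kernel

theorem basis_lt : (cloBasis.all fun m => Nat.blt m 8192) = true := by decide +kernel

theorem img_ok : ((List.range 2).all fun b => (List.range 13).all fun j =>
    Nat.blt ((cloImg.getD b []).getD j 0) cloWord.length &&
      sameB sextetChain (cw ((cloImg.getD b []).getD j 0))
        (cw j ++ [(Fin.ofNat 2 b, false)])) = true := by
  decide +kernel

theorem equiv_ok : ((List.range 2).all fun b => (List.range 11).all fun k =>
    trivB (Nat.xor
      (J4Aff.xorSel (fun i => cloBasis.getD i 0) 11
        (DCoset.J4.tab.act (J4Aff.ivL b) (2 ^ k)))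
      (J4Aff.xorSel (fun j => cm ((cloImg.getD b []).getD j 0)) 13 (cloBasis.getD k 0)))) = true := by
  decide +kernel

end Cfsg.Agent.J4DC
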