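import Cfsg.Agent.J4DC.Line
import Cfsg.Agent.J4DC.OctData
import Cfsg.Agent.CosetCert.J4OctadComm.Main

/-!
# Elements of two sextets commute: the orbits of lengths 90 and 240

Two sextets refining one trio lie on a line with a third; the sextets of one octad give the next
orbit.
-/

set_option autoImplicit false
set_option maxRecDepth 100000

namespace Cfsg.Agent.J4DC

open Cfsg Cfsg.Agent.Compute Cfsg.Agent.CosetCert Cfsg.Agent.J4M24

local notation "J" => Cfsg.Spor.J4

/-- The known relators before commutation. -/
def uPats0 : List Raw := [[none, none], lineRaw]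

theorem nn_one : evR nucU [none, none] = 1 := by simp [evR, letR, nucU_sq]

theorem uPats0_one : ∀ p ∈ uPats0, evR uSym.c p = 1 := by
  intro p hp
  simp only [uPats0, List.mem_cons, List.not_mem_nil, or_false] at hp
  rcases hp with rfl | rfl
  · exact nn_one
  · exact lineRaw_one

/-- Two sextets refining one trio: their product squared. -/
def comm90 : Raw := [c90Words.getD 0 [], c90Words.getD 1 [], c90Words.getD 0 [],
  c90Words.getD 1 []].flatMap rconj

theorem evR_rconj_words (c : J) : ∀ l : List Word,
    evR c (l.flatMap rconj) = (l.map (conjW c)).prod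
  | [] => rfl
  | a :: l => by
    rw [List.flatMap_cons, evR_append, evR_rconj, evR_rconj_words c l, List.map_cons,
      List.prod_cons]

theorem c90_check : hintB sextetChain uPats0 (c90Words.flatMap rconj) c90Hint = true := by
  decide +kernel

theorem c90_len : c90Words.length = 3 := rfl

theorem comm90_one : evR nucU comm90 = 1 := by
  obtain ⟨a, b, c, h⟩ := List.length_eq_three.1 c90_len
  have h1 : evR uSym.c (c90Words.flatMap rconj) = 1 := evR_eq_one uSym uPats0_one c90_check
  rw [uSym_c, evR_rconj_words, h] at h1
  rw [comm90, evR_rconj_words, h]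
  simp only [List.map_cons, List.map_nil, List.prod_cons, List.prod_nil, mul_one,
    List.getD_cons_zero, List.getD_cons_succ] at h1 ⊢
  have hc : conjW nucU c * conjW nucU c = 1 := Pts.conjW_sq uSym c
  rw [← mul_assoc] at h1
  have e := eq_inv_of_mul_eq_one_left h1
  rw [inv_eq_of_mul_eq_one_right hc] at e
  rw [← mul_assoc (conjW nucU a), e, hc]

theorem oct_steps : octPts.stepsB sextetChain uPats0 = true := by decide +kernel

theorem oct_rels : Pts.relsB octPts sextetChain uPats0 (J4OctadComm.relWords.map Pts.toNat)
    octPtsRel = true := by decide +kernel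

/-- Two sextets meeting in an octad: their product squared. -/
def comm240 : Raw := octPts.raw ([0, 1, 0, 1].map fun j => octPts.seed.getD j 0)

theorem comm240_one : evR nucU comm240 = 1 := by
  have hs : ∀ z, z < octPts.word.length →
      octPts.sv uSym (octPts.spell.getD z []) = octPts.pt uSym z :=
    Pts.sv_spell uPats0_one oct_steps
  have h : FreeGroup.lift (fun j : Fin 6 => octPts.pt uSym (octPts.seed.getD j.val 0))
      (FreeGroup.mk [(0, true), (1, true), (0, true), (1, true)]) = 1 := by
    refine J4OctadComm.holds _ (fun r hr => ?_) _ (List.mem_singleton_self _)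
    rw [Pts.lift_toNat]
    exact Pts.sv_rels uPats0_one hs _ _ oct_rels _ (List.mem_map_of_mem hr)
  rw [Pts.lift_toNat] at h
  rw [comm240, ← uSym_c, Pts.evR_raw, List.map_map]
  exact h

end Cfsg.Agent.J4DC
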