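import Cfsg.Agent.J4DC.CommOct
import Cfsg.Agent.J4DC.PairData
import Cfsg.Agent.CosetCert.J4PairComm.Main

/-!
# Elements of two sextets commute: the orbit of length 1440
-/

set_option autoImplicit false
set_option maxRecDepth 100000

namespace Cfsg.Agent.J4DC

open Cfsg Cfsg.Agent.Compute Cfsg.Agent.CosetCert Cfsg.Agent.J4M24

/-- The known relators with the two short orbits of commuting pairs. -/
def uPats1 : List Raw := [[none, none], lineRaw, comm90, comm240]

theorem uPats1_one : ∀ p ∈ uPats1, evR uSym.c p = 1 := by
  intro p hp
  simp only [uPats1, List.mem_cons, List.not_mem_nil, or_false] at hp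
  rcases hp with rfl | rfl | rfl | rfl
  · exact nn_one
  · exact lineRaw_one
  · exact comm90_one
  · exact comm240_one

theorem pair_steps : pairPts.stepsB sextetChain uPats1 = true := by decide +kernel

theorem pair_rels : Pts.relsB pairPts sextetChain uPats1 (J4PairComm.relWords.map Pts.toNat)
    pairPtsRel = true := by decide +kernel

/-- Two sextets in the long orbit: their product squared. -/
def comm1440 : Raw := pairPts.raw ([0, 1, 0, 1].map fun j => pairPts.seed.getD j 0)

theorem comm1440_one : evR nucU comm1440 = 1 := by
  have hs : ∀ z, z < pairPts.word.length →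
      pairPts.sv uSym (pairPts.spell.getD z []) = pairPts.pt uSym z :=
    Pts.sv_spell uPats1_one pair_steps
  have h : FreeGroup.lift (fun j : Fin 11 => pairPts.pt uSym (pairPts.seed.getD j.val 0))
      (FreeGroup.mk [(0, true), (1, true), (0, true), (1, true)]) = 1 := by
    refine J4PairComm.holds _ (fun r hr => ?_) _ (List.mem_singleton_self _)
    rw [Pts.lift_toNat]
    exact Pts.sv_rels uPats1_one hs _ _ pair_rels _ (List.mem_map_of_mem hr)
  rw [Pts.lift_toNat] at h
  rw [comm1440, ← uSym_c, Pts.evR_raw, List.map_map]
  exact h

/-- All the known relators. -/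
def uPats : List Raw := [[none, none], lineRaw, comm90, comm240, comm1440]

theorem uPats_one : ∀ p ∈ uPats, evR uSym.c p = 1 := by
  intro p hp
  simp only [uPats, List.mem_cons, List.not_mem_nil, or_false] at hp
  rcases hp with rfl | rfl | rfl | rfl | rfl
  · exact nn_one
  · exact lineRaw_one
  · exact comm90_one
  · exact comm240_one
  · exact comm1440_one

end Cfsg.Agent.J4DC
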