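import Cfsg.Agent.J4DC.Bound
import Cfsg.Agent.DCoset.J4W.Cert

/-!
# The index of 2 ^ 11 : M24 in the presented J4
-/

set_option autoImplicit false
set_option maxRecDepth 100000

namespace Cfsg.Agent.J4DC

open Cfsg.Agent.DCoset

/-- The index. -/
theorem index_iota : iota.range.index = 173067389 :=
  index_eq J4W.steps J4W.cover J4W.steps_ok J4W.node_src rfl J4W.valid J4W.idx_sum

end Cfsg.Agent.J4DC
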