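import Cfsg.Agent.J4DC.Sym

/-!
# Matching a long word against a known relator in one pass

The codes of the conjugating words are the inverses of the prefixes, kept while reading.
-/

set_option autoImplicit false
set_option maxRecDepth 100000
set_option maxHeartbeats 200000

namespace Cfsg.Agent.J4DC

open Cfsg Cfsg.Agent.Compute Cfsg.Agent.CosetCert Cfsg.Agent.J4M24

local notation "J" => Cfsg.Spor.J4

/-- One pass over a word, keeping the value so far. -/
noncomputable def scanG (f : Fin 2 × Bool → ℕ → ℕ) (r : Raw) : ℕ → List ℕ × ℕ :=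
  List.rec (motive := fun _ => ℕ → List ℕ × ℕ) (fun p => ([], p))
    (fun o _ ih p => Option.rec (motive := fun _ => List ℕ × ℕ) (p :: (ih p).1, (ih p).2)
      (fun a => force (f a p) fun q => ih q) o) r

theorem scanG_some (f : Fin 2 × Bool → ℕ → ℕ) (a : Fin 2 × Bool) (r : Raw) (p : ℕ) :
    scanG f (some a :: r) p = scanG f r (f a p) :=
  force_eq (f a p) fun q => scanG f r q

/-- The codes of the conjugating words and of the inverse of the whole, from a code so far. -/
noncomputable def scanC (r : Raw) (p : ℕ) : List ℕ × ℕ :=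
  scanG (fun a p => rep24.mul (xyCode (a.1, !a.2)) p) r p

theorem scanC_some (a : Fin 2 × Bool) (r : Raw) (p : ℕ) :
    scanC (some a :: r) p = scanC r (rep24.mul (xyCode (a.1, !a.2)) p) := by
  unfold scanC
  rw [scanG_some]

/-- The code denotes the word. -/
def Den (c : ℕ) (w : Word) : Prop := rep24.Ok c ∧ rep24.den c = toPerms (qW w)

theorem den_eval (w : Word) : Den (evalCode w) w := ⟨(evalCode_spec w).1, (toPerms_qW w).symm⟩

theorem den_mul {c d : ℕ} {v w : Word} (hc : Den c v) (hd : Den d w) :
    Den (rep24.mul c d) (v ++ w) :=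
  ⟨rep24.ok_mul _ _ hc.1 hd.1, by rw [rep24.den_mul _ _ hc.1 hd.1, hc.2, hd.2, qW_append, map_mul]⟩

theorem den_letter (a : Fin 2 × Bool) : Den (xyCode a) [a] := by
  refine ⟨rep24.okb_sound _ (xyCode_ok a), ?_⟩
  rw [← letter_den, qW, show toPerms (PresentedGroup.mk _ (FreeGroup.mk [a])) =
    FreeGroup.lift xyPerm (FreeGroup.mk [a]) from rfl, FreeGroup.lift_mk]
  simp

theorem scanC_spec : ∀ (r : Raw) {p : ℕ} {w0 : Word}, Den p w0 →
    List.Forall₂ (fun c w => Den c (w ++ w0)) (scanC r p).1 (norm r).1 ∧
      Den (scanC r p).2 (winv (norm r).2 ++ w0)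
  | [], _, _, hp => ⟨List.Forall₂.nil, hp⟩
  | none :: r, p, w0, hp => by
    obtain ⟨h1, h2⟩ := scanC_spec r hp
    exact ⟨List.Forall₂.cons hp h1, h2⟩
  | some a :: r, p, w0, hp => by
    have hq : Den (rep24.mul (xyCode (a.1, !a.2)) p) (winv [a] ++ w0) :=
      den_mul (den_letter (a.1, !a.2)) hp
    obtain ⟨h1, h2⟩ := scanC_spec r hq
    rw [scanC_some]
    simp only [norm]
    refine ⟨?_, ?_⟩
    · rw [List.forall₂_map_right_iff]
      exact h1.imp fun c w h => by rwa [List.append_assoc]
    · rw [show winv (a :: (norm r).2) = winv (norm r).2 ++ winv [a] by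
        simp [winv, FreeGroup.invRev], List.append_assoc]
      exact h2

/-- Each code, read against the word carried by `g`, lies in the chain. -/
noncomputable def sameCodesB (Ls : List Level) (g : Word) : List ℕ → List Word → Bool
  | [], [] => true
  | c :: l, b :: l' =>
    Nat.beq (rep24.sift Ls (rep24.mul c (evalCode (winv (b ++ g))))) rep24.one &&
      sameCodesB Ls g l l'
  | _, _ => false

theorem commute_of_code {Ls : List Level} {S : List Word} (hc : chainB Ls S = true) {x : J}
    (hS : ∀ s ∈ S, Commute x (val s)) {c : ℕ} {w : Word} (hd : Den c w)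
    (h : Nat.beq (rep24.sift Ls c) rep24.one = true) : Commute x (val w) := by
  simp only [chainB, Bool.and_eq_true, List.all_eq_true, List.any_eq_true] at hc
  have hm := rep24.mem_of_sift Ls hc.1 hd.1 (Nat.eq_of_beq_eq_true h)
  have hle : rep24.chainGroup Ls ≤
      ((Subgroup.centralizer {x}).comap iota24).map toPerms := by
    rw [Rep.chainGroup, Rep.span, Subgroup.closure_le]
    rintro _ ⟨g, hg, rfl⟩
    obtain ⟨s, hs, he⟩ := hc.2 g hg
    refine ⟨qW s, ?_, by rw [toPerms_qW, Nat.eq_of_beq_eq_true he]⟩
    show iota24 (qW s) ∈ Subgroup.centralizer {x}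
    rw [Subgroup.mem_centralizer_iff]
    rintro _ rfl
    exact hS s hs
  obtain ⟨q, hq, he⟩ := hle hm
  rw [hd.2] at he
  have h2 := toPerms_injective he ▸ hq
  rw [SetLike.mem_coe, Subgroup.mem_comap, Subgroup.mem_centralizer_iff] at h2
  exact h2 x rfl

theorem prod_sameCodes (Y : Sym) (g : Word) {cs : List ℕ} {ws : List Word}
    (hd : List.Forall₂ Den cs ws) : ∀ l' : List Word, sameCodesB Y.Ls g cs l' = true →
    (ws.map (conjW Y.c)).prod = (val g)⁻¹ * (l'.map (conjW Y.c)).prod * val g := by
  induction hd with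
  | nil =>
    intro l' h
    cases l' with
    | nil => simp
    | cons b l' => simp [sameCodesB] at h
  | @cons c w cs ws hc hrest ih =>
    intro l' h
    cases l' with
    | nil => simp [sameCodesB] at h
    | cons b l' =>
      rw [sameCodesB, Bool.and_eq_true] at h
      have hcm := (commute_of_code Y.chain Y.comm (den_mul hc (den_eval _)) h.1).eq
      rw [val_append, val_winv] at hcm
      have e : conjW Y.c w = conjW Y.c (b ++ g) := by
        calc conjW Y.c w = (val w)⁻¹ * (Y.c * (val w * (val (b ++ g))⁻¹)) * val (b ++ g) := by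
              rw [conjW]; group
          _ = conjW Y.c (b ++ g) := by rw [hcm, conjW]; group
      simp only [List.map_cons, List.prod_cons, ih l' h.2, e, conjW_append]
      group

/-- The word `r` is the conjugate of a known relator named by the hint, checked in one pass. -/
noncomputable def hintC (Ls : List Level) (pats : List Raw) (r : Raw) (h : Hint) : Bool :=
  sameCodesB Ls h.g (scanC r rep24.one).1 (norm (h.pat pats)).1 &&
    Nat.beq (scanC r rep24.one).2
      (evalCode (winv (winv h.g ++ (norm (h.pat pats)).2 ++ h.g)))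

theorem evR_eq_one_scan (Y : Sym) {pats : List Raw} (hp : ∀ p ∈ pats, evR Y.c p = 1) {r : Raw}
    {h : Hint} (hh : hintC Y.Ls pats r h = true) : evR Y.c r = 1 := by
  have h0 : evR Y.c (pats.getD h.k []) = 1 := by
    by_cases hk : h.k < pats.length
    · rw [List.getD_eq_getElem _ _ hk]; exact hp _ (List.getElem_mem _)
    · rw [List.getD_eq_default _ _ (Nat.le_of_not_lt hk)]; simp [evR]
  have h1 : evR Y.c (h.pat pats) = 1 := by
    apply evR_rot
    cases h.flip
    · exact h0
    · rw [cond_true, evR_rinv Y.sq, h0, inv_one]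
  rw [hintC, Bool.and_eq_true] at hh
  have hone : Den rep24.one [] :=
    ⟨rep24.ok_one, by rw [rep24.den_one, show qW [] = 1 from map_one _, map_one]⟩
  obtain ⟨hs1, hs2⟩ := scanC_spec r hone
  have hs1' : List.Forall₂ Den (scanC r rep24.one).1 (norm r).1 :=
    hs1.imp fun c w hcw => by rwa [List.append_nil] at hcw
  rw [List.append_nil, Nat.eq_of_beq_eq_true hh.2] at hs2
  have hm : val (norm r).2 = (val h.g)⁻¹ * val (norm (h.pat pats)).2 * val h.g := by
    have e : qW (winv (winv h.g ++ (norm (h.pat pats)).2 ++ h.g)) = qW (winv (norm r).2) :=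
      toPerms_injective ((den_eval _).2.symm.trans hs2.2)
    have e2 := congrArg iota24 e
    change val _ = val _ at e2
    rw [val_winv, val_winv, val_append, val_append, val_winv, inv_inj] at e2
    exact e2.symm
  rw [← evN_norm] at h1 ⊢
  simp only [evN] at h1 ⊢
  rw [prod_sameCodes Y h.g hs1' _ hh.1, hm]
  calc _ = (val h.g)⁻¹ * (((norm (h.pat pats)).1.map (conjW Y.c)).prod *
        val (norm (h.pat pats)).2) * val h.g := by group
    _ = 1 := by rw [h1]; group

end Cfsg.Agent.J4DC
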