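import Cfsg.Agent.J4DC.TSym
import Cfsg.Agent.J4DC.Scan
import Cfsg.Agent.J4DC.LineData
import Cfsg.Agent.CosetCert.J4LineMem.Main

/-!
# The relators of the certificate of a line hold
-/

set_option autoImplicit false
set_option maxRecDepth 100000
set_option Elab.async false

namespace Cfsg.Agent.J4DC

open Cfsg Cfsg.Agent.Compute Cfsg.Agent.CosetCert Cfsg.Agent.J4M24

/-- The letters as a function. -/
def lineR (j : Fin 5) : Raw := lineLet.getD j.val []

/-- Relator `i` and its hint. -/
noncomputable def lineB (i : Nat) : Bool :=
  hintC trioChain tPats (rsubst lineR (J4LineMem.relWords.getD i []))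
    (lineHints.getD i ⟨3, false, 0, []⟩)

theorem line_hints0 : ((List.range' 0 20).all lineB) = true := by decide +kernel

theorem line_hints1 : ((List.range' 20 20).all lineB) = true := by decide +kernel

theorem line_hints2 : ((List.range' 40 20).all lineB) = true := by decide +kernel

theorem line_hints3 : ((List.range' 60 20).all lineB) = true := by decide +kernel

theorem line_hints4 : ((List.range' 80 20).all lineB) = true := by decide +kernel

theorem line_hints5 : ((List.range' 100 26).all lineB) = true := by decide +kernel

theorem line_len : J4LineMem.relWords.length = 126 := by decide +kernel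

theorem line_rel {r : List (Fin 5 × Bool)} (hr : r ∈ J4LineMem.relWords) :
    evR gt (rsubst lineR r) = 1 := by
  obtain ⟨i, hi, rfl⟩ := List.mem_iff_getElem.1 hr
  have hi' := hi
  rw [line_len] at hi'
  have key : ∀ a n, ((List.range' a n).all lineB) = true → a ≤ i → i < a + n → lineB i = true :=
    fun a n h h1 h2 => List.all_eq_true.1 h i (List.mem_range'_1.2 ⟨h1, h2⟩)
  have h : lineB i = true := by
    rcases Nat.lt_or_ge i 20 with h | h
    · exact key 0 20 line_hints0 (by omega) (by omega)
    rcases Nat.lt_or_ge i 40 with h | h
    · exact key 20 20 line_hints1 (by omega) (by omega)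
    rcases Nat.lt_or_ge i 60 with h | h
    · exact key 40 20 line_hints2 (by omega) (by omega)
    rcases Nat.lt_or_ge i 80 with h | h
    · exact key 60 20 line_hints3 (by omega) (by omega)
    rcases Nat.lt_or_ge i 100 with h | h
    · exact key 80 20 line_hints4 (by omega) (by omega)
    exact key 100 26 line_hints5 (by omega) (by omega)
  rw [lineB, List.getD_eq_getElem _ _ hi] at h
  exact evR_eq_one_scan tSym tPats_one h

end Cfsg.Agent.J4DC
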