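import Cfsg.Agent.J4DC.Nucleus
import Cfsg.Agent.J4DC.LineChecks

/-!
# The elements of three sextets on a line multiply to the identity

The certificate puts the product into the trio stabiliser of <x, y>; it is trivial in the
representation, which is faithful on <x, y>.
-/

set_option autoImplicit false
set_option maxRecDepth 100000

namespace Cfsg.Agent.J4DC

open Cfsg Cfsg.Agent.Compute Cfsg.Agent.CosetCert Cfsg.Agent.J4M24

local notation "J" => Cfsg.Spor.J4

theorem line_sub : J4LineMem.subWords.map (rsubst lineR) = [rw_ [(0, true)], rw_ trioV] := by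
  decide +kernel

/-- The nine conjugates of t. -/
def lineNine : Raw :=
  lineWords.flatMap fun g => nucTri.flatMap fun z => rconj (nucPts.word.getD z [] ++ g)

theorem line_match : (J4LineMem.targets.map (rsubst lineR)).all
    (fun r => matchB trioChain [] r lineNine) = true := by
  decide +kernel

theorem evR_rconj_list : ∀ l : List Word, evR gt (l.flatMap rconj) = (l.map (conjW gt)).prod
  | [] => rfl
  | a :: l => by
    rw [List.flatMap_cons, evR_append, evR_rconj, evR_rconj_list l, List.map_cons, List.prod_cons]

theorem prod_conj_tri (g : Word) :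
    evR gt (nucTri.flatMap fun z => rconj (nucPts.word.getD z [] ++ g)) = conjW nucU g := by
  rw [← List.flatMap_map, evR_rconj_list, conjW, nucU, List.map_map]
  generalize nucTri = l
  induction l with
  | nil => simp
  | cons z l ih =>
    simp only [List.map_cons, List.prod_cons, Function.comp_apply, ih]
    rw [conjW_append, show Pts.pt nucPts tSym z = conjW gt (nucPts.word.getD z []) from rfl]
    group

/-- The product of the three elements. -/
noncomputable def lineP : J := (lineWords.map (conjW nucU)).prod

theorem evR_lineNine : evR gt lineNine = lineP := by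
  rw [lineNine, lineP]
  generalize lineWords = l
  induction l with
  | nil => rfl
  | cons g l ih =>
    rw [List.flatMap_cons, evR_append, prod_conj_tri, ih, List.map_cons, List.prod_cons]

theorem line_mem : ∃ q ∈ Subgroup.closure ({qW [(0, true)], qW trioV} : Set Q),
    iota24 q = lineP := by
  have hrel : ∀ r ∈ J4LineMem.relWords,
      FreeGroup.lift (fun j => evR tSym.c (lineR j)) (FreeGroup.mk r) = 1 := fun r hr => by
    rw [lift_rsubst tSym]
    exact line_rel hr
  obtain ⟨l, hl⟩ : ∃ l, l ∈ J4LineMem.targets := ⟨_, List.mem_cons_self⟩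
  have h := J4LineMem.holds _ hrel l hl
  rw [lift_rsubst tSym] at h
  have hm := evR_of_match tSym (List.all_eq_true.1 line_match _ (List.mem_map_of_mem hl))
  rw [val_nil, inv_one, one_mul, mul_one] at hm
  rw [hm, show evR tSym.c lineNine = lineP from evR_lineNine] at h
  rw [← Subgroup.mem_map, MonoidHom.map_closure]
  refine (Subgroup.closure_mono ?_) h
  rintro _ ⟨w, hw, rfl⟩
  rw [lift_rsubst tSym]
  have hs := List.mem_map_of_mem (f := rsubst lineR) hw
  rw [line_sub] at hs
  simp only [List.mem_cons, List.not_mem_nil, or_false] at hs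
  rcases hs with e | e
  · exact ⟨qW [(0, true)], Or.inl rfl, by rw [e, evR_rw]; rfl⟩
  · exact ⟨qW trioV, Or.inr rfl, by rw [e, evR_rw]; rfl⟩

/-- A signed letter of the representation. -/
def genLet : Option (Fin 2 × Bool) → Spor.J4.Gen × Bool
  | none => (.t, true)
  | some (b, s) => (jGen b, s)

theorem letR_genLet (o : Option (Fin 2 × Bool)) :
    (PresentedGroup.mk _ (FreeGroup.mk [genLet o]) : J) = letR gt o := by
  rw [← letR_rawLet]
  rcases o with _ | ⟨b, s⟩
  · rfl
  · fin_cases b <;> rfl

theorem evR_genLet : ∀ r : Raw, evR gt r = (PresentedGroup.mk _ (FreeGroup.mk (r.map genLet)) : J)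
  | [] => by rw [List.map_nil, ← FreeGroup.one_eq_mk, map_one]; rfl
  | a :: r => by
    rw [List.map_cons, show FreeGroup.mk (genLet a :: r.map genLet) =
      FreeGroup.mk [genLet a] * FreeGroup.mk (r.map genLet) from (by rw [FreeGroup.mul_mk]; rfl),
      map_mul, letR_genLet, ← evR_genLet r]
    rfl

theorem line_image : (J4LineMem.targets.map (rsubst lineR)).all
    (fun r => J4Rep.idB J4Rep.mat 112 (r.map genLet)) = true := by
  decide +kernel

theorem rho_evR {r : Raw} (h : J4Rep.idB J4Rep.mat 112 (r.map genLet) = true) :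
    J4Rep.rho (evR gt r) = 1 := by
  rw [evR_genLet]
  show PresentedGroup.toGroup J4Rep.relators_hold (PresentedGroup.mk _ (FreeGroup.mk _)) = _
  exact FreeGroup.lift_mk.trans (J4Rep.prod_eq_one J4Rep.mat
    (fun a => bif a.2 then J4Rep.genPerm a.1 else (J4Rep.genPerm a.1)⁻¹) J4Rep.letter_apply h)

theorem rho_iota24_injective : Function.Injective (J4Rep.rho.comp iota24) := by
  obtain ⟨e⟩ := q_equiv_m24
  have : IsSimpleGroup M24 := isSimpleGroup_m24
  have : IsSimpleGroup Q := e.isSimpleGroup
  rcases (J4Rep.rho.comp iota24).normal_ker.eq_bot_or_eq_top with h | h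
  · exact (MonoidHom.ker_eq_bot_iff _).1 h
  · exfalso
    refine J4Rep.genPerm_x_ne_one ?_
    have h0 : PresentedGroup.of (0 : Fin 2) ∈ (J4Rep.rho.comp iota24).ker := h ▸ Subgroup.mem_top _
    rw [MonoidHom.mem_ker, MonoidHom.comp_apply, iota24_of, J4Rep.rho_of] at h0
    exact h0

theorem lineP_eq_one : lineP = 1 := by
  obtain ⟨q, -, hP⟩ := line_mem
  obtain ⟨l, hl⟩ : ∃ l, l ∈ J4LineMem.targets := ⟨_, List.mem_cons_self⟩
  have hl' := List.mem_map_of_mem (f := rsubst lineR) hl
  have hm := evR_of_match tSym (List.all_eq_true.1 line_match _ hl')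
  rw [val_nil, inv_one, one_mul, mul_one, show tSym.c = gt from rfl, evR_lineNine] at hm
  have h1 := rho_evR (List.all_eq_true.1 line_image _ hl')
  rw [hm, ← hP] at h1
  rw [← hP, show q = 1 from rho_iota24_injective (h1.trans (map_one _).symm), map_one]

/-- The relator of the line in the element of the sextet. -/
def lineRaw : Raw := lineWords.flatMap rconj

theorem lineRaw_one : evR nucU lineRaw = 1 := by
  rw [lineRaw]
  have : ∀ l : List Word, evR nucU (l.flatMap rconj) = (l.map (conjW nucU)).prod := by
    intro l
    induction l with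
    | nil => rfl
    | cons g l ih =>
      rw [List.flatMap_cons, evR_append, evR_rconj, ih, List.map_cons, List.prod_cons]
  rw [this]
  exact lineP_eq_one

end Cfsg.Agent.J4DC
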