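import Cfsg.Agent.DCoset.J4W.Table
import Cfsg.Agent.J4Aff.Affine

/-!
# The affine model with the generators of the subgroup U as further letters

Five further letters stand for fixed words in the four, so that long words need not be walked.
-/

set_option autoImplicit false
set_option maxRecDepth 100000

namespace Cfsg.Agent.J4DC

open Cfsg.Agent.CosetCert Cfsg.Agent.DCoset Cfsg.Agent.J4Aff

/-- The word of a further letter. -/
def uWord (l : Nat) : List Nat := J4W.uLet.getD l []

/-- The element of a letter. -/
noncomputable def q9 (g : Nat) : QAff :=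
  if g < 4 then qAff g else ((uWord (g - 4)).map qAff).prod

/-- Follow a list of letters. -/
noncomputable def followV (l : List Nat) (v : Nat) : Nat :=
  List.rec (motive := fun _ => Nat → Nat) (fun v => v)
    (fun g _ ih v => force (DCoset.J4.tab.act g v) fun w => ih w) l v

theorem followV_spec : ∀ (l : List Nat), (∀ g ∈ l, g < 4) → ∀ p : Fin 2048,
    followV l p.val = ((rho (l.map qAff).prod)⁻¹ p).val
  | [], _, p => by simp [followV]
  | g :: l, hl, p => by
    have hg : g < 4 := hl g List.mem_cons_self
    have e : followV (g :: l) p.val = followV l (DCoset.J4.tab.act g p.val) :=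
      force_eq (DCoset.J4.tab.act g p.val) fun w => followV l w
    rw [e, acts.act_eq g hg p, followV_spec l (fun x hx => hl x (List.mem_cons_of_mem _ hx)),
      List.map_cons, List.prod_cons, map_mul, mul_inv_rev, Equiv.Perm.mul_apply]

theorem low_same : allFrom (fun g => allFrom (fun p =>
    Nat.beq (J4W.tab.act g p) (DCoset.J4.tab.act g p)) 0 2048) 0 4 = true := by
  decide +kernel

theorem uWord_lt : ∀ l : Fin 5, ∀ g ∈ uWord l.val, g < 4 := by decide +kernel

theorem high_0 : allFrom (fun p => Nat.beq (J4W.tab.act 4 p) (followV (uWord 0) p)) 0 2048 = true := by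
  decide +kernel

theorem high_1 : allFrom (fun p => Nat.beq (J4W.tab.act 5 p) (followV (uWord 1) p)) 0 2048 = true := by
  decide +kernel

theorem high_2 : allFrom (fun p => Nat.beq (J4W.tab.act 6 p) (followV (uWord 2) p)) 0 2048 = true := by
  decide +kernel

theorem high_3 : allFrom (fun p => Nat.beq (J4W.tab.act 7 p) (followV (uWord 3) p)) 0 2048 = true := by
  decide +kernel

theorem high_4 : allFrom (fun p => Nat.beq (J4W.tab.act 8 p) (followV (uWord 4) p)) 0 2048 = true := by
  decide +kernel

theorem act9_eq (g : Nat) (hg : g < 9) (p : Fin 2048) :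
    J4W.tab.act g p.val = ((rho (q9 g))⁻¹ p).val := by
  by_cases h4 : g < 4
  · rw [q9, if_pos h4, ← acts.act_eq g h4 p]
    exact Nat.eq_of_beq_eq_true (allFrom_all (allFrom_all low_same h4) p.isLt)
  · rw [q9, if_neg h4]
    have key : ∀ l, l < 5 →
        allFrom (fun p => Nat.beq (J4W.tab.act (4 + l) p) (followV (uWord l) p)) 0 2048 = true := by
      intro l hl
      interval_cases l
      exacts [high_0, high_1, high_2, high_3, high_4]
    obtain ⟨l, rfl⟩ : ∃ l, g = 4 + l := ⟨g - 4, by omega⟩
    rw [Nat.add_sub_cancel_left, Nat.eq_of_beq_eq_true (allFrom_all (key l (by omega)) p.isLt)]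
    exact followV_spec _ (uWord_lt ⟨l, by omega⟩) p

theorem acts9 : Acts rho J4W.tab q9 bpt where
  small := by norm_num
  act_eq g hg p := act9_eq g hg p
  act_lt := J4W.tab_act_lt
  base_eq := by decide +kernel

/-- The model with nine letters. -/
noncomputable def model9 : QModel QAff := acts9.toQModel rho_faithful

theorem model9_gens :
    Subgroup.closure {x | ∃ g, g < 4 ∧ x = model9.q g} = ⊤ := by
  rw [eq_top_iff, ← closure_letters]
  refine Subgroup.closure_mono ?_
  rintro _ (rfl | rfl | rfl)
  · exact ⟨0, by norm_num, rfl⟩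
  · exact ⟨1, by norm_num, rfl⟩
  · exact ⟨3, by norm_num, rfl⟩

end Cfsg.Agent.J4DC
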