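import Cfsg.Agent.J4DC.Points

/-! Generated (tools/j4dc): fifteen conjugates of t and the stabiliser of their sextet. -/

set_option autoImplicit false
set_option maxRecDepth 100000

namespace Cfsg.Agent.J4DC

open Cfsg.Agent.Compute

/-- The fifteen trios refined by one sextet. -/
def nucPts : Pts where
  g := 5
  word := [

    [(1, true), (0, true), (1, true), (0, true), (1, true), (0, true), (1, true), (0, true), (1, false), (0, true)],
    [(1, true), (0, true), (1, true), (0, true), (1, true), (0, true), (1, true), (0, true), (1, false), (0, true), (1, true)],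
    [(1, false), (0, true), (1, true), (0, true), (1, true), (0, true), (1, true), (0, true), (1, true), (0, true), (1, true), (0, true), (1, false), (0, true), (1, false)],
    [(1, true), (0, true), (1, true), (0, true), (1, false), (0, true), (1, true), (0, true), (1, false), (0, true), (1, false), (0, true), (1, false), (0, true), (1, false), (0, true), (1, true)],
    [(1, true), (0, true), (1, true), (0, true), (1, false), (0, true), (1, true), (0, true), (1, false), (0, true), (1, true), (0, true), (1, true), (0, true), (1, false), (0, true), (1, false), (0, true), (1, false), (0, true), (1, false), (0, true), (1, true), (0, true), (1, false), (0, true), (1, false)],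
    [(1, true), (0, true), (1, true), (0, true), (1, false), (0, true), (1, true), (0, true), (1, false), (0, true), (1, false), (0, true), (1, false), (0, true), (1, false), (0, true)],
    [(1, true), (0, true), (1, true), (0, true), (1, false), (0, true), (1, true), (0, true), (1, false), (0, true), (1, false), (0, true), (1, false), (0, true), (1, false), (0, true), (1, false)],
    [(1, true), (0, true), (1, false), (0, true), (1, false), (0, true), (1, true), (0, true), (1, true), (0, true), (1, false), (0, true), (1, false), (0, true), (1, true), (0, true), (1, false), (0, true), (1, true), (0, true), (1, false), (0, true), (1, false)],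
    [(1, true), (0, true), (1, true), (0, true), (1, false), (0, true), (1, true), (0, true), (1, false), (0, true), (1, true), (0, true), (1, true), (0, true), (1, false), (0, true), (1, false), (0, true), (1, false), (0, true), (1, false), (0, true), (1, true), (0, true), (1, false), (0, true)],
    [(1, true), (0, true), (1, false), (0, true), (1, false), (0, true), (1, true), (0, true), (1, true), (0, true), (1, false), (0, true), (1, false), (0, true), (1, true), (0, true), (1, false), (0, true), (1, true), (0, true), (1, false), (0, true)],
    [(1, true), (0, true), (1, false), (0, true), (1, false), (0, true), (1, true), (0, true), (1, true), (0, true), (1, false), (0, true), (1, false), (0, true), (1, true), (0, true), (1, false), (0, true), (1, true), (0, true), (1, false), (0, true), (1, true)],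
    [(1, false), (0, true), (1, true), (0, true), (1, true), (0, true), (1, true), (0, true), (1, true), (0, true), (1, true), (0, true), (1, false), (0, true), (1, true)],
    [(1, false), (0, true), (1, true), (0, true), (1, true), (0, true), (1, true), (0, true), (1, true), (0, true), (1, true), (0, true), (1, false), (0, true)],
    [(1, true), (0, true), (1, true), (0, true), (1, false), (0, true), (1, true), (0, true), (1, false), (0, true), (1, true), (0, true), (1, true), (0, true), (1, false), (0, true), (1, false), (0, true), (1, false), (0, true), (1, false), (0, true), (1, true), (0, true), (1, false), (0, true), (1, true)],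
    [(1, true), (0, true), (1, true), (0, true), (1, true), (0, true), (1, true), (0, true), (1, false), (0, true), (1, false)]]
  seed := [0, 1, 2, 3, 4]
  step := [

    none,
    none,
    none,
    none,
    none,
    some (0, 4, ⟨1, false, 9, [(0, true), (1, false), (0, true), (1, false), (0, true), (1, false), (0, true), (1, true), (0, true), (1, true), (0, true), (1, false), (0, true), (1, false), (0, true), (1, false), (0, true), (1, false), (0, true), (1, false), (0, true), (1, true), (0, true), (1, true), (0, true), (1, false), (0, true), (1, false), (1, true), (0, true), (1, true), (0, true), (1, true), (0, true), (1, true), (0, true), (1, false), (0, true)]⟩),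
    some (1, 2, ⟨1, false, 9, [(0, true), (1, true), (0, true), (1, true), (0, true), (1, false), (0, true), (1, false), (0, true), (1, true), (0, true), (1, true), (0, true), (1, true), (1, true), (0, true), (1, true), (0, true), (1, false), (0, true), (1, false), (0, true), (1, true), (0, true), (1, true), (0, true), (1, true), (0, true), (1, true), (0, true), (1, true), (0, true), (1, true), (0, true), (1, true), (0, true), (1, false), (0, true), (1, true)]⟩),
    some (2, 4, ⟨1, false, 9, [(1, true), (0, true), (1, true), (0, true), (1, false), (0, true), (1, false), (0, true), (1, true), (0, true), (1, true), (0, true), (1, true), (1, true), (0, true), (1, true), (0, true), (1, false), (0, true), (1, false), (0, true), (1, true), (0, true), (1, true), (0, true), (1, true), (0, true), (1, true), (0, true), (1, true), (0, true), (1, false), (0, true), (1, false), (0, true), (1, true), (0, true), (1, true), (0, true), (1, true), (1, true), (0, true), (1, true), (0, true), (1, false), (0, true), (1, false), (0, true), (1, true), (0, true), (1, true), (0, true), (1, true), (1, false), (0, true), (1, true), (0, true),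 (1, true), (0, true), (1, true), (0, true), (1, true), (0, true), (1, true), (0, true), (1, false), (0, true), (1, false)]⟩),
    some (1, 3, ⟨1, false, 9, [(1, true), (0, true), (1, true), (0, true), (1, false), (0, true), (1, false), (0, true), (1, true), (0, true), (1, true), (0, true), (1, true), (1, true), (0, true), (1, true), (0, true), (1, false), (0, true), (1, false), (0, true), (1, true), (0, true), (1, true), (0, true), (1, true), (0, true), (1, false), (0, true), (1, false), (0, true), (1, false), (0, true), (1, true), (0, true), (1, true), (0, true), (1, false), (0, true), (1, false), (0, true), (1, false), (0, true), (1, false), (0, true), (1, false), (0, true), (1, true), (0, true), (1, true), (0, true), (1, false), (0, true), (1, false), (1, true), (0, true), (1, true), (0, true), (1, true), (0, true), (1, true), (0, true), (1, false), (0, true), (1, true)]⟩),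
    some (0, 6, ⟨1, false, 9, [(0, true), (1, true), (0, true), (1, true), (0, true), (1, false), (0, true), (1, false), (0, true), (1, true), (0, true), (1, true), (0, true), (1, true), (1, true), (0, true), (1, true), (0, true), (1, false), (0, true), (1, false), (0, true), (1, true), (0, true), (1, true), (0, true), (1, true), (1, true), (0, true), (1, true), (0, true), (1, true), (0, true), (1, true), (0, true), (1, false), (0, true)]⟩),
    some (1, 5, ⟨1, false, 9, [(0, true), (1, true), (0, true), (1, true), (0, true), (1, false), (0, true), (1, false), (0, true), (1, true), (0, true), (1, true), (0, true), (1, true), (1, true), (0, true), (1, true), (0, true), (1, false), (0, true), (1, false), (0, true), (1, true), (0, true), (1, true), (0, true), (1, true), (1, true), (0, true), (1, true), (0, true), (1, true), (0, true), (1, true), (0, true), (1, false), (0, true), (1, true)]⟩),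
    some (0, 3, ⟨1, false, 9, [(0, true), (1, true), (0, true), (1, true), (0, true), (1, false), (0, true), (1, false), (0, true), (1, true), (0, true), (1, true), (0, true), (1, true), (0, true), (1, true), (0, true), (1, true), (0, true), (1, false), (0, true), (1, false), (0, true), (1, true), (0, true), (1, true), (0, true), (1, true), (0, true), (1, true), (0, true), (1, true), (0, true), (1, false), (0, true), (1, false), (0, true), (1, true), (0, true), (1, true), (0, true), (1, true), (1, true), (0, true), (1, true), (0, true), (1, true), (0, true), (1, true), (0, true), (1, false), (0, true)]⟩),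
    some (11, 2, ⟨1, false, 9, [(0, true), (1, true), (0, true), (1, true), (0, true), (1, false), (0, true), (1, false), (0, true), (1, true), (0, true), (1, true), (0, true), (1, true), (0, true), (1, true), (0, true), (1, true), (0, true), (1, false), (0, true), (1, false), (0, true), (1, true), (0, true), (1, true), (0, true), (1, true), (0, true), (1, true), (0, true), (1, true), (0, true), (1, false), (0, true), (1, false), (0, true), (1, true), (0, true), (1, true), (0, true), (1, true), (1, false), (0, true), (1, true), (0, true), (1, true), (0, true), (1, true), (0, true), (1, true), (0, true), (1, true), (0, true), (1, false), (0, true), (1, true)]⟩),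
    some (8, 4, ⟨1, false, 9, [(1, true), (0, true), (1, true), (0, true), (1, false), (0, true), (1, false), (0, true), (1, true), (0, true), (1, true), (0, true), (1, true), (1, true), (0, true), (1, true), (0, true), (1, false), (0, true), (1, false), (0, true), (1, true), (0, true), (1, true), (0, true), (1, true), (0, true), (1, false), (0, true), (1, false), (0, true), (1, false), (0, true), (1, true), (0, true), (1, true), (0, true), (1, false), (0, true), (1, false), (0, true), (1, true), (0, true), (1, true), (0, true), (1, false), (0, true), (1, false), (0, true), (1, true), (0, true), (1, true), (0, true), (1, true), (1, true), (0, true), (1, true), (0, true), (1, false), (0, true), (1, false), (0, true), (1, true), (0, true), (1, true), (0, true), (1, true), (0, true), (1, true), (0, true), (1, true), (0, true), (1, false), (0, true), (1, true), (0, true), (1, false), (0, true), (1, true), (0, true), (1, true), (0, true), (1, false), (0, true), (1, false), (0, true), (1, false), (0, true), (1, false), (0, true), (1, true), (0, true), (1, false), (0, true)]⟩),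
    some (3, 7, ⟨1, false, 9, [(0, true), (1, false), (0, true), (1, false), (0, true), (1, false), (0, true), (1, true), (0, true), (1, true), (0, true), (1, false), (0, true), (1, false), (0, true), (1, true), (0, true), (1, true), (0, true), (1, false), (0, true), (1, true), (0, true), (1, false), (0, true), (1, false), (0, true), (1, false), (0, true), (1, false), (0, true), (1, true)]⟩)]
  spell := [[0], [1], [2], [3], [4], [0, 4], [1, 2], [2, 4], [1, 3], [0, 1, 2], [1, 0, 4], [0, 3], [0, 3, 2], [1, 3, 4], [3, 2, 4]]

/-- The points and hints of the relators. -/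
def nucPtsRel : List (List Nat × Hint) := [

    ([0, 0], ⟨0, false, 0, [(1, true), (0, true), (1, true), (0, true), (1, true), (0, true), (1, true), (0, true), (1, false), (0, true)]⟩),
    ([1, 1], ⟨0, false, 0, [(1, true), (0, true), (1, true), (0, true), (1, true), (0, true), (1, true), (0, true), (1, false), (0, true), (1, true)]⟩),
    ([2, 2], ⟨0, false, 0, [(1, false), (0, true), (1, true), (0, true), (1, true), (0, true), (1, true), (0, true), (1, true), (0, true), (1, true), (0, true), (1, false), (0, true), (1, false)]⟩),
    ([3, 3], ⟨0, false, 0, [(1, true), (0, true), (1, true), (0, true), (1, false), (0, true), (1, true), (0, true), (1, false), (0, true), (1, false), (0, true), (1, false), (0, true), (1, false), (0, true), (1, true)]⟩),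
    ([4, 4], ⟨0, false, 0, [(1, true), (0, true), (1, true), (0, true), (1, false), (0, true), (1, true), (0, true), (1, false), (0, true), (1, true), (0, true), (1, true), (0, true), (1, false), (0, true), (1, false), (0, true), (1, false), (0, true), (1, false), (0, true), (1, true), (0, true), (1, false), (0, true), (1, false)]⟩),
    ([14, 14], ⟨0, false, 0, [(1, true), (0, true), (1, true), (0, true), (1, true), (0, true), (1, true), (0, true), (1, false), (0, true), (1, false)]⟩),
    ([12, 12], ⟨0, false, 0, [(1, false), (0, true), (1, true), (0, true), (1, true), (0, true), (1, true), (0, true), (1, true), (0, true), (1, true), (0, true), (1, false), (0, true)]⟩),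
    ([11, 11], ⟨0, false, 0, [(1, false), (0, true), (1, true), (0, true), (1, true), (0, true), (1, true), (0, true), (1, true), (0, true), (1, true), (0, true), (1, false), (0, true), (1, true)]⟩),
    ([5, 5], ⟨0, false, 0, [(1, true), (0, true), (1, true), (0, true), (1, false), (0, true), (1, true), (0, true), (1, false), (0, true), (1, false), (0, true), (1, false), (0, true), (1, false), (0, true)]⟩),
    ([6, 6], ⟨0, false, 0, [(1, true), (0, true), (1, true), (0, true), (1, false), (0, true), (1, true), (0, true), (1, false), (0, true), (1, false), (0, true), (1, false), (0, true), (1, false), (0, true), (1, false)]⟩),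
    ([9, 9], ⟨0, false, 0, [(1, true), (0, true), (1, false), (0, true), (1, false), (0, true), (1, true), (0, true), (1, true), (0, true), (1, false), (0, true), (1, false), (0, true), (1, true), (0, true), (1, false), (0, true), (1, true), (0, true), (1, false), (0, true)]⟩),
    ([10, 10], ⟨0, false, 0, [(1, true), (0, true), (1, false), (0, true), (1, false), (0, true), (1, true), (0, true), (1, true), (0, true), (1, false), (0, true), (1, false), (0, true), (1, true), (0, true), (1, false), (0, true), (1, true), (0, true), (1, false), (0, true), (1, true)]⟩),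
    ([7, 7], ⟨0, false, 0, [(1, true), (0, true), (1, false), (0, true), (1, false), (0, true), (1, true), (0, true), (1, true), (0, true), (1, false), (0, true), (1, false), (0, true), (1, true), (0, true), (1, false), (0, true), (1, true), (0, true), (1, false), (0, true), (1, false)]⟩),
    ([8, 8], ⟨0, false, 0, [(1, true), (0, true), (1, true), (0, true), (1, false), (0, true), (1, true), (0, true), (1, false), (0, true), (1, true), (0, true), (1, true), (0, true), (1, false), (0, true), (1, false), (0, true), (1, false), (0, true), (1, false), (0, true), (1, true), (0, true), (1, false), (0, true)]⟩),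
    ([13, 13], ⟨0, false, 0, [(1, true), (0, true), (1, true), (0, true), (1, false), (0, true), (1, true), (0, true), (1, false), (0, true), (1, true), (0, true), (1, true), (0, true), (1, false), (0, true), (1, false), (0, true), (1, false), (0, true), (1, false), (0, true), (1, true), (0, true), (1, false), (0, true), (1, true)]⟩),
    ([11, 10, 13], ⟨1, false, 9, [(0, true), (1, true), (0, true), (1, true), (0, true), (1, false), (0, true), (1, false), (0, true), (1, true), (0, true), (1, true), (0, true), (1, true), (1, true), (0, true), (1, true), (0, true), (1, false), (0, true), (1, false), (0, true), (1, true), (0, true), (1, true), (0, true), (1, true), (1, false), (0, true), (1, true), (0, true), (1, true), (0, true), (1, true), (0, true), (1, true), (0, true), (1, true), (0, true), (1, false), (0, true), (1, true)]⟩),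
    ([12, 9, 8], ⟨1, false, 9, [(0, true), (1, true), (0, true), (1, true), (0, true), (1, false), (0, true), (1, false), (0, true), (1, true), (0, true), (1, true), (0, true), (1, true), (1, true), (0, true), (1, true), (0, true), (1, false), (0, true), (1, false), (0, true), (1, true), (0, true), (1, true), (0, true), (1, true), (1, false), (0, true), (1, true), (0, true), (1, true), (0, true), (1, true), (0, true), (1, true), (0, true), (1, true), (0, true), (1, false), (0, true)]⟩),
    ([0, 5, 4], ⟨1, false, 9, [(1, true), (0, true), (1, true), (0, true), (1, false), (0, true), (1, false), (0, true), (1, true), (0, true), (1, true), (0, true), (1, true), (1, true), (0, true), (1, true), (0, true), (1, false), (0, true), (1, false), (0, true), (1, true), (0, true), (1, true), (0, true), (1, true), (0, true), (1, false), (0, true), (1, false), (0, true), (1, false), (0, true), (1, true), (0, true), (1, true), (0, true), (1, false), (0, true), (1, false), (0, true), (1, false), (0, true), (1, false), (0, true), (1, false), (0, true), (1, true), (0, true), (1, true), (0, true), (1, false), (0, true), (1, false), (1,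 true), (0, true), (1, true), (0, true), (1, true), (0, true), (1, true), (0, true), (1, false), (0, true)]⟩),
    ([14, 3, 7], ⟨1, false, 9, [(0, true), (1, true), (0, true), (1, true), (0, true), (1, false), (0, true), (1, false), (0, true), (1, true), (0, true), (1, true), (0, true), (1, true), (1, true), (0, true), (1, true), (0, true), (1, false), (0, true), (1, false), (0, true), (1, true), (0, true), (1, true), (0, true), (1, true), (1, true), (0, true), (1, true), (0, true), (1, true), (0, true), (1, true), (0, true), (1, false), (0, true), (1, false)]⟩),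
    ([1, 2, 6], ⟨1, false, 9, [(0, true), (1, true), (0, true), (1, true), (0, true), (1, false), (0, true), (1, false), (0, true), (1, true), (0, true), (1, true), (0, true), (1, true), (1, true), (0, true), (1, true), (0, true), (1, false), (0, true), (1, false), (0, true), (1, true), (0, true), (1, true), (0, true), (1, true), (0, true), (1, true), (0, true), (1, true), (0, true), (1, true), (0, true), (1, true), (0, true), (1, false), (0, true), (1, true)]⟩),
    ([2, 7, 4], ⟨1, false, 9, [(0, true), (1, true), (0, true), (1, true), (0, true), (1, false), (0, true), (1, false), (0, true), (1, true), (0, true), (1, true), (0, true), (1, true), (1, true), (0, true), (1, true), (0, true), (1, false), (0, true), (1, false), (0, true), (1, true), (0, true), (1, true), (0, true), (1, true), (1, false), (0, true), (1, true), (0, true), (1, true), (0, true), (1, true), (0, true), (1, true), (0, true), (1, true), (0, true), (1, false), (0, true), (1, false)]⟩),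
    ([1, 3, 8], ⟨1, false, 9, [(1, true), (0, true), (1, true), (0, true), (1, false), (0, true), (1, false), (0, true), (1, true), (0, true), (1, true), (0, true), (1, true), (1, true), (0, true), (1, true), (0, true), (1, false), (0, true), (1, false), (0, true), (1, true), (0, true), (1, true), (0, true), (1, true), (0, true), (1, false), (0, true), (1, false), (0, true), (1, false), (0, true), (1, true), (0, true), (1, true), (0, true), (1, false), (0, true), (1, false), (0, true), (1, false), (0, true), (1, false), (0, true), (1, false), (0, true), (1, true), (0, true), (1, true), (0, true), (1, false), (0, true), (1, false), (1, true), (0, true), (1, true), (0, true), (1, true), (0, true), (1, true), (0, true), (1, false), (0, true), (1, true)]⟩),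
    ([0, 6, 9], ⟨1, false, 9, [(0, true), (1, true), (0, true), (1, true), (0, true), (1, false), (0, true), (1, false), (0, true), (1, true), (0, true), (1, true), (0, true), (1, true), (1, true), (0, true), (1, true), (0, true), (1, false), (0, true), (1, false), (0, true), (1, true), (0, true), (1, true), (0, true), (1, true), (1, true), (0, true), (1, true), (0, true), (1, true), (0, true), (1, true), (0, true), (1, false), (0, true)]⟩),
    ([14, 12, 5], ⟨1, false, 9, [(0, true), (1, true), (0, true), (1, true), (0, true), (1, false), (0, true), (1, false), (0, true), (1, true), (0, true), (1, true), (0, true), (1, true), (1, true), (0, true), (1, true), (0, true), (1, false), (0, true), (1, false), (0, true), (1, true), (0, true), (1, true), (0, true), (1, true), (0, true), (1, true), (0, true), (1, true), (0, true), (1, true), (0, true), (1, true), (0, true), (1, false), (0, true), (1, false)]⟩),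
    ([14, 6, 13], ⟨1, false, 9, [(1, true), (0, true), (1, true), (0, true), (1, false), (0, true), (1, false), (0, true), (1, true), (0, true), (1, true), (0, true), (1, true), (1, true), (0, true), (1, true), (0, true), (1, false), (0, true), (1, false), (0, true), (1, true), (0, true), (1, true), (0, true), (1, true), (0, true), (1, false), (0, true), (1, false), (0, true), (1, false), (0, true), (1, true), (0, true), (1, true), (0, true), (1, false), (0, true), (1, false), (0, true), (1, false), (0, true), (1, false), (0, true), (1, false), (0, true), (1, true), (0, true), (1, true), (0, true), (1, false), (0, true), (1, false), (1, true), (0, true), (1, true), (0, true), (1, true), (0, true), (1, true), (0, true), (1, false), (0, true), (1, false)]⟩),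
    ([1, 5, 10], ⟨1, false, 9, [(0, true), (1, true), (0, true), (1, true), (0, true), (1, false), (0, true), (1, false), (0, true), (1, true), (0, true), (1, true), (0, true), (1, true), (1, true), (0, true), (1, true), (0, true), (1, false), (0, true), (1, false), (0, true), (1, true), (0, true), (1, true), (0, true), (1, true), (1, true), (0, true), (1, true), (0, true), (1, true), (0, true), (1, true), (0, true), (1, false), (0, true), (1, true)]⟩),
    ([0, 11, 3], ⟨1, false, 9, [(0, true), (1, true), (0, true), (1, true), (0, true), (1, false), (0, true), (1, false), (0, true), (1, true), (0, true), (1, true), (0, true), (1, true), (1, true), (0, true), (1, true), (0, true), (1, false), (0, true), (1, false), (0, true), (1, true), (0, true), (1, true), (0, true), (1, true), (0, true), (1, true), (0, true), (1, true), (0, true), (1, true), (0, true), (1, true), (0, true), (1, false), (0, true)]⟩),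
    ([12, 11, 2], ⟨1, false, 9, [(0, true), (1, true), (0, true), (1, true), (0, true), (1, false), (0, true), (1, false), (0, true), (1, true), (0, true), (1, true), (0, true), (1, true), (0, true), (1, true), (0, true), (1, true), (0, true), (1, false), (0, true), (1, false), (0, true), (1, true), (0, true), (1, true), (0, true), (1, true), (0, true), (1, true), (0, true), (1, true), (0, true), (1, false), (0, true), (1, false), (0, true), (1, true), (0, true), (1, true), (0, true), (1, true), (1, false), (0, true), (1, true), (0, true), (1, true), (0, true), (1, true), (0, true), (1, true), (0, true), (1, true), (0, true), (1, false), (0, true)]⟩),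
    ([9, 10, 7], ⟨1, false, 9, [(1, true), (0, true), (1, true), (0, true), (1, false), (0, true), (1, false), (0, true), (1, true), (0, true), (1, true), (0, true), (1, true), (1, true), (0, true), (1, true), (0, true), (1, false), (0, true), (1, false), (0, true), (1, true), (0, true), (1, true), (0, true), (1, true), (0, true), (1, true), (0, true), (1, true), (0, true), (1, false), (0, true), (1, false), (0, true), (1, true), (0, true), (1, true), (0, true), (1, true), (0, true), (1, true), (0, true), (1, false), (0, true), (1, false), (0, true), (1, true), (0, true), (1, true), (0, true), (1, false), (0, true), (1, false), (0, true), (1, true), (0, true), (1, false), (0, true), (1, true), (0, true), (1, false), (0, true)]⟩),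
    ([8, 13, 4], ⟨1, false, 9, [(0, true), (1, false), (0, true), (1, false), (0, true), (1, false), (0, true), (1, true), (0, true), (1, true), (0, true), (1, false), (0, true), (1, false), (0, true), (1, true), (0, true), (1, true), (0, true), (1, false), (0, true), (1, false), (0, true), (1, true), (0, true), (1, true), (0, true), (1, true), (1, true), (0, true), (1, true), (0, true), (1, false), (0, true), (1, false), (0, true), (1, true), (0, true), (1, true), (0, true), (1, true), (0, true), (1, true), (0, true), (1, true), (0, true), (1, false), (0, true), (1, true), (0, true), (1, false), (0, true), (1, true), (0, true), (1, true), (0, true), (1, false), (0, true), (1, false), (0, true), (1, false), (0, true), (1, false), (0, true), (1, true), (0, true), (1, false), (0, true)]⟩)]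

/-- The three points whose product is the element of the sextet. -/
def nucTri : List Nat := [0, 1, 14]

/-- Words fixing the sextet, with the images of the three points. -/
def nucImg : List (Word × List Nat) := [([(1, true)], [1, 14, 0]), ([(0, true), (1, true), (0, true), (1, false), (0, true), (1, false), (0, true), (1, false), (0, true), (1, true), (0, true), (1, false), (0, true), (1, true), (0, true), (1, true), (0, true), (1, true), (0, true), (1, false), (0, true)], [1, 0, 14]), ([(0, true), (1, true), (0, true), (1, false), (0, true), (1, false), (0, true), (1, false), (0, true), (1, false), (0, true), (1, true), (0, true), (1, true), (0, true), (1, true), (0, true), (1, true), (0, true), (1, false), (0, true)], [0, 12, 10])]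

/-- A level of `sextet`. -/
def sextetL0 : Level :=
  ⟨0, 24, fun i => getField 5 0x44662942ce335e72568b2846c526e0 i, (.node ⟨0xbdab49ca307b9ac5a928398a418820, 0xbdab49ca307b9ac5a928398a418820, 0, 0⟩ (.node ⟨0x15ea384a2c015536ad28a3c8e3d826, 0xb0aa764a333117053528181c5a5c2f, 0, 6⟩ (.node ⟨0x1492345aa7051535ba2f3418d25c25, 0x14a2e65926428855b6b381c03a5c2f, 1, 1⟩ (.node ⟨0xb0a2a7deb0020733b524599c5a482c, 0x95e2360ab0995403d12e598886d82f, 2, 3⟩ (.node ⟨0xbcaa7a0a233217003d249a8ae6582d, 0xb8ab33da2c510036992ea3ca88482b, 4, 6⟩ .nil .nil) (.node ⟨0x6b1038d0ab049533a5c281ad7abc81, 0x2147263a67126f68355559a21a200f, 17, 5⟩ .nil .nil)) (.node ⟨0xb5d2328ab0031533122d59e8f74828, 0xb5e256093020d0e3b6a032e6aa482f, 3, 3⟩ (.node ⟨0x635034bca705d535c5d6340520d095, 0x7200261146926d75b67581e21a146f, 8, 5⟩ .nil .nil) .nil)) (.node ⟨0x712233153603d5312eacbca8d82027, 0x3c12561aa375c885362204e56a2c2f, 1, 4⟩ (.node ⟨0x484a3b45c603d533dd0c5c28d95482, 0x54c4560e46744883b6e95c2a1a02cf, 2, 5⟩ (.node ⟨0x4392a912260307380ab459dafb9436, 0x1812864e2b258ae3d2b7340526a82f, 7, 4⟩ .nil .nil) .nil) (.node ⟨0xbd92324aa603d53816343adac4082e, 0xbda286492b700a4336a33c153a082f,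 4, 1⟩ (.node ⟨0xbdaaf1ca26a118d381255c10e9882a, 0xbdaaf1ca26a118d381255c10e9882a, 10, 0⟩ .nil .nil) .nil))) (.node ⟨0x15a2a6caa70147383d2e32c8865c34, 0x15a2064aab522633512481dc56dc2f, 1, 0⟩ (.node ⟨0xb4aa33de340215379925635c48082b, 0x95eb065a23594c70352e9a904a082f, 1, 3⟩ (.node ⟨0x7212a1163003c7334aad3ae8cb1037, 0xd2562a3075d04352b63ae426cc2f, 2, 4⟩ (.node ⟨0x43a30b15333d16650aac181afb9032, 0x1cd2e802b4258a86ae377b2423a826, 6, 4⟩ .nil .nil) .nil) (.node ⟨0xb492745eb430d70696207b26a70824, 0x95e302d92c38d66692b3a3d4070828, 3, 6⟩ (.node ⟨0x411ea0958b05c73355b281c568ba89, 0x7114162067a89318501732e566966f, 9, 5⟩ .nil .nil) .nil)) (.node ⟨0xb0aa764a333117053528181c5a5c2f, 0x15ea384a2c015536ad28a3c8e3d826, 1, 6⟩ (.node ⟨0xb5e2b54ab4310f0601257b5c898823, 0xb5e301caac394cba4d246bd0e0082a, 2, 6⟩ (.node ⟨0xbda2b00aac320f0a292e6bca41c833, 0xbda2b00aac320f0a292e6bca41c833, 7, 6⟩ .nil .nil) .nil) (.node ⟨0xc5ca354a203473bad0f959943a490, 0x59a4461ec0455c5550491ce216c2ef, 4, 5⟩ (.node ⟨0x6b0a70bd1330a0b1a5d2502d7ad091, 0x214628200d926f661d51a3ea15ba66, 16, 5⟩ .nil .nil) .nil)))),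
    [0xb5e269caad5a20778d2e650a450820, 0x95d269daa88356772a2f2168c18820, 0xbda261c9243be0b44eac7168d50820, 0x90aac9de27691f43292582d0e1d820, 0x2223799526934565aaac81df41b820, 0xa85c29c4a7bb2d280d0d32df452480, 0x15ea384a2c015536ad28a3c8e3d826]⟩

/-- A level of `sextet`. -/
def sextetL1 : Level :=
  ⟨1, 20, fun i => getField 5 0x7a265fa62a590623fe4d33a01fb01f i, (.node ⟨0xbdab49ca307b9ac5a928398a418820, 0xbdab49ca307b9ac5a928398a418820, 0, 0⟩ (.node ⟨0xa85c29c4a7bb2d280d0d32df452480, 0x7b6e49b24b2d50e30c4981e21552c0, 0, 5⟩ (.node ⟨0x885e21a68ebaed2229902a0e69d5a0, 0x7b4511b2e8ac02972a46290eb9d2c0, 1, 2⟩ (.node ⟨0xa86021c4cd93af6628e8a3c859a560, 0x6b2e71be5533a0b0a8484c4859d2c0, 2, 2⟩ (.node ⟨0x4844d9d646a218f38ece82ca4546e0, 0xa64f9c4476228d30eee5c0a4556c0, 5, 4⟩ .nil .nil) .nil) (.node ⟨0x885b61a5849185772a874160b9d5e0, 0x650491bee50aeb122a47438d09b6c0, 3, 3⟩ (.node ⟨0x411369ba2b136573282c3c1f4196a0, 0x650249b6262c9c882ab73ac561bd20, 15, 5⟩ .nil .nil) .nil)) (.node ⟨0x885ae9a5f02590530d823ae5755680, 0x23841996f08d2a930e4d3ad8f522c0, 1, 4⟩ (.node ⟨0x412c99b85489aa16aaf07b0eb19640, 0x4d5b0985e83c96622a972b8561c580, 2, 5⟩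 (.node ⟨0x6d0289b1222adc4b0ea7bc8d053e20, 0x3ad3699824136f270e34415ec542a0, 9, 5⟩ .nil .nil) .nil) (.node ⟨0x884979d5cd91856628ab7d2071a500, 0xa32469bee53c60b42841239351b6c0, 4, 0⟩ .nil .nil))) (.node ⟨0x485a29d68491ef640deb2ba0654580, 0x6b2519bc4549aa140eeb710f0552c0, 1, 1⟩ (.node ⟨0xa84969c5109505738caf599ac525c0, 0x652ee9be50404a438c5159935536c0, 1, 3⟩ (.node ⟨0xa844e9c6f42c08860e4b7b4c7526c0, 0x886f09a64e3d0cb40c4c215ed556c0, 2, 4⟩ (.node ⟨0x651159b5d749e211288695a0b1bca0, 0x81a9699da514657229f5720291ad80, 9, 4⟩ .nil .nil) .nil) (.node ⟨0x4864e1d6ed22d05a2ac67b2079c440, 0x8a64b1d4453d20672aed2218f986c0, 3, 4⟩ .nil .nil)) (.node ⟨0x486029c4c4932d77296f2a1b41d4e0, 0x634449be5542cae4aae60c4f01d2c0, 2, 0⟩ (.node ⟨0xa8562524c8b3ef220ced2b9949c600, 0x6bee41b04171905ace504c4eb552c0, 3, 0⟩ (.node ⟨0x4122c53ab6a41af10c2bbc8e699520, 0x3c22f19aae649b444c372905652d20, 12, 5⟩ .nil .nil) .nil) (.node ⟨0xa86089a56d25dc5a28e263e561c4c0, 0x712eb99455336078aa544858f1a2c0, 5, 0⟩ .nil .nil)))),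
    [0xb5e269caad5a20778d2e650a450820, 0x95d269daa88356772a2f2168c18820, 0xbda261c9243be0b44eac7168d50820, 0x90aac9de27691f43292582d0e1d820, 0x2223799526934565aaac81df41b820, 0xa85c29c4a7bb2d280d0d32df452480]⟩

/-- A level of `sextet`. -/
def sextetL2 : Level :=
  ⟨2, 16, fun i => getField 5 0x187eefa3eb308a967fe46bd47f83ff i, (.node ⟨0xbdab49ca307b9ac5a928398a418820, 0xbdab49ca307b9ac5a928398a418820, 0, 0⟩ (.node ⟨0x90aac9de27691f43292582d0e1d820, 0x90aac9de27691f43292582d0e1d820, 0, 3⟩ (.node ⟨0x90a279daac81166a0d256bdc855c20, 0x14a2b9deaf314f068d24a310e55820, 1, 0⟩ (.node ⟨0x716329a12bbbec232ab43c1ac19020, 0x7b5289d2a675ca482a323aec21b020, 2, 3⟩ (.node ⟨0x82d2599e2f249c860eb66d05751820, 0x221269ba37834ebb0eac90a8f51420, 11, 4⟩ .nil .nil) .nil) (.node ⟨0x3ae3299aa5bbc5640d2c711b454020, 0x7b2249d2a271ca8b0d2bbca0653420, 5, 0⟩ .nil .nil)) (.node ⟨0x63eb29d225b2c5772927412061b420, 0x63eb29d225b2c5772927412061b420, 2, 1⟩ (.node ⟨0xa3d361b6a411a5774e272a17053020, 0x6523753524b2e4228ea6438f09bc20, 4, 2⟩ .nil .nil) (.node ⟨0x82eb751a349105660d286bdc599c20, 0xa32b01be37314ebb4d281488e53420, 6, 2⟩ .nil .nil))) (.node ⟨0x2223799526934565aaac81df41b820,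 0xa31249bea7289c85aa36342571b420, 0, 4⟩ (.node ⟨0x2ba3699130152573aaaf32d8d1a020, 0x6512e9b6b04588532a2259ef21bc20, 1, 4⟩ (.node ⟨0xb0aa49dd27431c530e345c1af54820, 0x95ea898926234ae38e2f82d9455820, 3, 1⟩ .nil .nil) (.node ⟨0x3c13699ab4bb8526aa247b1051ac20, 0x7d2309b1363b96612aa5bc8881b420, 5, 1⟩ .nil .nil)) (.node ⟨0x6b1371d2a59405644e2b238e653c20, 0xa323253d2e11af640eab292079b420, 2, 2⟩ (.node ⟨0x412229b927b32f282aad59a8f19420, 0x6bd259b2ab2490e3aa37818561d020, 4, 3⟩ .nil .nil) (.node ⟨0x6bd259b2ab2490e3aa37818561d020, 0x412229b927b32f282aad59a8f19420, 7, 4⟩ .nil .nil)))),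
    [0xb5e269caad5a20778d2e650a450820, 0x95d269daa88356772a2f2168c18820, 0xbda261c9243be0b44eac7168d50820, 0x90aac9de27691f43292582d0e1d820, 0x2223799526934565aaac81df41b820]⟩

/-- A level of `sextet`. -/
def sextetL3 : Level :=
  ⟨4, 9, fun i => getField 5 0xffffffffe53984127fe81ffe0fffff i, (.node ⟨0xbdab49ca307b9ac5a928398a418820, 0xbdab49ca307b9ac5a928398a418820, 0, 0⟩ (.node ⟨0x95d269daa88356772a2f2168c18820, 0xb4a259dd2f42dc46aab0650c718820, 0, 1⟩ (.node ⟨0x959349de2e6c1ec40eab214c750820, 0x959349de2e6c1ec40eab214c750820, 1, 0⟩ (.node ⟨0x95a2555ea7235c85cd2c81a8f18820, 0x95a2555ea7235c85cd2c81a8f18820, 4, 0⟩ .nil .nil) .nil) (.node ⟨0xb5eb45492462daf74e27414d018820, 0xb5eb45492462daf74e27414d018820, 2, 0⟩ .nil .nil)) (.node ⟨0xbda261c9243be0b44eac7168d50820, 0xbd92554aad71c8860e2b7d0d098820, 0, 2⟩ (.node ⟨0x95ea51da2c2410e7cd276d0cb50820, 0xb4aa655e2e5b0f020d2d4168f98820, 1, 2⟩ (.node ⟨0x95e345592b6918f38eae818a898820, 0xb49341dea7621ed84e24598ae50820, 4, 2⟩ .nil .nil) .nil) (.node ⟨0x95aa61dd2f810eb62a286d0ae98820, 0x95aa61dd2f810eb62a286d0ae98820, 3, 2⟩ .nil .nil))),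
    [0xb5e269caad5a20778d2e650a450820, 0x95d269daa88356772a2f2168c18820, 0xbda261c9243be0b44eac7168d50820]⟩

/-- A level of `sextet`. -/
def sextetL4 : Level :=
  ⟨3, 2, fun i => getField 5 0xffffffffffffffff87fffffff07fff i, (.node ⟨0xbdab49ca307b9ac5a928398a418820, 0xbdab49ca307b9ac5a928398a418820, 0, 0⟩ (.node ⟨0xb5e269caad5a20778d2e650a450820, 0xb5e269caad5a20778d2e650a450820, 0, 0⟩ .nil .nil) .nil),
    [0xb5e269caad5a20778d2e650a450820]⟩

/-- The chain. -/
def sextetChain : List Level := [sextetL0, sextetL1, sextetL2, sextetL3, sextetL4]

/-- Its generators as products of the 6 given words. -/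
def sextetPieces : List (List Nat) := [[0, 1, 2, 1, 2, 1, 3, 2, 1, 2, 0, 1, 2, 3], [1, 0, 2, 1, 3, 1, 2, 0, 1, 0], [3, 2, 1, 2, 3, 1, 2, 3, 1, 0, 2, 0], [0, 1, 3, 1, 0], [2, 3, 2, 1, 0], [0, 2, 1], [0]]

end Cfsg.Agent.J4DC
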