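import Cfsg.Agent.J4DC.TSym
import Cfsg.Agent.J4DC.NucData
import Cfsg.Agent.CosetCert.J4Nucleus.Main

/-!
# The element of a sextet

Three trios refined by one sextet give three conjugates of t whose product is an involution
commuting with the stabiliser of the sextet in <x, y>.
-/

set_option autoImplicit false
set_option maxRecDepth 100000

namespace Cfsg.Agent.J4DC

open Cfsg Cfsg.Agent.Compute Cfsg.Agent.CosetCert Cfsg.Agent.J4M24

local notation "J" => Cfsg.Spor.J4

theorem nuc_steps : nucPts.stepsB trioChain tPats = true := by decide +kernel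

theorem nuc_rels : Pts.relsB nucPts trioChain tPats (J4Nucleus.relWords.map Pts.toNat) nucPtsRel =
    true := by decide +kernel

theorem nuc_spell : ∀ z, z < nucPts.word.length →
    nucPts.sv tSym (nucPts.spell.getD z []) = nucPts.pt tSym z :=
  Pts.sv_spell tPats_one nuc_steps

theorem nuc_target {l : List (Fin 5 × Bool)} (hl : l ∈ J4Nucleus.targets) :
    nucPts.sv tSym (Pts.toNat l) = 1 := by
  rw [← Pts.lift_toNat]
  refine J4Nucleus.holds _ (fun r hr => ?_) l hl
  rw [Pts.lift_toNat]
  exact Pts.sv_rels tPats_one nuc_spell _ _ nuc_rels _ (List.mem_map_of_mem hr)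

/-- The element. -/
noncomputable def nucU : J := (nucTri.map (nucPts.pt tSym)).prod

/-- A list of points whose spelling reduces to a target. -/
def nucListB (l : List Nat) : Bool :=
  (l.all fun z => decide (z < nucPts.word.length)) && J4Nucleus.targets.any fun t =>
    Pts.red2 (Pts.toNat t) == Pts.red2 (l.flatMap fun z => nucPts.spell.getD z [])

theorem prod_eq_one_of_list {l : List Nat} (h : nucListB l = true) :
    (l.map (nucPts.pt tSym)).prod = 1 := by
  simp only [nucListB, Bool.and_eq_true, List.all_eq_true, decide_eq_true_eq, List.any_eq_true,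
    beq_iff_eq] at h
  obtain ⟨hl, t, ht, he⟩ := h
  rw [← Pts.sv_flat nuc_spell l hl, ← Pts.sv_red2, ← he, Pts.sv_red2, nuc_target ht]

theorem nuc_sq_list : nucListB (nucTri ++ nucTri) = true := by decide +kernel

theorem nucU_sq : nucU * nucU = 1 := by
  have h := prod_eq_one_of_list nuc_sq_list
  rwa [List.map_append, List.prod_append] at h

theorem prod_reverse (l : List Nat) :
    ((l.reverse).map (nucPts.pt tSym)).prod = ((l.map (nucPts.pt tSym)).prod)⁻¹ := by
  induction l with
  | nil => simp
  | cons z l ih =>
    rw [List.reverse_cons, List.map_append, List.prod_append, ih]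
    simp only [List.map_cons, List.map_nil, List.prod_cons, List.prod_nil, mul_one, mul_inv_rev,
      inv_eq_of_mul_eq_one_right (Pts.pt_sq nucPts tSym z)]

/-- The checks for one word fixing the sextet. -/
noncomputable def nucImgB (x : Word × List Nat) : Bool :=
  nucListB (nucTri ++ x.2.reverse) &&
    sameAllB trioChain x.1 (x.2.map fun z => nucPts.word.getD z [])
      (nucTri.map fun z => nucPts.word.getD z [])

theorem nucImg_ok : nucImg.all nucImgB = true := by decide +kernel

theorem nucU_commute {x : Word × List Nat} (hx : x ∈ nucImg) : Commute nucU (val x.1) := by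
  have h := List.all_eq_true.1 nucImg_ok x hx
  rw [nucImgB, Bool.and_eq_true] at h
  have h1 := prod_eq_one_of_list h.1
  rw [List.map_append, List.prod_append, prod_reverse, mul_inv_eq_one] at h1
  have h2 := prod_sameAll tSym x.1 _ _ h.2
  simp only [List.map_map] at h2
  have e : (conjW tSym.c ∘ fun z => nucPts.word.getD z []) = nucPts.pt tSym := rfl
  rw [e, ← h1, ← nucU] at h2
  show nucU * val x.1 = val x.1 * nucU
  calc nucU * val x.1 = val x.1 * ((val x.1)⁻¹ * nucU * val x.1) := by group
    _ = val x.1 * nucU := by rw [← h2]

/-- The words fixing the sextet and their inverses. -/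
def sextetGen : List Word := (nucImg.map Prod.fst) ++ (nucImg.map fun x => winv x.1)

/-- Products of them. -/
def sextetS : List Word := sextetPieces.map fun p => (p.map fun k => sextetGen.getD k []).flatten

theorem sextet_chain : chainB sextetChain sextetS = true := by decide +kernel

/-- The symmetry data of the element of the sextet. -/
noncomputable def uSym : Sym where
  c := nucU
  Ls := sextetChain
  S := sextetS
  sq := nucU_sq
  chain := sextet_chain
  comm := by
    intro s hs
    obtain ⟨p, -, rfl⟩ := List.mem_map.1 hs
    refine commute_flatten (fun g hg => ?_) p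
    rcases List.mem_append.1 hg with hg | hg
    · obtain ⟨x, hx, rfl⟩ := List.mem_map.1 hg
      exact nucU_commute hx
    · obtain ⟨x, hx, rfl⟩ := List.mem_map.1 hg
      rw [val_winv]
      exact (nucU_commute hx).inv_right

theorem uSym_c : uSym.c = nucU := rfl

end Cfsg.Agent.J4DC
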