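import Cfsg.Agent.J4DC.CloChecks
import Cfsg.Agent.J4Aff.Main

/-!
# The elements of the sextets generate an elementary abelian group of order at most 2 ^ 11

Thirteen of them commute, every one needed is a product of these, and so the map of the space
respects the action of x and y.
-/

set_option autoImplicit false
set_option maxRecDepth 100000

namespace Cfsg.Agent.J4DC

open Cfsg Cfsg.Agent.Compute Cfsg.Agent.CosetCert Cfsg.Agent.J4M24 Cfsg.Agent.J4Aff

local notation "J" => Cfsg.Spor.J4

/-- The element of a point. -/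
noncomputable def cpt (z : Nat) : J := conjW nucU (cw z)

theorem cpt_sq (z : Nat) : cpt z * cpt z = 1 := Pts.conjW_sq uSym _

theorem seed_commute : ∀ i < 13, ∀ j < 13, Commute (cpt i) (cpt j) := by
  have key : ∀ i < 13, ∀ j < 13, i < j → Commute (cpt i) (cpt j) := by
    intro i hi j hj hij
    have h := List.all_eq_true.1 (List.all_eq_true.1 comm_cover i (List.mem_range.2 hi)) j
      (List.mem_range.2 hj)
    rw [Bool.or_eq_true, Nat.ble_eq] at h
    obtain ⟨x, hx, he⟩ := List.any_eq_true.1 (h.resolve_left (by omega))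
    rw [Bool.and_eq_true, Nat.beq_eq, Nat.beq_eq] at he
    have h1 : evR uSym.c ([cw x.1, cw x.2.1, cw x.1, cw x.2.1].flatMap rconj) = 1 :=
      evR_eq_one uSym uPats_one (List.all_eq_true.1 comm_ok x hx)
    rw [uSym_c, evR_rconj_words, he.1, he.2] at h1
    simp only [List.map_cons, List.map_nil, List.prod_cons, List.prod_nil, mul_one] at h1
    change cpt i * (cpt j * (cpt i * cpt j)) = 1 at h1
    rw [← mul_assoc] at h1
    have h2 := eq_inv_of_mul_eq_one_left h1
    rw [mul_inv_rev, inv_eq_of_mul_eq_one_right (cpt_sq i),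
      inv_eq_of_mul_eq_one_right (cpt_sq j)] at h2
    exact h2
  intro i hi j hj
  rcases Nat.lt_trichotomy i j with h | rfl | h
  · exact key i hi j hj h
  · exact Commute.refl _
  · exact (key j hj i hi h).symm

/-- The product of the seeds of a mask. -/
noncomputable def mprod (m : Nat) : J := V.bitProd cpt 13 m

theorem mprod_xor (a b : Nat) : mprod (a ^^^ b) = mprod a * mprod b :=
  V.bitProd_xor cpt 13 (fun i _ => cpt_sq i) seed_commute a b

theorem mprod_zero : mprod 0 = 1 := by
  have h := mprod_xor 0 0
  rw [Nat.xor_self] at h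
  exact mul_eq_left.1 h.symm

theorem mprod_sq (a : Nat) : mprod a * mprod a = 1 := by
  rw [← mprod_xor, Nat.xor_self, mprod_zero]

theorem mprod_commute (a b : Nat) : Commute (mprod a) (mprod b) := by
  show mprod a * mprod b = mprod b * mprod a
  rw [← mprod_xor, ← mprod_xor, Nat.xor_comm]

theorem cpt_eq : ∀ z, z < cloWord.length → cpt z = mprod (cm z) := by
  intro z
  induction z using Nat.strong_induction_on with
  | _ z ih =>
    intro hz
    by_cases h13 : z < 13
    · have h := List.all_eq_true.1 seed_ok z (List.mem_range.2 h13)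
      rw [Nat.beq_eq] at h
      rw [h, mprod, V.bitProd_two_pow, if_pos h13]
    · obtain ⟨i, rfl⟩ : ∃ i, z = 13 + i := ⟨z - 13, by omega⟩
      have hi : i < cloStep.length := by rw [word_len] at hz; omega
      have h := List.all_eq_true.1 step_ok i (List.mem_range.2 hi)
      simp only [Bool.and_eq_true, Nat.blt_eq, Nat.beq_eq] at h
      obtain ⟨⟨⟨hp, hq⟩, hm⟩, hh⟩ := h
      have h1 := evR_eq_one uSym uPats_one hh
      rw [uSym_c, evR_rconj_words] at h1
      simp only [List.map_cons, List.map_nil, List.prod_cons, List.prod_nil, mul_one] at h1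
      set x := cloStep.getD i (0, 0, ⟨0, false, 0, []⟩)
      change cpt x.1 * (cpt x.2.1 * cpt (13 + i)) = 1 at h1
      rw [← mul_assoc] at h1
      have h2 := eq_inv_of_mul_eq_one_right h1
      rw [ih _ hp (by omega), ih _ hq (by omega), ← mprod_xor,
        inv_eq_of_mul_eq_one_right (mprod_sq _)] at h2
      rw [h2, hm]
      rfl

theorem rel_one' {x : List Nat × Hint} (hx : x ∈ cloRel) : mprod (relMask x) = 1 := by
  have h := List.all_eq_true.1 rel_ok x hx
  simp only [Bool.and_eq_true, List.all_eq_true, Nat.blt_eq] at h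
  have h1 := evR_eq_one uSym uPats_one h.2
  rw [uSym_c, evR_rconj_words, List.map_map] at h1
  refine Eq.trans ?_ h1
  have key : ∀ l : List Nat, (∀ z ∈ l, z < cloWord.length) →
      mprod ((l.map cm).foldr Nat.xor 0) = (l.map (conjW nucU ∘ cw)).prod := by
    intro l
    induction l with
    | nil => exact fun _ => mprod_zero
    | cons z l ih =>
      intro hl
      rw [List.map_cons, List.foldr_cons, List.map_cons, List.prod_cons,
        ← ih fun w hw => hl w (List.mem_cons_of_mem _ hw)]
      exact (mprod_xor _ _).trans (congrArg (· * _) (cpt_eq z (hl z List.mem_cons_self)).symm)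
  exact key x.1 h.1

theorem triv_one {m : Nat} (h : trivB m = true) : mprod m = 1 := by
  have hr : ∀ i, i < 2 → mprod (relMask (cloRel.getD i ([], ⟨0, false, 0, []⟩))) = 1 := fun i hi => by
    rw [List.getD_eq_getElem _ _ (by rw [rel_len]; exact hi)]
    exact rel_one' (List.getElem_mem _)
  simp only [trivB, Bool.or_eq_true, Nat.beq_eq] at h
  rcases h with ((h | h) | h) | h
  · rw [h, mprod_zero]
  · rw [h, hr 0 (by norm_num)]
  · rw [h, hr 1 (by norm_num)]
  · rw [h, show ∀ a b : Nat, Nat.xor a b = a ^^^ b from fun _ _ => rfl, mprod_xor,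
      hr 0 (by norm_num), hr 1 (by norm_num), mul_one]

theorem mprod_eq {a b : Nat} (h : trivB (Nat.xor a b) = true) : mprod a = mprod b := by
  have h1 := triv_one h
  rw [show Nat.xor a b = a ^^^ b from rfl, mprod_xor] at h1
  rw [eq_inv_of_mul_eq_one_left h1, inv_eq_of_mul_eq_one_right (mprod_sq b)]

theorem mprod_sel (c : Nat → Nat) : ∀ (n v : Nat),
    mprod (xorSel c n v) = V.bitProd (fun i => mprod (c i)) n v
  | 0, _ => mprod_zero
  | n + 1, v => by
    show mprod (Nat.xor (Bool.rec (motive := fun _ => Nat) 0 (c n) (v.testBit n)) (xorSel c n v)) = _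
    rw [show ∀ a b : Nat, Nat.xor a b = a ^^^ b from fun _ _ => rfl, mprod_xor, mprod_sel c n v,
      V.bitProd]
    cases v.testBit n
    · exact congrArg (· * _) mprod_zero
    · rfl

/-- The masks of the basis vectors. -/
def bmask (k : Nat) : Nat := cloBasis.getD k 0

/-- The map of the space. -/
noncomputable def phi : V →* J :=
  V.lift (fun k => mprod (bmask k)) (fun _ _ => mprod_sq _) fun _ _ _ _ => mprod_commute _ _

theorem phi_apply (v : V) : phi v = mprod (xorSel bmask 11 v.val.val) := by
  rw [mprod_sel]; rfl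

theorem phi_uV : phi uV = nucU := by
  have h := u_ok
  rw [Bool.and_eq_true, Bool.and_eq_true, Nat.blt_eq] at h
  rw [phi_apply, uV, V.val_mk' (by norm_num),
    show xorSel bmask 11 1135 = xorSel (fun k => cloBasis.getD k 0) 11 1135 from rfl,
    mprod_eq h.2, ← cpt_eq _ h.1.1, cpt, ← uSym_c, conjW_eq uSym h.1.2, conjW_nil]

theorem conj_bitProd (g : J) (e : Nat → J) : ∀ n v,
    g * V.bitProd e n v * g⁻¹ = V.bitProd (fun i => g * e i * g⁻¹) n v
  | 0, _ => by simp [V.bitProd]
  | n + 1, v => by
    rw [V.bitProd, V.bitProd, ← conj_bitProd g e n v]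
    split <;> group

theorem phi_equiv (b : Fin 2) (e : V) : phi (genAut b e) =
    iota24 (PresentedGroup.of b) * phi e * (iota24 (PresentedGroup.of b))⁻¹ := by
  set g := iota24 (PresentedGroup.of b)
  have hext : phi.comp (genAut b).toMonoidHom = (MulAut.conj g).toMonoidHom.comp phi := by
    refine V.hom_ext fun k hk => ?_
    have h2 : 2 ^ k < 2048 := by
      calc 2 ^ k ≤ 2 ^ 10 := Nat.pow_le_pow_right (by norm_num) (by omega)
        _ < 2048 := by norm_num
    show phi (genAut b (V.mk' (2 ^ k))) = g * phi (V.mk' (2 ^ k)) * g⁻¹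
    rw [show phi (V.mk' (2 ^ k)) = mprod (bmask k) from V.lift_basis _ _ _ hk, mprod, conj_bitProd]
    have himg : ∀ j < 13, g * cpt j * g⁻¹ = mprod (cm ((cloImg.getD b.val []).getD j 0)) := by
      intro j hj
      have h := List.all_eq_true.1 (List.all_eq_true.1 img_ok b.val (List.mem_range.2 b.isLt)) j
        (List.mem_range.2 hj)
      rw [Bool.and_eq_true, Nat.blt_eq, show Fin.ofNat 2 b.val = b from
        Fin.ext (Nat.mod_eq_of_lt b.isLt)] at h
      have hv : val [(b, false)] = g⁻¹ := by
        rw [show ([(b, false)] : Word) = winv [(b, true)] from rfl, val_winv, val_letter,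
          ← iota24_of]
      have hc := conjW_eq uSym h.2
      rw [← cpt_eq _ h.1, cpt, cpt, ← uSym_c, hc, conjW_append, hv, inv_inv]
    rw [V.bitProd_congr 13 himg, ← mprod_sel]
    have h := List.all_eq_true.1 (List.all_eq_true.1 equiv_ok b.val (List.mem_range.2 b.isLt)) k
      (List.mem_range.2 hk)
    refine Eq.trans ?_ (mprod_eq h)
    rw [phi_apply]
    have hb : genAut b (V.mk' (2 ^ k)) = V.mk' (DCoset.J4.tab.act (J4Aff.ivL b.val) (2 ^ k)) := by
      rw [genAut, aut_apply, mapV, V.val_mk' h2]
    rw [hb, V.val_mk' (act_lt (ivL_lt ⟨b.val, by omega⟩) h2)]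
    rfl
  exact DFunLike.congr_fun hext e

/-- The map of the affine group. -/
noncomputable def iota : QAff →* J :=
  iotaOf iota24 phi phi_equiv

end Cfsg.Agent.J4DC
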