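import Cfsg.Agent.J4DC.Sym

/-!
# Finitely many conjugates of an involution spelled in a few of them

The conjugates are numbered; each is a seed or the product of two earlier ones forming a known
relation with it.  So a word in the seeds built from these products has the expected value.
-/

set_option autoImplicit false

namespace Cfsg.Agent.J4DC

open Cfsg.Agent.Compute Cfsg.Agent.J4M24

/-- Numbered conjugates: their words, how each comes from two earlier ones, and spellings. -/
structure Pts where
  g : Nat
  word : List Word
  seed : List Nat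
  step : List (Option (Nat × Nat × Hint))
  spell : List (List Nat)

namespace Pts

variable (P : Pts) (Y : Sym)

/-- Conjugate number `z`. -/
noncomputable def pt (z : Nat) : Cfsg.Spor.J4 := conjW Y.c (P.word.getD z [])

/-- The value of a word in the seeds. -/
noncomputable def sv (l : List Nat) : Cfsg.Spor.J4 :=
  (l.map fun j => P.pt Y (P.seed.getD j 0)).prod

/-- The conjugates as `Raw` words. -/
def raw (l : List Nat) : Raw := l.flatMap fun z => rconj (P.word.getD z [])

theorem evR_raw : ∀ l : List Nat, evR Y.c (P.raw l) = (l.map (P.pt Y)).prod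
  | [] => by simp [raw, evR]
  | z :: l => by
    rw [raw, List.flatMap_cons, evR_append, evR_rconj, ← raw, evR_raw l, List.map_cons,
      List.prod_cons, pt]

theorem conjW_sq (w : Word) : conjW Y.c w * conjW Y.c w = 1 := by
  rw [conjW, show (val w)⁻¹ * Y.c * val w * ((val w)⁻¹ * Y.c * val w) =
    (val w)⁻¹ * (Y.c * Y.c) * val w by group, Y.sq]
  group

theorem pt_sq (z : Nat) : P.pt Y z * P.pt Y z = 1 := conjW_sq Y _

/-- Step `z` is justified by the known relators. -/
noncomputable def stepB (Ls : List Level) (pats : List Raw) (z : Nat) : Bool :=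
  match P.step.getD z none with
  | none => (P.spell.getD z []).length == 1 &&
      Nat.beq (P.seed.getD ((P.spell.getD z []).getD 0 0) 0) z
  | some (p, q, h) => decide (p < z) && decide (q < z) &&
      (P.spell.getD z [] == P.spell.getD p [] ++ P.spell.getD q []) &&
      hintB Ls pats (P.raw [p, q, z]) h

/-- All steps. -/
noncomputable def stepsB (Ls : List Level) (pats : List Raw) : Bool :=
  (List.range P.word.length).all (P.stepB Ls pats)

variable {P Y}

theorem sv_spell {pats : List Raw} (hp : ∀ p ∈ pats, evR Y.c p = 1)
    (h : P.stepsB Y.Ls pats = true) :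
    ∀ z, z < P.word.length → P.sv Y (P.spell.getD z []) = P.pt Y z := by
  intro z
  induction z using Nat.strong_induction_on with
  | _ z ih =>
    intro hz
    have hh := List.all_eq_true.1 h z (List.mem_range.2 hz)
    unfold stepB at hh
    cases hs : P.step.getD z none with
    | none =>
      rw [hs] at hh
      simp only [Bool.and_eq_true, beq_iff_eq] at hh
      obtain ⟨j, hj⟩ := List.length_eq_one_iff.1 hh.1
      have h2 := Nat.eq_of_beq_eq_true hh.2
      rw [hj] at h2 ⊢
      simp only [List.getD_cons_zero] at h2
      simp only [sv, List.map_cons, List.map_nil, List.prod_cons, List.prod_nil, mul_one, h2]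
    | some x =>
      obtain ⟨p, q, hint⟩ := x
      rw [hs] at hh
      simp only [Bool.and_eq_true, beq_iff_eq, decide_eq_true_eq] at hh
      obtain ⟨⟨⟨hpz, hqz⟩, hsp⟩, hhint⟩ := hh
      have e := evR_eq_one Y hp hhint
      rw [evR_raw] at e
      simp only [List.map_cons, List.map_nil, List.prod_cons, List.prod_nil, mul_one] at e
      rw [hsp, sv, List.map_append, List.prod_append, ← sv, ← sv, ih p hpz (by omega),
        ih q hqz (by omega)]
      rw [← mul_assoc] at e
      rw [eq_inv_of_mul_eq_one_left e, inv_eq_of_mul_eq_one_right (P.pt_sq Y z)]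

/-- Cancel equal neighbours. -/
def red2 : List Nat → List Nat
  | [] => []
  | a :: l =>
    match red2 l with
    | [] => [a]
    | b :: m => if a = b then m else a :: b :: m

theorem sv_red2 : ∀ l : List Nat, P.sv Y (red2 l) = P.sv Y l
  | [] => rfl
  | a :: l => by
    have h := sv_red2 l
    rw [red2]
    cases hr : red2 l with
    | nil =>
      rw [hr] at h
      simp only [sv, List.map_cons, List.map_nil, List.prod_cons, List.prod_nil] at h ⊢
      rw [← h]
    | cons b m =>
      rw [hr] at h
      simp only [sv, List.map_cons, List.prod_cons] at h ⊢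
      rw [← h]
      by_cases e : a = b
      · subst e
        rw [if_pos rfl, ← mul_assoc, P.pt_sq Y, one_mul]
      · simp [if_neg e]

/-- Signed letters forgetting their signs. -/
def toNat {n : Nat} (l : List (Fin n × Bool)) : List Nat := l.map fun a => a.1.val

theorem lift_toNat {n : Nat} : ∀ l : List (Fin n × Bool),
    FreeGroup.lift (fun j : Fin n => P.pt Y (P.seed.getD j.val 0)) (FreeGroup.mk l) =
      P.sv Y (toNat l)
  | [] => by simp [sv, toNat]
  | a :: l => by
    have h := lift_toNat l
    rw [FreeGroup.lift_mk] at h ⊢
    rw [List.map_cons, List.prod_cons, h]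
    change _ = P.sv Y (a.1.val :: toNat l)
    simp only [sv, List.map_cons, List.prod_cons]
    obtain ⟨j, _ | _⟩ := a
    · simp only [cond_false]
      rw [inv_eq_of_mul_eq_one_right (P.pt_sq Y _)]
    · simp only [cond_true]

/-- The points whose product gives a relator in the seeds, with a hint. -/
noncomputable def relB (Ls : List Level) (pats : List Raw) (r : List Nat)
    (x : List Nat × Hint) : Bool :=
  (x.1.all fun z => decide (z < P.word.length)) &&
    (red2 r == red2 (x.1.flatMap fun z => P.spell.getD z [])) && hintB Ls pats (P.raw x.1) x.2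

/-- All relators. -/
noncomputable def relsB (P : Pts) (Ls : List Level) (pats : List Raw) :
    List (List Nat) → List (List Nat × Hint) → Bool
  | [], [] => true
  | r :: l, x :: l' => P.relB Ls pats r x && relsB P Ls pats l l'
  | _, _ => false

theorem sv_flat (hs : ∀ z, z < P.word.length → P.sv Y (P.spell.getD z []) = P.pt Y z) :
    ∀ l : List Nat, (∀ z ∈ l, z < P.word.length) →
      P.sv Y (l.flatMap fun z => P.spell.getD z []) = (l.map (P.pt Y)).prod
  | [], _ => by simp [sv]
  | z :: l, hl => by
    rw [List.flatMap_cons, sv, List.map_append, List.prod_append, ← sv, ← sv,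
      sv_flat hs l fun w hw => hl w (List.mem_cons_of_mem _ hw), hs z (hl z List.mem_cons_self),
      List.map_cons, List.prod_cons]

theorem sv_rels {pats : List Raw} (hp : ∀ p ∈ pats, evR Y.c p = 1)
    (hs : ∀ z, z < P.word.length → P.sv Y (P.spell.getD z []) = P.pt Y z) :
    ∀ (l : List (List Nat)) (l' : List (List Nat × Hint)),
      P.relsB Y.Ls pats l l' = true → ∀ r ∈ l, P.sv Y r = 1
  | [], _, _ => by simp
  | _ :: _, [], h => by simp [relsB] at h
  | r :: l, x :: l', h => by
    rw [relsB, Bool.and_eq_true] at h
    intro q hq
    rcases List.mem_cons.1 hq with rfl | hq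
    · obtain ⟨hh, -⟩ := h
      simp only [relB, Bool.and_eq_true, beq_iff_eq, List.all_eq_true, decide_eq_true_eq] at hh
      rw [← sv_red2, hh.1.2, sv_red2, sv_flat hs _ hh.1.1, ← evR_raw]
      exact evR_eq_one Y hp hh.2
    · exact sv_rels hp hs l l' h.2 q hq

end Pts

end Cfsg.Agent.J4DC
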