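import Cfsg.Agent.J4DC.Phi
import Cfsg.Agent.J4DC.Scan
import Cfsg.Agent.J4DC.RuleHints
import Cfsg.Agent.DCoset.J4W.RuleData
import Cfsg.Agent.J4DC.Model9
import Cfsg.Agent.DCoset.Steps

/-!
# The rules and relators of the enumeration hold in the presented J4

A rule without t is trivial; a rule with x and v commutes with t; the element of the sextet moved
by the last two rules changes by a fixed element of <x, y>, which follows from two relators and the
certificate of the nucleus.  Every relator is a conjugate of the last two of the presentation.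
-/

set_option autoImplicit false
set_option maxRecDepth 100000

namespace Cfsg.Agent.J4DC

open Cfsg Cfsg.Agent.Compute Cfsg.Agent.CosetCert Cfsg.Agent.DCoset Cfsg.Agent.DCoset.J4W
  Cfsg.Agent.J4M24 Cfsg.Agent.J4Aff

local notation "J" => Cfsg.Spor.J4

/-- The extra letters. -/
noncomputable def tEl : Nat → J
  | 0 => 1
  | _ => gt

/-- A letter of the model. -/
def letM : Nat → Option (Fin 2 × Bool)
  | 0 => some (0, true)
  | 1 => some (1, true)
  | 2 => some (1, false)
  | _ => none

/-- A letter of the larger model, spelled out. -/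
def letM9 (g : Nat) : Raw := if g < 4 then [letM g] else (uWord (g - 4)).map letM

/-- The letters of a packed word. -/
def unpR : Nat → Nat → Raw
  | 0, _ => []
  | n + 1, w => letM9 (w % 256) ++ unpR n (w / 256)

/-- A packed word. -/
def unpM (w : Nat) : Raw := unpR (w % 65536) (w / 65536)

/-- It has the letters x, y only. -/
def xyB (r : Raw) : Bool := r.all fun o => o.isSome

theorem iota_q {g : Nat} (hg : g < 4) : iota (qAff g) = letR nucU (letM g) := by
  have h0 : iota24 (PresentedGroup.of (1 : Fin 2)) = J4DC.val [(1, true)] := by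
    rw [val_letter, iota24_of]
  interval_cases g
  · show iota (SemidirectProduct.inr _) = _
    rw [iota, iotaOf_inr]
    exact (iota24_of 0).trans (val_letter 0).symm
  · show iota (SemidirectProduct.inr _) = _
    rw [iota, iotaOf_inr, h0]
    rfl
  · show iota (SemidirectProduct.inr _) = _
    rw [iota, iotaOf_inr, map_inv, h0]
    exact (val_flip (1, true)).symm
  · show iota (SemidirectProduct.inl uV) = _
    rw [iota, iotaOf_inl, phi_uV]
    rfl

theorem iota_q9 {g : Nat} (hg : g < 9) : iota (q9 g) = evR nucU (letM9 g) := by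
  unfold q9 letM9
  split_ifs with h
  · rw [iota_q h]; simp [evR]
  · have hw := uWord_lt ⟨g - 4, by omega⟩
    rw [map_list_prod, List.map_map, evR, List.map_map]
    refine congrArg List.prod (List.map_congr_left fun x hx => ?_)
    exact iota_q (hw x hx)

theorem val_unpR : ∀ n w, lettersBelow 9 n w = true →
    valW (fun g => iota (q9 g)) n w = evR nucU (unpR n w)
  | 0, _, _ => by simp [valW, unpR, evR]
  | n + 1, w, hl => by
    rw [lettersBelow_succ, Bool.and_eq_true] at hl
    rw [valW, val_unpR n _ hl.2, iota_q9 (Nat.ble_eq.mp hl.1), unpR, evR_append]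

theorem val_word {w : Nat} (hw : tab.okWord w = true) :
    DCoset.val (model9.toModel iota).lv w = evR nucU (unpM w) := val_unpR _ _ hw

theorem evR_xy (c d : J) : ∀ {r : Raw}, xyB r = true → evR c r = evR d r
  | [], _ => rfl
  | none :: r, h => by simp [xyB] at h
  | some a :: r, h => by
    have h' : xyB r = true := by simpa [xyB] using h
    have := evR_xy c d h'
    simp only [evR, List.map_cons, List.prod_cons] at this ⊢
    rw [this]
    rfl

/-- The word read without its signs. -/
def xyW (r : Raw) : Word := r.filterMap id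

theorem evR_xyW (c : J) : ∀ {r : Raw}, xyB r = true → evR c r = J4DC.val (xyW r)
  | [], _ => by simp [evR, xyW, val_nil]
  | none :: r, h => by simp [xyB] at h
  | some a :: r, h => by
    have h' : xyB r = true := by simpa [xyB] using h
    have h2 := evR_xyW c h'
    have e : xyW (some a :: r) = [a] ++ xyW r := by simp [xyW]
    rw [e, val_append, ← h2]
    simp [evR, letR]

/-! ### The moved element -/

/-- The conjugate of the element of the sextet. -/
noncomputable def rN : J := conjW nucU rS11

/-- The words of its three conjugates of t. -/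
def rW3 : List Word := nucTri.map fun z => nucPts.word.getD z [] ++ rS11

/-- The words of another three. -/
def rW3' : List Word := nucTri.map fun z => nucPts.word.getD z [] ++ rG

theorem conjW_nuc (g : Word) :
    conjW nucU g = ((nucTri.map fun z => nucPts.word.getD z [] ++ g).map (conjW gt)).prod := by
  rw [← prod_conj_tri g, ← List.flatMap_map (fun z => nucPts.word.getD z [] ++ g), evR_rconj_list]

theorem rG_same : sameB sextetChain rG rS11 = true := by decide +kernel

theorem line_t : hintC trioChain tPats ([none] ++ rconj (rW3.getD 0 []) ++ rconj rThird)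
    (ruleHints.getD 0 ⟨3, false, 0, []⟩) = true := by decide +kernel

theorem img_t0 : hintC trioChain tPats ([none] ++ rconj (rW3.getD 1 []) ++ [none] ++
    rconj (rB.getD 0 []) ++ rw_ (winv (rP.getD 0 []))) (ruleHints.getD 1 ⟨3, false, 0, []⟩) =
      true := by decide +kernel

theorem img_t1 : hintC trioChain tPats ([none] ++ rconj (rW3.getD 2 []) ++ [none] ++
    rconj (rB.getD 1 []) ++ rw_ (winv (rP.getD 1 []))) (ruleHints.getD 2 ⟨3, false, 0, []⟩) =
      true := by decide +kernel

theorem three_same : (sameB trioChain (rW3.getD 0 [] ++ (rP.getD 0 [] ++ rP.getD 1 [])) (rW3'.getD 0 []) &&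
    sameB trioChain (rB.getD 0 [] ++ rP.getD 1 []) (rW3'.getD 1 []) &&
    sameB trioChain (rB.getD 1 []) (rW3'.getD 2 [])) = true := by decide +kernel

theorem rP_code : Nat.beq (evalCode (rP.getD 0 [] ++ rP.getD 1 [])) (evalCode rM) = true := by
  decide +kernel

theorem rM_same : sameB sextetChain (rS11 ++ rM) rS11 = true := by decide +kernel

theorem rW3_len : rW3.length = 3 ∧ rW3'.length = 3 := ⟨rfl, rfl⟩

theorem gt_conj_rN : gt * rN * gt = rN * J4DC.val rM := by
  obtain ⟨a, b, c, h3⟩ := List.length_eq_three.1 rW3_len.1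
  obtain ⟨a', b', c', h3'⟩ := List.length_eq_three.1 rW3_len.2
  have hn : rN = conjW gt a * conjW gt b * conjW gt c := by
    rw [rN, conjW_nuc, show nucTri.map _ = rW3 from rfl, h3]
    simp [mul_assoc]
  have hn' : rN = conjW gt a' * conjW gt b' * conjW gt c' := by
    rw [rN, ← uSym_c, ← conjW_eq uSym rG_same, uSym_c, conjW_nuc,
      show nucTri.map _ = rW3' from rfl, h3']
    simp [mul_assoc]
  have hs := three_same
  have hl := evR_eq_one_scan tSym tPats_one line_t
  have h0 := evR_eq_one_scan tSym tPats_one img_t0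
  have h1 := evR_eq_one_scan tSym tPats_one img_t1
  simp only [h3, h3', List.getD_cons_zero, List.getD_cons_succ, Bool.and_eq_true] at hs hl h0 h1
  rw [show tSym.c = gt from rfl] at hl h0 h1
  simp only [evR_append, evR_rconj, evR_rw, val_winv, show evR gt [none] = gt by simp [evR, letR]]
    at hl h0 h1
  set A := conjW gt a
  set B := conjW gt b
  set C := conjW gt c
  have hA : gt * A * gt = A := by
    have hD : conjW gt rThird * conjW gt rThird = 1 := Pts.conjW_sq tSym _
    have hA2 : A * A = 1 := Pts.conjW_sq tSym _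
    have e := eq_inv_of_mul_eq_one_left hl
    rw [inv_eq_of_mul_eq_one_right hD] at e
    have e2 := congrArg (·⁻¹) e
    simp only [mul_inv_rev, inv_eq_of_mul_eq_one_right hA2, inv_eq_of_mul_eq_one_right hD,
      inv_eq_of_mul_eq_one_right gt_sq] at e2
    rw [e, ← e2, mul_assoc, gt_sq, mul_one]
  set P0 := rP.getD 0 []
  set P1 := rP.getD 1 []
  set b0 := rB.getD 0 []
  set b1 := rB.getD 1 []
  have hB : gt * B * gt = J4DC.val P0 * conjW gt b0 := by
    have e := eq_inv_of_mul_eq_one_left h0
    rw [inv_inv] at e
    calc gt * B * gt = gt * B * gt * conjW gt b0 * (conjW gt b0)⁻¹ := by group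
      _ = _ := by rw [e, inv_eq_of_mul_eq_one_right (show conjW gt b0 * conjW gt b0 = 1 from Pts.conjW_sq tSym b0)]
  have hC : gt * C * gt = J4DC.val P1 * conjW gt b1 := by
    have e := eq_inv_of_mul_eq_one_left h1
    rw [inv_inv] at e
    calc gt * C * gt = gt * C * gt * conjW gt b1 * (conjW gt b1)⁻¹ := by group
      _ = _ := by rw [e, inv_eq_of_mul_eq_one_right (show conjW gt b1 * conjW gt b1 = 1 from Pts.conjW_sq tSym b1)]
  obtain ⟨⟨s0, s1⟩, s2⟩ := hs
  have e0 := conjW_eq tSym s0
  have e1 := conjW_eq tSym s1
  have e2 := conjW_eq tSym s2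
  rw [conjW_append] at e0 e1
  rw [show tSym.c = gt from rfl, val_append] at e0
  rw [show tSym.c = gt from rfl] at e1 e2
  have ht : gt * gt = 1 := gt_sq
  calc gt * rN * gt = gt * A * (gt * gt) * B * (gt * gt) * C * gt := by
        rw [hn, ht]; group
    _ = gt * A * gt * (gt * B * gt) * (gt * C * gt) := by group
    _ = A * (J4DC.val P0 * conjW gt b0) * (J4DC.val P1 * conjW gt b1) := by rw [hA, hB, hC]
    _ = (J4DC.val P0 * J4DC.val P1) * (((J4DC.val P0 * J4DC.val P1)⁻¹ * A * (J4DC.val P0 * J4DC.val P1)) *
        ((J4DC.val P1)⁻¹ * conjW gt b0 * J4DC.val P1) * conjW gt b1) := by group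
    _ = J4DC.val rM * rN := by
      rw [e0, e1, e2, ← hn', ← val_append, val_eq_of_code rP_code]
    _ = rN * J4DC.val rM := by
      have h := conjW_eq uSym rM_same
      rw [conjW_append, uSym_c] at h
      change (J4DC.val rM)⁻¹ * rN * J4DC.val rM = rN at h
      calc _ = J4DC.val rM * ((J4DC.val rM)⁻¹ * rN * J4DC.val rM) := by rw [h]
        _ = _ := by group

/-! ### The checks -/

/-- The word is the moved element, times the correction when `k`. -/
noncomputable def movedB (k : Bool) (r : Raw) : Bool :=
  matchB sextetChain [] r (rconj rS11 ++ bif k then rw_ rM else [])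

theorem moved_val {k : Bool} {r : Raw} (h : movedB k r = true) :
    evR nucU r = rN * bif k then J4DC.val rM else 1 := by
  have := evR_of_match uSym h
  rw [uSym_c, val_nil, inv_one, one_mul, mul_one, evR_append, evR_rconj] at this
  rw [this, rN]
  cases k
  · simp [evR]
  · rw [cond_true, cond_true, evR_rw]

/-- Rule `r` is of one of the four kinds. -/
noncomputable def ruleChk (r : Nat) : Bool :=
  (Nat.beq (rules.rS r) 0 && Nat.beq (rules.rD r) 0 && Nat.beq (rules.rU r) (rules.rV r)) ||
  (Nat.beq (rules.rS r) 1 && Nat.beq (rules.rD r) 1 &&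
    ((Nat.beq (rules.rU r) (rules.rV r) && xyB (unpM (rules.rU r)) &&
        inChain trioChain (xyW (unpM (rules.rU r)))) ||
      (movedB false (unpM (rules.rU r)) && movedB true (unpM (rules.rV r))) ||
      (movedB true (unpM (rules.rU r)) && movedB false (unpM (rules.rV r)))))

theorem rule_chk : ((List.range 14).all fun r => Nat.blt (rules.rS r) 2 && Nat.blt (rules.rD r) 2 &&
    tab.okWord (rules.rU r) && tab.okWord (rules.rV r) && ruleChk r) = true := by
  decide +kernel

/-- An extra letter in t. -/
def tRaw : Nat → Raw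
  | 0 => []
  | _ => [none]

/-- The word of relator `r`. -/
noncomputable def relRawM (r : Nat) : Raw :=
  (tRaw (rules.relHd r) ++ (List.range (rules.relLen r)).flatMap fun m =>
    unpM (rules.relW r m) ++ tRaw (rules.relT r m)) ++ rinv (unpM (rules.relTl r))

theorem rel_chk : ((List.range 14).all fun r => Nat.blt (rules.relHd r) 2 &&
    tab.okWord (rules.relTl r) && xyB (unpM (rules.relTl r)) &&
    hintC trioChain tPats (relRawM r) (relHints.getD r ⟨3, false, 0, []⟩) &&
    (List.range (rules.relLen r)).all fun m => Nat.blt (rules.relT r m) 2 &&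
      tab.okWord (rules.relW r m) && xyB (unpM (rules.relW r m))) = true := by
  decide +kernel

theorem tEl_raw {t : Nat} (_ht : t < 2) : tEl t = evR gt (tRaw t) := by
  rcases t with _ | t
  · simp [tEl, tRaw, evR]
  · simp [tEl, tRaw, evR, letR]

theorem rel_prod (r : Nat) : ∀ k, (∀ m, m < k → rules.relT r m < 2 ∧
      tab.okWord (rules.relW r m) = true ∧ xyB (unpM (rules.relW r m)) = true) →
    ((List.range k).map fun m => DCoset.val (model9.toModel iota).lv (rules.relW r m) *
      tEl (rules.relT r m)).prod =
    evR gt ((List.range k).flatMap fun m => unpM (rules.relW r m) ++ tRaw (rules.relT r m))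
  | 0, _ => by simp [evR]
  | k + 1, h => by
    obtain ⟨h1, h2, h3⟩ := h k (by omega)
    rw [List.range_succ, List.map_append, List.prod_append, List.flatMap_append, evR_append,
      rel_prod r k fun m hm => h m (by omega)]
    simp [val_word h2, tEl_raw h1, evR_append, evR_xy nucU gt h3]

/-- The rules hold. -/
theorem sound : rules.Sound (model9.toModel iota) tEl where
  T_zero := rfl
  inv_eq τ hτ := by
    change τ < 2 at hτ
    have h : ∀ t : Fin 2, rules.invT t.val = t.val := by decide +kernel
    rw [h ⟨τ, hτ⟩]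
    refine ⟨hτ, ?_⟩
    interval_cases τ
    · exact one_mul _
    · exact gt_sq
  mul_eq σ τ hσ hτ := by
    change σ < 2 at hσ
    change τ < 2 at hτ
    intro h0
    have h : ∀ s t : Fin 2, rules.mulT s.val t.val = 0 ∨
        rules.mulT s.val t.val - 1 = (s.val + t.val) % 2 := by decide +kernel
    have e : rules.mulT σ τ - 1 = (σ + τ) % 2 := (h ⟨σ, hσ⟩ ⟨τ, hτ⟩).resolve_left h0
    rw [e]
    refine ⟨Nat.mod_lt _ (show (0 : ℕ) < 2 by norm_num), ?_⟩
    interval_cases σ <;> interval_cases τ
    · exact one_mul _
    · exact one_mul _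
    · exact mul_one _
    · exact gt_sq
  rule_ok r hr := by
    change r < 14 at hr
    have h := List.all_eq_true.1 rule_chk r (List.mem_range.2 hr)
    simp only [Bool.and_eq_true] at h
    obtain ⟨⟨⟨⟨hS, hD⟩, hU⟩, hV⟩, hc⟩ := h
    refine ⟨Nat.ble_eq.mp hS, Nat.ble_eq.mp hD, hU, hV, ?_⟩
    rw [val_word hU, val_word hV]
    simp only [ruleChk, Bool.or_eq_true, Bool.and_eq_true, Nat.beq_eq] at hc
    rcases hc with ⟨⟨h1, h2⟩, h3⟩ | ⟨⟨h1, h2⟩, hc⟩
    · rw [h1, h2, h3]; simp [tEl]
    · rw [h1, h2, show tEl 1 = gt from rfl]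
      rcases hc with (⟨⟨h3, hxy⟩, hin⟩ | ⟨hu, hv⟩) | ⟨hu, hv⟩
      · rw [← h3, evR_xyW nucU hxy]
        exact (commute_of_chain tSym.chain tSym.comm hin).eq
      · rw [moved_val hu, moved_val hv, cond_false, cond_true, mul_one, ← gt_conj_rN,
          ← mul_assoc, ← mul_assoc, gt_sq, one_mul]
      · rw [moved_val hu, moved_val hv, cond_false, cond_true, mul_one, ← gt_conj_rN, mul_assoc,
          gt_sq, mul_one]
  rel_ok r hr := by
    change r < 14 at hr
    have h := List.all_eq_true.1 rel_chk r (List.mem_range.2 hr)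
    simp only [Bool.and_eq_true] at h
    obtain ⟨⟨⟨⟨hH, hT⟩, hTx⟩, hc⟩, hW⟩ := h
    have hW' : ∀ m, m < rules.relLen r → rules.relT r m < 2 ∧
        tab.okWord (rules.relW r m) = true ∧ xyB (unpM (rules.relW r m)) = true := fun m hm => by
      have := List.all_eq_true.1 hW m (List.mem_range.2 hm)
      simp only [Bool.and_eq_true] at this
      exact ⟨Nat.ble_eq.mp this.1.1, this.1.2, this.2⟩
    refine ⟨Nat.ble_eq.mp hH, hT, fun m hm => ⟨(hW' m hm).1, (hW' m hm).2.1⟩, ?_⟩
    have h1 := evR_eq_one_scan tSym tPats_one hc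
    rw [relRawM, evR_append, evR_rinv tSym.sq, evR_append, mul_inv_eq_one] at h1
    rw [val_word hT, rel_prod r _ hW', tEl_raw (Nat.ble_eq.mp hH), evR_xy nucU gt hTx]
    exact h1

end Cfsg.Agent.J4DC
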