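import Cfsg.Agent.J4DC.Base

/-!
# Relators in x, y and one further involution

Fix an involution `c` of the presented J4 commuting with a certified subgroup.  A word in `x`, `y`
and `c` is a product of conjugates of `c` times a word in `x`, `y`; two such words are compared
factor by factor after conjugation, which proves a relator from a known one.
-/

set_option autoImplicit false

namespace Cfsg.Agent.J4DC

open Cfsg.Agent.Compute Cfsg.Agent.J4M24

local notation "J" => Cfsg.Spor.J4

/-- Words in `x`, `y` and the further involution `none`. -/
abbrev Raw : Type := List (Option (Fin 2 × Bool))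

/-- A conjugate of `c`. -/
noncomputable def conjW (c : J) (w : Word) : J := (val w)⁻¹ * c * val w

/-- A letter. -/
noncomputable def letR (c : J) : Option (Fin 2 × Bool) → J
  | none => c
  | some a => val [a]

/-- The value of a word. -/
noncomputable def evR (c : J) (r : Raw) : J := (r.map (letR c)).prod

/-- A product of conjugates of `c` and a word. -/
noncomputable def evN (c : J) (p : List Word × Word) : J :=
  (p.1.map (conjW c)).prod * val p.2

/-- Inverse of a letter. -/
def oinv : Option (Fin 2 × Bool) → Option (Fin 2 × Bool)
  | none => none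
  | some a => some (a.1, !a.2)

/-- The inverse word, when `c` is an involution. -/
def rinv (r : Raw) : Raw := (r.map oinv).reverse

/-- A word in `x`, `y` as a `Raw` word. -/
def rw_ (w : Word) : Raw := w.map some

/-- The conjugate of `c` by a word, as a `Raw` word. -/
def rconj (w : Word) : Raw := rw_ (winv w) ++ none :: rw_ w

/-- Cyclic rotation. -/
def rot (i : Nat) (r : Raw) : Raw := r.drop i ++ r.take i

/-- Collect the conjugates of `c` to the left. -/
def norm : Raw → List Word × Word
  | [] => ([], [])
  | none :: r => ([] :: (norm r).1, (norm r).2)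
  | some a :: r => ((norm r).1.map (fun w => w ++ winv [a]), a :: (norm r).2)

theorem evR_append (c : J) (a b : Raw) : evR c (a ++ b) = evR c a * evR c b := by
  simp [evR, List.map_append]

theorem evR_rw (c : J) : ∀ w : Word, evR c (rw_ w) = val w
  | [] => by simp [evR, rw_, val_nil]
  | a :: w => by
    have h := evR_rw c w
    rw [show a :: w = [a] ++ w from rfl, val_append, ← h]
    simp [evR, rw_, letR]

theorem conjW_nil (c : J) : conjW c [] = c := by simp [conjW, val_nil]

theorem evR_rconj (c : J) (w : Word) : evR c (rconj w) = conjW c w := by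
  rw [rconj, show rw_ (winv w) ++ none :: rw_ w = rw_ (winv w) ++ ([none] ++ rw_ w) from rfl,
    evR_append, evR_append, evR_rw, evR_rw, val_winv, conjW, ← mul_assoc]
  simp [evR, letR]

theorem conjW_append (c : J) (w g : Word) : conjW c (w ++ g) = (val g)⁻¹ * conjW c w * val g := by
  simp [conjW, val_append, mul_assoc]

theorem prod_conjW_append (c : J) (g : Word) : ∀ l : List Word,
    ((l.map (fun w => w ++ g)).map (conjW c)).prod = (val g)⁻¹ * (l.map (conjW c)).prod * val g
  | [] => by simp
  | w :: l => by
    simp only [List.map_cons, List.prod_cons, prod_conjW_append c g l, conjW_append]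
    group

theorem evN_norm (c : J) : ∀ r : Raw, evN c (norm r) = evR c r
  | [] => by simp [norm, evN, evR, val_nil]
  | none :: r => by
    have h := evN_norm c r
    simp only [evN] at h
    simp [norm, evN, evR, letR, conjW_nil, mul_assoc, h] 
  | some a :: r => by
    have h := evN_norm c r
    simp only [evN] at h
    simp only [norm, evN, prod_conjW_append, val_winv, inv_inv]
    rw [show a :: (norm r).2 = [a] ++ (norm r).2 from rfl, val_append]
    simp [evR, letR] at h ⊢
    rw [← h]
    group

theorem evR_rot {c : J} {r : Raw} (i : Nat) (h : evR c r = 1) : evR c (rot i r) = 1 := by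
  rw [← List.take_append_drop i r, evR_append] at h
  rw [rot, evR_append]
  exact mul_eq_one_comm.1 h

theorem val_flip (a : Fin 2 × Bool) : val [(a.1, !a.2)] = (val [a])⁻¹ := by
  rw [← val_winv]; rfl

theorem evR_rinv {c : J} (hc : c * c = 1) : ∀ r : Raw, evR c (rinv r) = (evR c r)⁻¹
  | [] => by simp [rinv, evR]
  | o :: r => by
    have h := evR_rinv hc r
    rw [rinv, List.map_cons, List.reverse_cons, evR_append, show (r.map oinv).reverse = rinv r from rfl, h]
    rcases o with _ | a
    · simp [evR, letR, oinv, inv_eq_of_mul_eq_one_right hc]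
    · simp [evR, letR, oinv, val_flip]

/-- An involution of J4 with a certified subgroup commuting with it. -/
structure Sym where
  c : J
  Ls : List Level
  S : List Word
  sq : c * c = 1
  chain : chainB Ls S = true
  comm : ∀ s ∈ S, Commute c (val s)

/-- `w` and `w'` give the same conjugate. -/
noncomputable def sameB (Ls : List Level) (w w' : Word) : Bool := inChain Ls (w ++ winv w')

theorem conjW_eq (Y : Sym) {w w' : Word} (h : sameB Y.Ls w w' = true) :
    conjW Y.c w = conjW Y.c w' := by
  have hh := (commute_of_chain Y.chain Y.comm h).eq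
  rw [val_append, val_winv] at hh
  calc conjW Y.c w = (val w)⁻¹ * (Y.c * (val w * (val w')⁻¹)) * val w' := by rw [conjW]; group
    _ = conjW Y.c w' := by rw [hh, conjW]; group

/-- Entrywise `sameB` after conjugating the second list by `g`. -/
noncomputable def sameAllB (Ls : List Level) (g : Word) : List Word → List Word → Bool
  | [], [] => true
  | a :: l, b :: l' => sameB Ls a (b ++ g) && sameAllB Ls g l l'
  | _, _ => false

theorem prod_sameAll (Y : Sym) (g : Word) : ∀ l l' : List Word, sameAllB Y.Ls g l l' = true →
    (l.map (conjW Y.c)).prod = (val g)⁻¹ * (l'.map (conjW Y.c)).prod * val g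
  | [], [], _ => by simp
  | [], _ :: _, h => by simp [sameAllB] at h
  | _ :: _, [], h => by simp [sameAllB] at h
  | a :: l, b :: l', h => by
    rw [sameAllB, Bool.and_eq_true] at h
    simp only [List.map_cons, List.prod_cons, prod_sameAll Y g l l' h.2, conjW_eq Y h.1,
      conjW_append]
    group

/-- The word `r` is the conjugate by `g` of the word `p`. -/
noncomputable def matchB (Ls : List Level) (g : Word) (r p : Raw) : Bool :=
  sameAllB Ls g (norm r).1 (norm p).1 &&
    Nat.beq (evalCode (norm r).2) (evalCode (winv g ++ (norm p).2 ++ g))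

theorem evR_of_match (Y : Sym) {g : Word} {r p : Raw} (h : matchB Y.Ls g r p = true) :
    evR Y.c r = (val g)⁻¹ * evR Y.c p * val g := by
  rw [matchB, Bool.and_eq_true] at h
  rw [← evN_norm, ← evN_norm, evN, evN, prod_sameAll Y g _ _ h.1, val_eq_of_code h.2,
    val_append, val_append, val_winv]
  group

/-- A known relator turned into the one to prove: number, inversion, rotation, conjugation. -/
structure Hint where
  k : Nat
  flip : Bool
  shift : Nat
  g : Word

/-- The relator named by a hint. -/
def Hint.pat (pats : List Raw) (h : Hint) : Raw :=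
  rot h.shift (bif h.flip then rinv (pats.getD h.k []) else pats.getD h.k [])

/-- The hint proves the relator. -/
noncomputable def hintB (Ls : List Level) (pats : List Raw) (r : Raw) (h : Hint) : Bool :=
  matchB Ls h.g r (h.pat pats)

theorem evR_eq_one (Y : Sym) {pats : List Raw} (hp : ∀ p ∈ pats, evR Y.c p = 1) {r : Raw}
    {h : Hint} (hh : hintB Y.Ls pats r h = true) : evR Y.c r = 1 := by
  have h0 : evR Y.c (pats.getD h.k []) = 1 := by
    by_cases hk : h.k < pats.length
    · rw [List.getD_eq_getElem _ _ hk]; exact hp _ (List.getElem_mem _)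
    · rw [List.getD_eq_default _ _ (Nat.le_of_not_lt hk)]; simp [evR]
  have h1 : evR Y.c (h.pat pats) = 1 := by
    apply evR_rot
    cases h.flip
    · exact h0
    · rw [cond_true, evR_rinv Y.sq, h0, inv_one]
  rw [evR_of_match Y hh, h1, mul_one, inv_mul_cancel]

/-- All relators of a list are proved by their hints. -/
noncomputable def hintsB (Ls : List Level) (pats : List Raw) : List Raw → List Hint → Bool
  | [], [] => true
  | r :: l, h :: l' => hintB Ls pats r h && hintsB Ls pats l l'
  | _, _ => false

theorem all_eq_one (Y : Sym) {pats : List Raw} (hp : ∀ p ∈ pats, evR Y.c p = 1) :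
    ∀ (l : List Raw) (l' : List Hint), hintsB Y.Ls pats l l' = true → ∀ r ∈ l, evR Y.c r = 1
  | [], _, _ => by simp
  | _ :: _, [], h => by simp [hintsB] at h
  | r :: l, h :: l', e => by
    rw [hintsB, Bool.and_eq_true] at e
    intro q hq
    rcases List.mem_cons.1 hq with rfl | hq
    · exact evR_eq_one Y hp e.1
    · exact all_eq_one Y hp l l' e.2 q hq

/-- Substitute `Raw` words for signed letters. -/
def rsubst {n : Nat} (R : Fin n → Raw) (l : List (Fin n × Bool)) : Raw :=
  l.flatMap fun a => bif a.2 then R a.1 else rinv (R a.1)

theorem lift_rsubst (Y : Sym) {n : Nat} (R : Fin n → Raw) : ∀ l : List (Fin n × Bool),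
    FreeGroup.lift (fun j => evR Y.c (R j)) (FreeGroup.mk l) = evR Y.c (rsubst R l)
  | [] => by simp [rsubst, evR]
  | a :: l => by
    have h := lift_rsubst Y R l
    rw [FreeGroup.lift_mk] at h ⊢
    rw [rsubst, List.flatMap_cons, evR_append, ← rsubst, ← h, List.map_cons, List.prod_cons]
    obtain ⟨j, _ | _⟩ := a <;> simp [evR_rinv Y.sq]

end Cfsg.Agent.J4DC
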