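import Cfsg.Agent.J4DC.Sym
import Cfsg.Agent.J4DC.TrioData

/-!
# The generator t and its centraliser in <x, y>

`t` is an involution commuting with the two words generating a trio stabiliser.
-/

set_option autoImplicit false
set_option maxRecDepth 100000

namespace Cfsg.Agent.J4DC

open Cfsg Cfsg.Agent.Compute Cfsg.Agent.CosetCert Cfsg.Agent.J4M24

local notation "J" => Cfsg.Spor.J4

/-- A letter of a relator list read in `x`, `y` and `t`. -/
def rawLet : Spor.J4.Gen × Bool → Option (Fin 2 × Bool)
  | (.x, b) => some (0, b)
  | (.y, b) => some (1, b)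
  | (.t, _) => none

/-- Relator `i` read as a `Raw` word. -/
def relRaw (i : Nat) : Raw := (J4Rep.relLists.getD i []).map rawLet

theorem rel_one {l : List (Spor.J4.Gen × Bool)} (hl : l ∈ J4Rep.relLists) :
    (PresentedGroup.mk _ (FreeGroup.mk l) : J) = 1 := by
  rw [← J4Rep.relLists_eq, List.mem_map] at hl
  obtain ⟨r, hr, rfl⟩ := hl
  rw [FreeGroup.mk_toWord]
  exact PresentedGroup.one_of_mem (Or.inr hr)

theorem relt_mem : [(Spor.J4.Gen.t, true), (Spor.J4.Gen.t, true)] ∈ J4Rep.relLists := by
  decide +kernel

theorem gt_sq : gt * gt = 1 := by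
  have h := rel_one relt_mem
  rw [show FreeGroup.mk [(Spor.J4.Gen.t, true), (Spor.J4.Gen.t, true)] =
    FreeGroup.of Spor.J4.Gen.t * FreeGroup.of Spor.J4.Gen.t from rfl, map_mul] at h
  exact h

theorem val_letter (b : Fin 2) : val [(b, true)] = PresentedGroup.of (jGen b) := by
  rw [val, show qW [(b, true)] = PresentedGroup.of b from rfl, iota24_of]

theorem letR_rawLet (a : Spor.J4.Gen × Bool) :
    letR gt (rawLet a) = (PresentedGroup.mk _ (FreeGroup.mk [a]) : J) := by
  have hinv : ∀ g : Spor.J4.Gen, (PresentedGroup.mk _ (FreeGroup.mk [(g, false)]) : J) =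
      (PresentedGroup.of g : J)⁻¹ := by
    intro g
    rw [PresentedGroup.of, ← map_inv]
    rfl
  rcases a with ⟨g, _ | _⟩ <;> cases g
  · show val [((0 : Fin 2), !true)] = _
    rw [hinv]; exact (val_flip (0, true)).trans (congrArg (·⁻¹) (val_letter 0))
  · show val [((1 : Fin 2), !true)] = _
    rw [hinv]; exact (val_flip (1, true)).trans (congrArg (·⁻¹) (val_letter 1))
  · show gt = _
    rw [hinv]; exact (inv_eq_of_mul_eq_one_right gt_sq).symm
  · exact val_letter 0
  · exact val_letter 1
  · rfl

theorem evR_map_rawLet : ∀ l : List (Spor.J4.Gen × Bool),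
    evR gt (l.map rawLet) = (PresentedGroup.mk _ (FreeGroup.mk l) : J)
  | [] => by rw [← FreeGroup.one_eq_mk, map_one]; simp [evR]
  | a :: l => by
    rw [show (a :: l).map rawLet = [rawLet a] ++ l.map rawLet from rfl, evR_append,
      evR_map_rawLet l, show FreeGroup.mk (a :: l) = FreeGroup.mk [a] * FreeGroup.mk l from
        (by rw [FreeGroup.mul_mk]; rfl), map_mul]
    simp [evR, letR_rawLet]

theorem relRaw_one (i : Nat) : evR gt (relRaw i) = 1 := by
  rw [relRaw, evR_map_rawLet]
  by_cases hi : i < J4Rep.relLists.length
  · rw [List.getD_eq_getElem _ _ hi]; exact rel_one (List.getElem_mem _)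
  · rw [List.getD_eq_default _ _ (Nat.le_of_not_lt hi)]; exact map_one _

theorem commute_of_raw {w : Word} (h : evR gt ([none] ++ rw_ (winv w) ++ [none] ++ rw_ w) = 1) :
    Commute gt (val w) := by
  simp only [evR_append, evR_rw, val_winv] at h
  simp only [evR, List.map_cons, List.map_nil, List.prod_cons, List.prod_nil, mul_one, letR] at h
  show gt * val w = val w * gt
  have h2 := eq_inv_of_mul_eq_one_left h
  calc gt * val w = val w * ((val w)⁻¹ * gt * val w) := by group
    _ = val w * (gt * (gt * (val w)⁻¹ * gt * val w)) := by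
        rw [show gt * (gt * (val w)⁻¹ * gt * val w) = gt * gt * ((val w)⁻¹ * gt * val w) by group,
          gt_sq, one_mul]
    _ = val w * gt := by rw [h, mul_one]

theorem rel8_eq : relRaw 8 = [none] ++ rw_ (winv trioV) ++ [none] ++ rw_ trioV := by
  decide +kernel

theorem rel9_eq : relRaw 9 = [none] ++ rw_ (winv [(0, true)]) ++ [none] ++ rw_ [(0, true)] := by
  decide +kernel

/-- The words generating the trio stabiliser. -/
def trioGen : List Word := [[(0, true)], trioV, winv trioV]

/-- Products of them. -/
def trioS : List Word := trioPieces.map fun p => (p.map fun k => trioGen.getD k []).flatten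

theorem trio_chain : chainB trioChain trioS = true := by decide +kernel

theorem commute_flatten {c : J} {G : List Word} (hG : ∀ g ∈ G, Commute c (val g)) :
    ∀ p : List Nat, Commute c (val ((p.map fun k => G.getD k []).flatten))
  | [] => by rw [List.map_nil, List.flatten_nil, val_nil]; exact Commute.one_right c
  | k :: p => by
    rw [List.map_cons, List.flatten_cons, val_append]
    refine Commute.mul_right ?_ (commute_flatten hG p)
    by_cases hk : k < G.length
    · rw [List.getD_eq_getElem _ _ hk]; exact hG _ (List.getElem_mem _)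
    · rw [List.getD_eq_default _ _ (Nat.le_of_not_lt hk), val_nil]; exact Commute.one_right c

/-- The symmetry data of `t`. -/
noncomputable def tSym : Sym where
  c := gt
  Ls := trioChain
  S := trioS
  sq := gt_sq
  chain := trio_chain
  comm := by
    intro s hs
    obtain ⟨p, -, rfl⟩ := List.mem_map.1 hs
    refine commute_flatten (fun g hg => ?_) p
    have hx : Commute gt (val [(0, true)]) := commute_of_raw (rel9_eq ▸ relRaw_one 9)
    have hv : Commute gt (val trioV) := commute_of_raw (rel8_eq ▸ relRaw_one 8)
    simp only [trioGen, List.mem_cons, List.not_mem_nil, or_false] at hg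
    rcases hg with rfl | rfl | rfl
    · exact hx
    · exact hv
    · rw [val_winv]; exact hv.inv_right

/-- The known relators: `t ^ 2` and the last two of the presentation. -/
def tPats : List Raw := [[none, none], relRaw 10, relRaw 11, []]

theorem tPats_one : ∀ p ∈ tPats, evR gt p = 1 := by
  intro p hp
  simp only [tPats, List.mem_cons, List.not_mem_nil, or_false] at hp
  rcases hp with rfl | rfl | rfl | rfl
  · simp [evR, letR, gt_sq]
  · exact relRaw_one 10
  · exact relRaw_one 11
  · simp [evR]

theorem t_eq_one {r : Raw} {h : Hint} (e : hintB trioChain tPats r h = true) : evR gt r = 1 :=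
  evR_eq_one tSym tPats_one e

theorem t_all_eq_one (l : List Raw) (l' : List Hint) (e : hintsB trioChain tPats l l' = true) :
    ∀ r ∈ l, evR gt r = 1 :=
  all_eq_one tSym tPats_one l l' e

end Cfsg.Agent.J4DC
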